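import Cfsg.Agent.H938.Sax.SpRow
import Cfsg.Agent.H348.Der.Class
import Cfsg.Agent.StandardComponent.AltAut
import Cfsg.Agent.CpAut.Psl
import Cfsg.Agent.H947.Cyc.Sz_m3
import Cfsg.Agent.H743.TvFinal
import Cfsg.Agent.H813.SaxSpK
import Cfsg.Agent.Lib.Cores
import Cfsg.Agent.H547.Der.Gen_m3
import Cfsg.Agent.ClassicalGeometry.SympBasic
import Cfsg.Agent.ClassicalGeometry.Sp4Graph
import Cfsg.Agent.S0765
import Cfsg.Agent.S0985
import Cfsg.Agent.H970.TwoSporBase_m3
import Cfsg.Agent.H341.ThreeList_m3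
import Cfsg.Agent.Lib.Refl
import Cfsg.Agent.H500.SocleSimple
import Cfsg.Agent.H843.One
import Cfsg.Agent.H188.Der.Ro
import Mathlib
import Cfsg.Agent.H374.P4.OutSp
import Cfsg.Agent.H394.Der.G24Tab_m3
import Cfsg.Agent.H947.Cyc.Ree_m3
import Cfsg.Agent.H188.Der.U35B_m3
import Cfsg.Agent.H547.Der.OctG_m3
import Cfsg.Agent.S2638
import Cfsg.Agent.H834.Sax.Tool
import Cfsg.Agent.H834.Sax.Nine
import Cfsg.Agent.H809.SelfCentPSU
import Cfsg.Agent.H503.El.Fix2_m3
import Cfsg.Agent.H834.Sax.Lin_m3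
import Cfsg.Agent.FastGrp
import Cfsg.Agent.Prune
set_option linter.all false

section
prune_inst 0x7ff0acf9abb839dfdfff7e77a6d8cdfc39909fffa4dff94bffe069ff2bdf230209c5f3a909e010fe0ed6601410a87803f97eeeffe06bdc7ffffd5ff41ffbee0ff5f7b508119488340f340ffe03f0778e7f3fffffffffffffffffffffffffffbeffbfffffffff

-- part: H320/Der/F2
section
set_option linter.all false
open scoped Cfsg.Agent.FastGrp

/-!
# Elements of order `63` (`217`) of orthogonal groups over `F_2` of dimension at most `12` (`16`) (helper320, S3502)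
-/

set_option autoImplicit false
set_option linter.unusedSectionVars false

namespace Cfsg.Agent.H320.Der

open Module QuadraticMap Cfsg Cfsg.Geo Cfsg.Agent.LieClassical.OrthCore Cfsg.Agent.H955 Cfsg.Agent.H954.TSing
  Cfsg.Agent.H884.El Cfsg.Agent.LieClassical.OmegaReindex Cfsg.Agent.H938.Sax
open Cfsg.Agent.H951 (fx cm)
open scoped MatrixGroups Matrix

universe u v

/-- isometries of order `N` of nondegenerate spaces of dimension `≤ d`: the dimension is `d`, no fixed vectors -/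
def Lm (F : Type u) [Field F] [Fintype F] (N d : ℕ) : Prop :=
  ∀ {V : Type u} [AddCommGroup V] [Module F V] [FiniteDimensional F V] {Q : QuadraticForm F V} {g : Module.End F V},
    Nondeg Q → (∀ v, Q (g v) = Q v) → orderOf g = N → finrank F V ≤ d →
      finrank F V = d ∧ ∀ v, g v = v → v = 0

section

variable {F : Type u} [Field F] [Fintype F] {V : Type v} [AddCommGroup V] [Module F V] [FiniteDimensional F V]
  {Q : QuadraticForm F V}

theorem pp_of_card (hF : Fintype.card F = 2) {e r : ℕ} (hr : r.Prime) (h : orderOf (2 : ZMod r) = e) :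
    PP (Nat.card F) e r := ⟨hr, by rw [Nat.card_eq_fintype_card, hF]; exact_mod_cast h⟩

theorem pp31 (hF : Fintype.card F = 2) : PP (Nat.card F) 5 31 := pp_of_card hF (by norm_num) (by
  refine (orderOf_eq_iff (by norm_num)).2 ⟨by decide, fun m hm hm0 => ?_⟩
  interval_cases m <;> decide)

theorem pp7 (hF : Fintype.card F = 2) : PP (Nat.card F) 3 7 := pp_of_card hF (by norm_num) (by
  refine (orderOf_eq_iff (by norm_num)).2 ⟨by decide, fun m hm hm0 => ?_⟩
  interval_cases m <;> decide)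

theorem pp3 (hF : Fintype.card F = 2) : PP (Nat.card F) 2 3 := pp_of_card hF (by norm_num) (by
  refine (orderOf_eq_iff (by norm_num)).2 ⟨by decide, fun m hm hm0 => ?_⟩
  interval_cases m <;> decide)

theorem le_fx_of_inf {x y : Module.End F V} {s : ℕ} (hy : Iso Q y s) (hxy : x * y = y * x) (h : cm x ⊓ cm y = ⊥) :
    cm x ≤ fx y := by
  have h5 := H951.inf_fx_sup_inf_cm hy.ne0 hy.pow (Typ.inv_cm_of_comm hxy)
  rw [h, sup_bot_eq] at h5
  rw [← h5]
  exact inf_le_right

theorem fix_pow_of {g : Module.End F V} {v : V} (h : g v = v) (n : ℕ) : (g ^ n) v = v := H951.pow_fx h n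

/-- `217` -/
theorem main217 (hF : Fintype.card F = 2) {g : Module.End F V} (hQ : Nondeg Q) (hg : ∀ v, Q (g v) = Q v)
    (ho : orderOf g = 217) (hd : finrank F V ≤ 16) : finrank F V = 16 ∧ ∀ v, g v = v → v = 0 := by
  have hgo : g ^ 217 = 1 := by rw [← ho]; exact pow_orderOf_eq_one g
  have hne : ∀ n : ℕ, ¬ 217 ∣ n → g ^ n ≠ 1 := fun n hn h => hn (by rw [← ho]; exact orderOf_dvd_of_pow_eq_one h)
  have hx : Iso Q (g ^ 7) 31 := Iso.mk' (pp31 hF) (by omega) (by rw [← pow_mul, hgo]) (iso_pow hg 7)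
  have hy : Iso Q (g ^ 31) 7 := Iso.mk' (pp7 hF) (by omega) (by rw [← pow_mul, hgo]) (iso_pow hg 31)
  have hx1 : g ^ 7 ≠ 1 := hne 7 (by decide)
  have hy1 : g ^ 31 ≠ 1 := hne 31 (by decide)
  have hxy : g ^ 7 * g ^ 31 = g ^ 31 * g ^ 7 := by rw [← pow_add, ← pow_add]
  have hb := (hx.odd_case hQ hx1 (pp31 hF) (by decide) (by omega)).1
  have h1 := hy.dvd (pp7 hF) (W := cm (g ^ 7)) (Typ.inv_cm_of_comm hxy)
  have h2 := hx.dvd (pp31 hF) (W := cm (g ^ 31)) (Typ.inv_cm_of_comm hxy.symm)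
  rw [inf_comm] at h2
  have h3 : finrank F ↥(cm (g ^ 7) ⊓ cm (g ^ 31)) ≤ finrank F (cm (g ^ 7)) := Submodule.finrank_mono inf_le_left
  have h4 : cm (g ^ 7) ⊓ cm (g ^ 31) = ⊥ := Submodule.finrank_eq_zero.1 (by omega)
  have h5 := le_fx_of_inf hy hxy h4
  have h6 := Typ.cm_le_fx hQ hx hy h5
  have h7 : finrank F (cm (g ^ 31)) ≤ finrank F (fx (g ^ 7)) := Submodule.finrank_mono h6
  have h8 := hx.finrank_add
  have := Fact.mk hy.prime
  obtain ⟨A, hA, -⟩ := exists_inv_ts_of_odd hy.two_lt hy.ne0 (by rw [ord_eq (pp7 hF)]; decide) hQ hy.iso hy.pow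
  rw [ord_eq (pp7 hF)] at hA
  have h9 : finrank F (cm (g ^ 31)) ≠ 0 := fun h0 => cm_ne_bot hy1 (Submodule.finrank_eq_zero.1 h0)
  refine ⟨by omega, fun v hv => ?_⟩
  have h10 : cm (g ^ 31) = fx (g ^ 7) := Submodule.eq_of_le_of_finrank_eq h6 (by omega)
  rw [← Submodule.mem_bot F, ← (H951.isCompl_fx_cm hy.ne0 hy.pow).inf_eq_bot]
  exact ⟨H951.mem_fx.2 (fix_pow_of hv _), by rw [h10]; exact H951.mem_fx.2 (fix_pow_of hv _)⟩

/-- `63` -/
theorem main63 (hF : Fintype.card F = 2) {g : Module.End F V} (hQ : Nondeg Q) (hg : ∀ v, Q (g v) = Q v)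
    (ho : orderOf g = 63) (hd : finrank F V ≤ 12) : finrank F V = 12 ∧ ∀ v, g v = v → v = 0 := by
  have hF' : Nat.card F = 2 := by rw [Nat.card_eq_fintype_card, hF]
  have hgo : g ^ 63 = 1 := by rw [← ho]; exact pow_orderOf_eq_one g
  have hne : ∀ n : ℕ, ¬ 63 ∣ n → g ^ n ≠ 1 := fun n hn h => hn (by rw [← ho]; exact orderOf_dvd_of_pow_eq_one h)
  have hy : Iso Q (g ^ 9) 7 := Iso.mk' (pp7 hF) (by omega) (by rw [← pow_mul, hgo]) (iso_pow hg 9)
  have hz : Iso Q ((g ^ 7) ^ 3) 3 := Iso.mk' (pp3 hF) (by omega) (by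
    rw [← pow_mul, ← pow_mul, hgo]) (by rw [← pow_mul]; exact iso_pow hg _)
  have hy1 : g ^ 9 ≠ 1 := hne 9 (by decide)
  have hz1 : (g ^ 7) ^ 3 ≠ 1 := by rw [← pow_mul]; exact hne 21 (by decide)
  have h9 : (g ^ 7) ^ 9 = 1 := by rw [← pow_mul, hgo]
  have hyz : g ^ 9 * (g ^ 7) ^ 3 = (g ^ 7) ^ 3 * g ^ 9 := by rw [← pow_mul, ← pow_add, ← pow_add]
  have hyz' : g ^ 9 * g ^ 7 = g ^ 7 * g ^ 9 := by rw [← pow_add, ← pow_add]
  have hzz : (g ^ 7) ^ 3 * g ^ 7 = g ^ 7 * (g ^ 7) ^ 3 := by rw [← pow_succ, ← pow_succ']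
  have hcard : ∀ W : Submodule F V, Nat.card W = 2 ^ finrank F W := fun W => by
    rw [Module.natCard_eq_pow_finrank (K := F), hF']
  have h6 : ∀ n < 13, 9 ∣ 2 ^ n - 1 → 6 ∣ n := by decide
  have six : ∀ W : Submodule F V, H951.Inv (g ^ 7) W → W ≤ cm ((g ^ 7) ^ 3) → 6 ∣ finrank F W := by
    intro W hW hWz
    have h2 := Typ.nine_dvd hW h9 (H951.inf_fx_of_le_cm hz.ne0 hz.pow hWz)
    rw [hcard] at h2
    exact h6 _ (lt_of_le_of_lt (Submodule.finrank_le _) (by omega)) h2
  have := Fact.mk hy.prime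
  have := Fact.mk hz.prime
  obtain ⟨A, hA, hP, -⟩ := exists_inv_ts_of_odd hy.two_lt hy.ne0 (by rw [ord_eq (pp7 hF)]; decide) hQ hy.iso hy.pow
  rw [ord_eq (pp7 hF)] at hA
  have h1 : finrank F (cm (g ^ 9)) ≠ 0 := fun h0 => cm_ne_bot hy1 (Submodule.finrank_eq_zero.1 h0)
  have h2 : finrank F (cm ((g ^ 7) ^ 3)) ≠ 0 := fun h0 => cm_ne_bot hz1 (Submodule.finrank_eq_zero.1 h0)
  have h3 : finrank F (cm (g ^ 9)) ≤ finrank F V := Submodule.finrank_le _
  have h4 : finrank F (cm ((g ^ 7) ^ 3)) ≤ finrank F V := Submodule.finrank_le _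
  have h5 := six _ (Typ.inv_cm_of_comm hzz) le_rfl
  have hiv : ∀ {x : Module.End F V} {s : ℕ}, Iso Q x s → finrank F (cm x) = 12 → (∀ v, g v = v → x v = v) →
      finrank F V = 12 ∧ ∀ v, g v = v → v = 0 := by
    intro x s hx h12 hxv
    have h7 : finrank F (cm x) ≤ finrank F V := Submodule.finrank_le _
    have h8 := hx.finrank_add
    refine ⟨by omega, fun v hv => ?_⟩
    have h10 : fx x = ⊥ := Submodule.finrank_eq_zero.1 (by omega)
    rw [← Submodule.mem_bot F, ← h10]
    exact H951.mem_fx.2 (hxv v hv)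
  by_cases hA2 : finrank F (cm (g ^ 9)) = 12
  · exact hiv hy hA2 fun v hv => fix_pow_of hv _
  by_cases hB2 : finrank F (cm ((g ^ 7) ^ 3)) = 12
  · exact hiv hz hB2 fun v hv => fix_pow_of (fix_pow_of hv _) _
  have hA1 : finrank F (cm (g ^ 9)) = 6 := by omega
  have hB1 : finrank F (cm ((g ^ 7) ^ 3)) = 6 := by omega
  have hi := six (cm (g ^ 9) ⊓ cm ((g ^ 7) ^ 3))
    ((Typ.inv_cm_of_comm hyz').inf (Typ.inv_cm_of_comm hzz)) inf_le_right
  have hi2 : finrank F ↥(cm (g ^ 9) ⊓ cm ((g ^ 7) ^ 3)) ≤ finrank F (cm (g ^ 9)) :=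
    Submodule.finrank_mono inf_le_left
  rcases Nat.eq_zero_or_pos (finrank F ↥(cm (g ^ 9) ⊓ cm ((g ^ 7) ^ 3))) with h0 | hpos
  · have h7 := le_fx_of_inf hz hyz (Submodule.finrank_eq_zero.1 h0)
    have h8 := hz.finrank_add
    have h10 : finrank F (cm (g ^ 9)) ≤ finrank F (fx ((g ^ 7) ^ 3)) := Submodule.finrank_mono h7
    refine ⟨by omega, fun v hv => ?_⟩
    have h11 : cm (g ^ 9) = fx ((g ^ 7) ^ 3) := Submodule.eq_of_le_of_finrank_eq h7 (by omega)
    rw [← Submodule.mem_bot F, ← (H951.isCompl_fx_cm hy.ne0 hy.pow).inf_eq_bot]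
    refine ⟨H951.mem_fx.2 (fix_pow_of hv _), ?_⟩
    rw [h11]
    exact H951.mem_fx.2 (fix_pow_of (fix_pow_of hv _) _)
  · exfalso
    have h7 : finrank F ↥(cm (g ^ 9) ⊓ cm ((g ^ 7) ^ 3)) = 6 := by
      obtain ⟨c, hc⟩ := hi
      omega
    have h8 : cm (g ^ 9) ⊓ cm ((g ^ 7) ^ 3) = cm (g ^ 9) :=
      Submodule.eq_of_le_of_finrank_eq inf_le_left (by omega)
    have h10 : cm (g ^ 9) ⊓ cm ((g ^ 7) ^ 3) = cm ((g ^ 7) ^ 3) :=
      Submodule.eq_of_le_of_finrank_eq inf_le_right (by omega)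
    rw [← h8, h10, isPlus_cm_iff hz.two_lt hQ hz.iso hz.ne0 hz.pow (ord_eq (pp3 hF)) (by decide) (A := 3)
      (by rw [hB1])] at hP
    exact absurd hP (by decide)

theorem lm217 (hF : Fintype.card F = 2) : Lm F 217 16 := fun hQ hg ho hd => main217 hF hQ hg ho hd

theorem lm63 (hF : Fintype.card F = 2) : Lm F 63 12 := fun hQ hg ho hd => main63 hF hQ hg ho hd

end

section cons

variable {F : Type u} [Field F] [Fintype F] {N d : ℕ}

/-- the stabiliser of a nonsingular point -/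
theorem point_of_lm {ι : Type} [Fintype ι] [DecidableEq ι] {Q : QuadraticForm F (ι → F)} (hL : Lm F N d)
    (hN : Odd N) (hQ : Nondeg Q) (hD : H390.Lift.Data Q)
    (hd : Fintype.card ι = d) {M : Subgroup (POmega F (⇑Q))} {v : ι → F} (hv : Q v ≠ 0)
    (hM : pre (⇑Q) M ≤ subspaceStabilizer (Submodule.span F {v})) (m : POmega F (⇑Q)) (hm : m ∈ M) :
    orderOf m ≠ N := by
  intro ho
  obtain ⟨g, h1, h2, h3⟩ := exists_pre hD hN hm ho
  have h4 := hL hQ h3 h2 (by rw [finrank_V]; omega)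
  have h5 : H884.El.lin g v = v := fix_of_line h3 hN (by rw [← h2]; exact pow_orderOf_eq_one _) hv
    (inv_of_mem (hM h1) v (Submodule.mem_span_singleton_self v))
  have h6 := h4.2 v h5
  exact hv (by rw [h6]; exact QuadraticMap.map_zero Q)

theorem sp_of_lm [CharP F 2] {n : ℕ} (hL : Lm F N d) (hn : 2 * n < d)
    (A : Matrix.symplecticGroup (Fin n) F) : orderOf A ≠ N := by
  intro ho
  obtain ⟨Q, hQ1, hQ2⟩ := Cfsg.Agent.S2585.result A
  have hQ : Nondeg Q := nondeg_of_symp hQ1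
  have h1 : orderOf (Matrix.toLin' (A : Matrix (Fin n ⊕ Fin n) (Fin n ⊕ Fin n) F)) = N := by
    rw [← ho]
    have h2 : orderOf (A : Matrix (Fin n ⊕ Fin n) (Fin n ⊕ Fin n) F) = orderOf A := orderOf_submonoid A
    rw [← h2]
    exact orderOf_injective (Matrix.toLinAlgEquiv' (R := F) (n := Fin n ⊕ Fin n)).toRingEquiv.toMonoidHom
      (Matrix.toLinAlgEquiv' (R := F) (n := Fin n ⊕ Fin n)).injective _
  have h3 := hL hQ (g := Matrix.toLin' (A : Matrix (Fin n ⊕ Fin n) (Fin n ⊕ Fin n) F))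
    (fun v => by rw [Matrix.toLin'_apply]; exact hQ2 v) h1 (by
      rw [Module.finrank_fintype_fun_eq_card, Fintype.card_sum, Fintype.card_fin]; omega)
  rw [Module.finrank_fintype_fun_eq_card, Fintype.card_sum, Fintype.card_fin] at h3
  omega

theorem psp_of_lm [CharP F 2] {n : ℕ} (hn : 1 ≤ n) (hL : Lm F N d) (hnd : 2 * n < d) (m : PSp n F) :
    orderOf m ≠ N := by
  intro ho
  obtain ⟨A, hA⟩ := (Cfsg.Agent.H403.mem_range_PSp (F := F) (n := n) hn N).1 ⟨m, ho⟩
  exact sp_of_lm hL hnd A hA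

end cons

end Cfsg.Agent.H320.Der
end

-- part: H188/Der/GeoO
section
set_option linter.all false
open scoped Cfsg.Agent.FastGrp

/-!
# Commuting isometries of orders `3`, `7`, `9` over `F_2` (helper188, S3502)

* `seven_three` : `[V, x] ≤ C_V(y)`, `dim [V, x] = 6`, for commuting isometries `x`, `y` of orders `7`, `3` in dimension
  less than `12`
* `lm21` : isometries of order `21` in dimension at most `8`
* `no_nine` : no isometry `z` of order `9` with `z ^ 3` commuting with an isometry of order `7` in dimension at most `8`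
* `exists_pre_comm` : commuting elements of odd order of `PΩ(Q)` lift to commuting isometries of the same orders
-/

set_option autoImplicit false
set_option linter.unusedSectionVars false

namespace Cfsg.Agent.H188.Der.GeoO

open Module QuadraticMap Cfsg Cfsg.Geo Cfsg.Agent.LieClassical.OrthCore Cfsg.Agent.H955 Cfsg.Agent.H954.TSing
  Cfsg.Agent.H884.El Cfsg.Agent.LieClassical.OmegaReindex Cfsg.Agent.H938.Sax Cfsg.Agent.H320.Der
open Cfsg.Agent.H951 (fx cm)
open scoped MatrixGroups Matrix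

universe u v

section

variable {F : Type u} [Field F] [Fintype F] {V : Type v} [AddCommGroup V] [Module F V] [FiniteDimensional F V]
  {Q : QuadraticForm F V} {x y z : Module.End F V}

theorem seven_three (hF : Fintype.card F = 2) (hQ : Nondeg Q) (hx : Iso Q x 7) (hx1 : x ≠ 1) (hy : Iso Q y 3)
    (hxy : x * y = y * x) (hd : finrank F V < 12) : cm x ≤ fx y ∧ finrank F (cm x) = 6 := by
  obtain ⟨h6, hP, -⟩ := hx.odd_case hQ hx1 (pp7 hF) (by decide) (by omega)
  refine ⟨?_, by omega⟩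
  have h3 := hx.dvd (pp7 hF) (W := cm y) (Typ.inv_cm_of_comm hxy.symm)
  have h4 := hy.dvd (pp3 hF) (W := cm x) (Typ.inv_cm_of_comm hxy)
  rw [inf_comm] at h3
  have h5 : finrank F ↥(cm x ⊓ cm y) ≤ finrank F (cm x) := Submodule.finrank_mono inf_le_left
  rcases Nat.eq_zero_or_pos (finrank F ↥(cm x ⊓ cm y)) with h0 | hpos
  · exact le_fx_of_inf hy hxy (Submodule.finrank_eq_zero.1 h0)
  · exfalso
    have h8 : cm x ⊓ cm y = cm x := Submodule.eq_of_le_of_finrank_eq inf_le_left (by omega)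
    have hle : cm x ≤ cm y := inf_eq_left.1 h8
    have h9 := Typ.isPlus_res_iff hy (pp3 hF) (by decide) (Typ.inv_cm_of_comm hxy)
      (nondeg_cm hQ hx.iso hx.ne0 hx.pow) (H951.inf_fx_of_le_cm hy.ne0 hy.pow hle) (A := 3) (by rw [h6])
    exact absurd (h9.1 hP) (by decide)

theorem main21 (hF : Fintype.card F = 2) {g : Module.End F V} (hQ : Nondeg Q) (hg : ∀ v, Q (g v) = Q v)
    (ho : orderOf g = 21) (hd : finrank F V ≤ 8) : finrank F V = 8 ∧ ∀ v, g v = v → v = 0 := by
  have hgo : g ^ 21 = 1 := by rw [← ho]; exact pow_orderOf_eq_one g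
  have hne : ∀ n : ℕ, ¬ 21 ∣ n → g ^ n ≠ 1 := fun n hn h => hn (by rw [← ho]; exact orderOf_dvd_of_pow_eq_one h)
  have hx : Iso Q (g ^ 3) 7 := Iso.mk' (pp7 hF) (by omega) (by rw [← pow_mul, hgo]) (iso_pow hg 3)
  have hy : Iso Q (g ^ 7) 3 := Iso.mk' (pp3 hF) (by omega) (by rw [← pow_mul, hgo]) (iso_pow hg 7)
  have hx1 : g ^ 3 ≠ 1 := hne 3 (by decide)
  have hy1 : g ^ 7 ≠ 1 := hne 7 (by decide)
  have hxy : g ^ 3 * g ^ 7 = g ^ 7 * g ^ 3 := by rw [← pow_add, ← pow_add]
  obtain ⟨h1, h2⟩ := seven_three hF hQ hx hx1 hy hxy (by omega)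
  have h3 := Typ.cm_le_fx hQ hx hy h1
  have h4 := hx.finrank_add
  have h5 : finrank F (cm (g ^ 7)) ≤ finrank F (fx (g ^ 3)) := Submodule.finrank_mono h3
  have h6 := hy.dvd_cm (pp3 hF)
  have h7 : finrank F (cm (g ^ 7)) ≠ 0 := fun h0 => cm_ne_bot hy1 (Submodule.finrank_eq_zero.1 h0)
  refine ⟨by omega, fun v hv => ?_⟩
  have h10 : cm (g ^ 7) = fx (g ^ 3) := Submodule.eq_of_le_of_finrank_eq h3 (by omega)
  rw [← Submodule.mem_bot F, ← (H951.isCompl_fx_cm hy.ne0 hy.pow).inf_eq_bot]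
  exact ⟨H951.mem_fx.2 (fix_pow_of hv _), by rw [h10]; exact H951.mem_fx.2 (fix_pow_of hv _)⟩

theorem no_nine (hF : Fintype.card F = 2) (hQ : Nondeg Q) (hx : Iso Q x 7) (hx1 : x ≠ 1) (hz : Iso Q (z ^ 3) 3)
    (hz1 : z ^ 3 ≠ 1) (h9 : z ^ 9 = 1) (hxy : x * z ^ 3 = z ^ 3 * x) (hd : finrank F V ≤ 8) : False := by
  obtain ⟨h1, h2⟩ := seven_three hF hQ hx hx1 hz hxy (by omega)
  have h3 := Typ.cm_le_fx hQ hx hz h1
  have h4 := hx.finrank_add
  have h5 : finrank F (cm (z ^ 3)) ≤ finrank F (fx x) := Submodule.finrank_mono h3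
  have h7 : finrank F (cm (z ^ 3)) ≠ 0 := fun h0 => cm_ne_bot hz1 (Submodule.finrank_eq_zero.1 h0)
  have hzz : z ^ 3 * z = z * z ^ 3 := by rw [← pow_succ, ← pow_succ']
  have h8 := Typ.nine_dvd (y := z) (W := cm (z ^ 3)) (Typ.inv_cm_of_comm hzz) h9
    (H951.inf_fx_of_le_cm hz.ne0 hz.pow le_rfl)
  rw [Module.natCard_eq_pow_finrank (K := F), Nat.card_eq_fintype_card, hF] at h8
  have h6 : ∀ n < 3, 9 ∣ 2 ^ n - 1 → n = 0 := by decide
  exact h7 (h6 _ (by omega) h8)

theorem lm21 (hF : Fintype.card F = 2) : Lm F 21 8 := fun hQ hg ho hd => main21 hF hQ hg ho hd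

end

theorem comm_of_lift {G H : Type*} [Group G] [Group H] (f : G →* H) (hk : ∀ x, f x = 1 → x ^ 2 = 1)
    (hc : ∀ x, f x = 1 → x ∈ Subgroup.center G) {a b : G} {N : ℕ} (hN : Odd N) (hb : b ^ N = 1)
    (h : Commute (f a) (f b)) : Commute a b := by
  set c : G := a * b * a⁻¹ * b⁻¹ with hcd
  have h1 : f c = 1 := by
    rw [hcd, map_mul, map_mul, map_mul, map_inv, map_inv, h.eq]
    group
  have h2 : a * b * a⁻¹ = c * b := by rw [hcd]; group
  have h3 : (c * b) ^ N = 1 := by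
    rw [← h2, conj_pow, hb, mul_one, mul_inv_cancel]
  have h4 : Commute c b := (Subgroup.mem_center_iff.1 (hc c h1) b).symm
  rw [h4.mul_pow, hb, mul_one] at h3
  obtain ⟨k, hk'⟩ := hN
  rw [hk', pow_succ, pow_mul, hk c h1, one_pow, one_mul] at h3
  show a * b = b * a
  rw [h3, one_mul, mul_inv_eq_iff_eq_mul] at h2
  exact h2

section quad

variable {ι : Type} [Fintype ι] [DecidableEq ι] {F : Type u} [Field F] [Fintype F] {Q : QuadraticForm F (ι → F)}

theorem lin_mul (g h : GL ι F) : H884.El.lin (g * h) = H884.El.lin g * H884.El.lin h := Matrix.toLin'_mul _ _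

theorem exists_pre_comm (hD : H390.Lift.Data Q) {m₁ m₂ : POmega F (⇑Q)} {N₁ N₂ k : ℕ} (h₁ : Odd N₁) (h₂ : Odd N₂)
    (ho₁ : orderOf m₁ = N₁) (ho₂ : orderOf m₂ = N₂) (hc : Commute m₁ (m₂ ^ k)) :
    ∃ g₁ g₂ : Module.End F (ι → F), orderOf g₁ = N₁ ∧ orderOf g₂ = N₂ ∧ (∀ v, Q (g₁ v) = Q v) ∧
      (∀ v, Q (g₂ v) = Q v) ∧ g₁ * g₂ ^ k = g₂ ^ k * g₁ := by
  have hk : ∀ y, QuotientGroup.mk' (Subgroup.center (Omega F (⇑Q))) y = 1 → y ^ 2 = 1 := fun y hy =>
    H390.Lift.center_sq hD y ((QuotientGroup.eq_one_iff y).1 hy)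
  obtain ⟨x₁, rfl⟩ := QuotientGroup.mk'_surjective (Subgroup.center (Omega F (⇑Q))) m₁
  obtain ⟨n₁, h3, h4⟩ := exists_lift_odd (QuotientGroup.mk' (Subgroup.center (Omega F (⇑Q)))) hk h₁ ho₁
  obtain ⟨x₂, rfl⟩ := QuotientGroup.mk'_surjective (Subgroup.center (Omega F (⇑Q))) m₂
  obtain ⟨n₂, h5, h6⟩ := exists_lift_odd (QuotientGroup.mk' (Subgroup.center (Omega F (⇑Q)))) hk h₂ ho₂
  rw [← h3, ← h5, ← map_pow] at hc
  have h7 : Commute (x₁ ^ n₁) ((x₂ ^ n₂) ^ k) :=
    comm_of_lift _ hk (fun y hy => (QuotientGroup.eq_one_iff y).1 hy) h₂ (by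
      rw [← pow_mul, mul_comm, pow_mul, ← h6, pow_orderOf_eq_one, one_pow]) hc
  have hiso : ∀ y : Omega F (⇑Q), ∀ v, Q (H884.El.lin (((y : isometryGroup F (⇑Q)) : GL ι F)) v) = Q v := fun y v =>
    lin_iso (H := pre (⇑Q) ⊤) pre_le (mem_pre.2 (Subgroup.mem_top _)) v
  let φ : Omega F (⇑Q) →* Module.End F (ι → F) :=
    { toFun := fun y => H884.El.lin ((y : isometryGroup F (⇑Q)) : GL ι F)
      map_one' := Matrix.toLin'_one
      map_mul' := fun a b => lin_mul _ _ }
  have hord : ∀ y : Omega F (⇑Q), orderOf (φ y) = orderOf y := by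
    intro y
    show orderOf (H884.El.lin ((y : isometryGroup F (⇑Q)) : GL ι F)) = _
    rw [orderOf_lin, Subgroup.orderOf_coe, Subgroup.orderOf_coe]
  refine ⟨φ (x₁ ^ n₁), φ (x₂ ^ n₂), by rw [hord, h4], by rw [hord, h6], hiso _, hiso _, ?_⟩
  rw [← map_pow, ← map_mul, ← map_mul, h7.eq]

/-- **The geometric obstruction.** -/
theorem no_nine_pomega (hF : Fintype.card F = 2) (hQ : Nondeg Q) (hD : H390.Lift.Data Q) (hd : Fintype.card ι ≤ 8)
    {s z : POmega F (⇑Q)} (hs : orderOf s = 7) (hz : orderOf z = 9) (hc : Commute s (z ^ 3)) : False := by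
  obtain ⟨x, y, hx, hy, hxi, hyi, hxy⟩ := exists_pre_comm hD (by decide) (by decide) hs hz hc
  have h7 : x ^ 7 = 1 := by rw [← hx]; exact pow_orderOf_eq_one x
  have h9 : y ^ 9 = 1 := by rw [← hy]; exact pow_orderOf_eq_one y
  refine no_nine hF hQ (x := x) (z := y) (Iso.mk' (pp7 hF) (by omega) h7 hxi) ?_
    (Iso.mk' (pp3 hF) (by omega) (by rw [← pow_mul, h9]) (iso_pow hyi 3)) ?_ h9 hxy (by rw [finrank_V]; exact hd)
  · rintro rfl
    rw [orderOf_one] at hx
    omega
  · intro h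
    have := orderOf_dvd_of_pow_eq_one h
    rw [hy] at this
    omega

end quad

end Cfsg.Agent.H188.Der.GeoO
end

-- part: H188/Der/AutNo
section
prune_inst 0xf53045007c6202000000858243201c62f2000420004800000060090004898c6080806061beb005021820000540350068110000b0421000000a000400011c00a0808050049308a000a6000f000000000000000000000000000000000000000000000000000
set_option linter.all false
open scoped Cfsg.Agent.FastGrp

/-!
# Automorphism groups without elements of order `9` or `21` (helper188, S3502)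

* `NoAut S N` : no automorphism of `S` has order `N`
* `noAut_alt_nine` : `A₇`, `A₈` and `N = 9`
* `noAut_alt_twentyone` : `A₉` and `N = 21`
* `noAut_psl34`, `noAut_psl42` : `L₃(4)`, `L₄(2)` and `N = 9`
-/

set_option autoImplicit false
set_option linter.unusedSectionVars false

namespace Cfsg.Agent.H188.Der.AutNo

open Module Cfsg Matrix
open Cfsg.Agent.H951 (fx cm Inv)
open Cfsg.Agent.ClassicalGeometry.AutPSL.Root Cfsg.Agent.ClassicalGeometry.AutPSL.Auto
  Cfsg.Agent.ClassicalGeometry.AutPSL.Main Cfsg.Agent.CpAut.Psl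
open scoped MatrixGroups

universe u v

/-- no automorphism of order `N` -/
def NoAut (S : Type*) [Group S] (N : ℕ) : Prop := ∀ φ : MulAut S, orderOf φ ≠ N

theorem NoAut.congr {S S' : Type*} [Group S] [Group S'] {N : ℕ} (e : S ≃* S') (h : NoAut S' N) : NoAut S N :=
  fun φ hφ => h (MulAut.congr e φ) (by
    rw [← hφ]
    exact orderOf_injective (MulAut.congr e).toMonoidHom (MulAut.congr e).injective φ)

/-- no element of order `N` in a group with a normal subgroup `L` with `C(L) = 1`, `NoAut L N` -/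
theorem NoAut.no {G : Type*} [Group G] {N : ℕ} (L : Subgroup G) [L.Normal]
    (hC : Subgroup.centralizer (L : Set G) = ⊥) (h : NoAut L N) (g : G) : orderOf g ≠ N := by
  intro ho
  apply h (MulAut.conjNormal g)
  rw [← ho]
  refine orderOf_injective (MulAut.conjNormal : G →* MulAut L) ?_ g
  rw [injective_iff_map_eq_one]
  intro a ha
  rw [← Subgroup.mem_bot, ← hC, Subgroup.mem_centralizer_iff]
  intro l hl
  have h2 : (MulAut.conjNormal a ⟨l, hl⟩ : G) = l := by rw [ha]; rfl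
  rw [MulAut.conjNormal_apply] at h2
  calc l * a = (a * l * a⁻¹) * a := by rw [h2]
    _ = a * l := by group

theorem no_of_blk {G : Type*} [Group G] [Finite G] {f N : ℕ} (S : Subgroup G) [S.Normal]
    (hC : Subgroup.centralizer (S : Set G) = ⊥) (hN : N.Coprime (8 * f)) (h : H938.Sax.Blk S f N) (g : G) :
    orderOf g ≠ N := by
  obtain ⟨c, h1, h2, h3⟩ := h
  intro ho
  have h4 := H938.Sax.mem_of_coprime S hC h2 (hN.coprime_dvd_right h1) ho
  exact h3 ⟨g, h4⟩ (by rw [← ho, ← Subgroup.orderOf_coe])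

section Perm

theorem noAut_alt {n N : ℕ} (hn : 7 ≤ n) (h : ∀ σ : Equiv.Perm (Fin n), orderOf σ ≠ N) :
    NoAut (alternatingGroup (Fin n)) N := by
  intro φ hφ
  obtain ⟨ψ, hψ⟩ := Cfsg.Agent.StandardComponent.AltAut.exists_autHom n hn
  apply h (ψ φ)
  rw [← hφ]
  refine orderOf_injective ψ ?_ φ
  rw [injective_iff_map_eq_one]
  intro e he
  apply MulEquiv.ext
  intro x
  apply Subtype.ext
  rw [hψ, he]
  simp

theorem perm_nine {n : ℕ} (hn : n ≤ 8) (σ : Equiv.Perm (Fin n)) : orderOf σ ≠ 9 := by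
  intro h9
  have hle : orderOf σ ∣ 3 := by
    rw [← Equiv.Perm.lcm_cycleType, Multiset.lcm_dvd]
    intro c hc
    have h2 : c ∣ 9 := h9 ▸ Equiv.Perm.dvd_of_mem_cycleType hc
    have h3 : c ≤ n := (Equiv.Perm.le_card_support_of_mem_cycleType hc).trans
      ((Finset.card_le_univ _).trans (by rw [Fintype.card_fin]))
    have key : ∀ c < 9, c ∣ 9 → c ∣ 3 := by decide
    exact key c (by omega) h2
  rw [h9] at hle
  exact absurd hle (by decide)

theorem perm_twentyone {n : ℕ} (hn : n ≤ 9) (σ : Equiv.Perm (Fin n)) : orderOf σ ≠ 21 := by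
  intro h21
  have hle : ∀ c ∈ σ.cycleType, c = 3 ∨ c = 7 := by
    intro c hc
    have h2 : c ∣ 21 := h21 ▸ Equiv.Perm.dvd_of_mem_cycleType hc
    have h3 : c ≤ n := (Equiv.Perm.le_card_support_of_mem_cycleType hc).trans
      ((Finset.card_le_univ _).trans (by rw [Fintype.card_fin]))
    have h4 := Equiv.Perm.two_le_of_mem_cycleType hc
    have key : ∀ c < 10, c ∣ 21 → 2 ≤ c → c = 3 ∨ c = 7 := by decide
    exact key c (by omega) h2 h4
  have hsum : σ.cycleType.sum ≤ 9 := by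
    rw [Equiv.Perm.sum_cycleType]
    exact (Finset.card_le_univ _).trans (by rw [Fintype.card_fin]; exact hn)
  have h7 : 7 ∈ σ.cycleType := by
    by_contra h7
    have h1 : orderOf σ ∣ 3 := by
      rw [← Equiv.Perm.lcm_cycleType, Multiset.lcm_dvd]
      intro c hc
      rcases hle c hc with rfl | rfl
      · exact dvd_rfl
      · exact absurd hc h7
    rw [h21] at h1
    exact absurd h1 (by decide)
  have h3 : 3 ∈ σ.cycleType := by
    by_contra h3
    have h1 : orderOf σ ∣ 7 := by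
      rw [← Equiv.Perm.lcm_cycleType, Multiset.lcm_dvd]
      intro c hc
      rcases hle c hc with rfl | rfl
      · exact absurd hc h3
      · exact dvd_rfl
    rw [h21] at h1
    exact absurd h1 (by decide)
  obtain ⟨s, hs⟩ := Multiset.exists_cons_of_mem h7
  have h3s : 3 ∈ s := by
    rw [hs, Multiset.mem_cons] at h3
    rcases h3 with h3 | h3
    · omega
    · exact h3
  obtain ⟨t, ht⟩ := Multiset.exists_cons_of_mem h3s
  rw [hs, ht, Multiset.sum_cons, Multiset.sum_cons] at hsum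
  omega

theorem noAut_alt_nine {n : ℕ} (hn : 7 ≤ n) (hn8 : n ≤ 8) : NoAut (alternatingGroup (Fin n)) 9 :=
  noAut_alt hn (perm_nine hn8)

theorem noAut_alt_twentyone : NoAut (alternatingGroup (Fin 9)) 21 := noAut_alt (by norm_num) (perm_twentyone le_rfl)

/-- free action of a cyclic group of prime power order -/
theorem perm_dvd {X : Type*} [Fintype X] [DecidableEq X] {p k : ℕ} (hp : p.Prime) (σ : Equiv.Perm X)
    (h9 : σ ^ p ^ (k + 1) = 1) (h3 : ∀ x, (σ ^ p ^ k) x ≠ x) : p ^ (k + 1) ∣ Fintype.card X := by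
  have hsup : σ.support = Finset.univ := by
    ext x
    simp only [Equiv.Perm.mem_support, Finset.mem_univ, iff_true]
    intro h
    exact h3 x (Equiv.Perm.pow_apply_eq_self_of_apply_eq_self h _)
  rw [← Finset.card_univ, ← hsup, ← Equiv.Perm.sum_cycleType]
  apply Multiset.dvd_sum
  intro c hc
  have h1 : c ∣ p ^ (k + 1) := (Equiv.Perm.dvd_of_mem_cycleType hc).trans (orderOf_dvd_of_pow_eq_one h9)
  obtain ⟨d, τ, hσ, hd, hcyc, hcard⟩ := Equiv.Perm.mem_cycleType_iff.1 hc
  have h4 : ¬ c ∣ p ^ k := by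
    intro h
    obtain ⟨x, hx⟩ : d.support.Nonempty := by
      rw [← Finset.card_pos, hcard]
      exact lt_of_lt_of_le two_pos (Equiv.Perm.two_le_of_mem_cycleType hc)
    apply h3 x
    have h8 : τ x = x := (hd x).resolve_left (Equiv.Perm.mem_support.1 hx)
    have h9' : d ^ p ^ k = 1 := by
      apply orderOf_dvd_iff_pow_eq_one.1
      rw [hcyc.orderOf, hcard]
      exact h
    rw [hσ, hd.commute.mul_pow, Equiv.Perm.mul_apply, Equiv.Perm.pow_apply_eq_self_of_apply_eq_self h8, h9']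
    rfl
  obtain ⟨j, hj, rfl⟩ := (Nat.dvd_prime_pow hp).1 h1
  have h5 : k + 1 ≤ j := by
    by_contra hlt
    exact h4 (pow_dvd_pow p (by omega))
  exact pow_dvd_pow p h5

end Perm

section lin

variable {F : Type u} [Field F] [Fintype F] {V : Type v} [AddCommGroup V] [Module F V] [FiniteDimensional F V]
  {y : Module.End F V}

theorem lin_dvd {p k : ℕ} (hp : p.Prime) {W : Submodule F V} (hW : Inv y W) (h9 : y ^ p ^ (k + 1) = 1)
    (h0 : W ⊓ fx (y ^ p ^ k) = ⊥) : p ^ (k + 1) ∣ Nat.card W - 1 := by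
  classical
  have hfin : Finite V := Module.finite_of_finite F
  have hpos : 0 < p ^ (k + 1) := pow_pos hp.pos _
  obtain ⟨m, hm⟩ : ∃ m, p ^ (k + 1) = m + 1 := ⟨p ^ (k + 1) - 1, by omega⟩
  rw [hm] at h9
  have hpow : ∀ n : ℕ, ∀ w ∈ W, (y ^ n) w ∈ W := by
    intro n
    induction n with
    | zero => intro w hw; exact hw
    | succ n ih =>
      intro w hw
      rw [pow_succ, Module.End.mul_apply]
      exact ih _ (hW w hw)
  have h81 : ∀ w : V, (y ^ m) (y w) = w := fun w => by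
    rw [← Module.End.mul_apply, ← pow_succ, h9]; rfl
  have h18 : ∀ w : V, y ((y ^ m) w) = w := fun w => by
    rw [← Module.End.mul_apply, ← pow_succ', h9]; rfl
  let X := {w : V // w ∈ W ∧ w ≠ 0}
  have hfX : Fintype X := Fintype.ofFinite X
  let σ : Equiv.Perm X :=
    { toFun := fun w => ⟨y w.1, hW _ w.2.1, fun h => w.2.2 (by rw [← h81 w.1, h, map_zero])⟩
      invFun := fun w => ⟨(y ^ m) w.1, hpow m _ w.2.1, fun h => w.2.2 (by rw [← h18 w.1, h, map_zero])⟩
      left_inv := fun w => Subtype.ext (h81 w.1)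
      right_inv := fun w => Subtype.ext (h18 w.1) }
  have hσ : ∀ (n : ℕ) (w : X), ((σ ^ n) w).1 = (y ^ n) w.1 := by
    intro n
    induction n with
    | zero => intro w; rfl
    | succ n ih =>
      intro w
      rw [pow_succ, Equiv.Perm.mul_apply, ih, pow_succ, Module.End.mul_apply]
      rfl
  have h1 := perm_dvd (k := k) hp σ (by
    ext w : 1
    apply Subtype.ext
    rw [hσ, hm, h9]
    rfl) (by
    intro w hw
    apply w.2.2
    rw [← Submodule.mem_bot F, ← h0]
    refine ⟨w.2.1, H951.mem_fx.2 ?_⟩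
    rw [← hσ, hw])
  have h2 : Fintype.card X = Nat.card W - 1 := by
    have h3 : Nat.card X = Nat.card {w : W // w ≠ 0} := Nat.card_congr
      { toFun := fun w => ⟨⟨w.1, w.2.1⟩, fun h => w.2.2 (congrArg Subtype.val h)⟩
        invFun := fun w => ⟨w.1.1, w.1.2, fun h => w.2 (Subtype.ext h)⟩
        left_inv := fun _ => rfl
        right_inv := fun _ => rfl }
    have : Fintype W := Fintype.ofFinite W
    rw [← Nat.card_eq_fintype_card, h3, Nat.card_eq_fintype_card, Fintype.card_subtype_compl,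
      Fintype.card_subtype_eq, Nat.card_eq_fintype_card]
  rwa [h2] at h1

/-- elements of `GL₃(4)` whose ninth power is a scalar -/
theorem nine_scalar_four (hF : Fintype.card F = 4) (hd : finrank F V = 3) {r : F} (hr0 : r ≠ 0)
    (h : ∀ v, (y ^ 9) v = r • v) : ∃ s : F, ∀ v, (y ^ 3) v = s • v := by
  have hcard : ∀ W : Submodule F V, Nat.card W = 4 ^ finrank F W := fun W => by
    rw [Module.natCard_eq_pow_finrank (K := F), Nat.card_eq_fintype_card, hF]
  have hle : ∀ W : Submodule F V, finrank F W ≤ 3 := fun W => hd ▸ Submodule.finrank_le W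
  have hcube : ∀ a : F, a ≠ 0 → a ^ 3 = 1 := fun a ha => by
    have := FiniteField.pow_card_sub_one_eq_one a ha
    rwa [hF] at this
  by_cases hr : r = 1
  · subst hr
    have h9 : y ^ 9 = 1 := LinearMap.ext fun v => by rw [h, one_smul]; rfl
    -- the eigenspaces
    have key : ∀ s : F, s ≠ 1 → LinearMap.ker (y ^ 3 - s • (1 : Module.End F V)) = ⊥ ∨
        LinearMap.ker (y ^ 3 - s • (1 : Module.End F V)) = ⊤ := by
      intro s hs
      have hmem : ∀ v, v ∈ LinearMap.ker (y ^ 3 - s • (1 : Module.End F V)) ↔ (y ^ 3) v = s • v := by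
        intro v
        rw [LinearMap.mem_ker, LinearMap.sub_apply, sub_eq_zero, LinearMap.smul_apply, Module.End.one_apply]
      have hW : Inv y (LinearMap.ker (y ^ 3 - s • (1 : Module.End F V))) := by
        intro w hw
        rw [hmem] at hw ⊢
        have h1 : (y ^ 3) (y w) = y ((y ^ 3) w) := by
          rw [← Module.End.mul_apply, ← pow_succ, pow_succ', Module.End.mul_apply]
        rw [h1, hw, map_smul]
      have h1 := lin_dvd (k := 1) Nat.prime_three hW (by exact h9) (by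
        rw [eq_bot_iff]
        rintro v ⟨h2, h3⟩
        rw [SetLike.mem_coe, hmem] at h2
        rw [pow_one, SetLike.mem_coe, H951.mem_fx, h2] at h3
        rw [Submodule.mem_bot]
        have h4 : (s - 1) • v = 0 := by rw [sub_smul, one_smul, h3, sub_self]
        exact (smul_eq_zero.1 h4).resolve_left (sub_ne_zero.2 hs))
      rw [hcard] at h1
      have h5 := hle (LinearMap.ker (y ^ 3 - s • (1 : Module.End F V)))
      have h6 : ∀ n < 4, 3 ^ (1 + 1) ∣ 4 ^ n - 1 → n = 0 ∨ n = 3 := by decide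
      rcases h6 _ (by omega) h1 with h7 | h7
      · exact Or.inl (Submodule.finrank_eq_zero.1 h7)
      · exact Or.inr (Submodule.eq_top_of_finrank_eq (by rw [h7, hd]))
    -- an element different from `0`, `1`
    obtain ⟨s, hs0, hs1⟩ : ∃ s : F, s ≠ 0 ∧ s ≠ 1 := by
      classical
      by_contra hcon
      push Not at hcon
      have h1 : Fintype.card F ≤ 2 := by
        rw [← Finset.card_univ]
        refine (Finset.card_le_card (t := ({0, 1} : Finset F)) ?_).trans Finset.card_le_two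
        intro x _
        rw [Finset.mem_insert, Finset.mem_singleton]
        by_cases hx : x = 0
        · exact Or.inl hx
        · exact Or.inr (hcon x hx)
      omega
    have hs3 := hcube s hs0
    have hq : s ^ 2 + s + 1 = 0 := by
      have h1 : (s - 1) * (s ^ 2 + s + 1) = 0 := by
        have : (s - 1) * (s ^ 2 + s + 1) = s ^ 3 - 1 := by ring
        rw [this, hs3, sub_self]
      exact (mul_eq_zero.1 h1).resolve_left (sub_ne_zero.2 hs1)
    have hs21 : s ^ 2 ≠ 1 := by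
      intro h1
      apply hs1
      have : s ^ 3 = s := by rw [pow_succ, h1, one_mul]
      rw [← this, hs3]
    by_cases ht1 : LinearMap.ker (y ^ 3 - s • (1 : Module.End F V)) = ⊤
    · refine ⟨s, fun v => ?_⟩
      have h1 : v ∈ LinearMap.ker (y ^ 3 - s • (1 : Module.End F V)) := by rw [ht1]; trivial
      rwa [LinearMap.mem_ker, LinearMap.sub_apply, sub_eq_zero, LinearMap.smul_apply, Module.End.one_apply] at h1
    by_cases ht2 : LinearMap.ker (y ^ 3 - s ^ 2 • (1 : Module.End F V)) = ⊤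
    · refine ⟨s ^ 2, fun v => ?_⟩
      have h1 : v ∈ LinearMap.ker (y ^ 3 - s ^ 2 • (1 : Module.End F V)) := by rw [ht2]; trivial
      rwa [LinearMap.mem_ker, LinearMap.sub_apply, sub_eq_zero, LinearMap.smul_apply, Module.End.one_apply] at h1
    have hk1 := LinearMap.ker_eq_bot.1 ((key s hs1).resolve_right ht1)
    have hk2 := LinearMap.ker_eq_bot.1 ((key (s ^ 2) hs21).resolve_right ht2)
    refine ⟨1, fun v => ?_⟩
    rw [one_smul, ← sub_eq_zero]
    have hw : (y ^ 3 - s • (1 : Module.End F V)) ((y ^ 3 - s ^ 2 • (1 : Module.End F V)) ((y ^ 3) v - v)) = 0 := by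
      have h1 : (y ^ 3 - s • (1 : Module.End F V)) * (y ^ 3 - s ^ 2 • (1 : Module.End F V)) * (y ^ 3 - 1) =
          y ^ 9 - 1 := by
        have h2 : (y ^ 3 - s • (1 : Module.End F V)) * (y ^ 3 - s ^ 2 • (1 : Module.End F V)) =
            y ^ 3 * y ^ 3 - (s ^ 2 + s) • y ^ 3 + (s ^ 3) • (1 : Module.End F V) := by
          rw [sub_mul, mul_sub, mul_sub, smul_mul_smul_comm, mul_one, smul_mul_assoc, one_mul, mul_smul_comm, mul_one,
            add_smul, show s * s ^ 2 = s ^ 3 by ring]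
          abel
        have h3 : s ^ 2 + s = -1 := by linear_combination hq
        rw [h2, hs3, h3]
        have h4 : y ^ 9 = y ^ 3 * y ^ 3 * y ^ 3 := by rw [← pow_add, ← pow_add]
        rw [h4, neg_smul, one_smul, one_smul]
        noncomm_ring
      have h5 := congrArg (fun f : Module.End F V => f v) h1
      rw [h9, sub_self] at h5
      exact h5
    have h1 := hk1 (hw.trans (map_zero _).symm)
    exact hk2 (h1.trans (map_zero _).symm)
  · exfalso
    have hr3 := hcube r hr0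
    have h27 : y ^ 27 = 1 := by
      apply LinearMap.ext
      intro v
      have h1 : y ^ 27 = y ^ 9 * (y ^ 9 * y ^ 9) := by rw [← pow_add, ← pow_add]
      rw [h1, Module.End.mul_apply, Module.End.mul_apply, h, h, h, smul_smul, smul_smul,
        show r * r * r = r ^ 3 by ring, hr3, one_smul]
      rfl
    have h1 := lin_dvd (y := y) (k := 2) (W := ⊤) Nat.prime_three (fun w _ => trivial) (by exact h27) (by
      rw [eq_bot_iff]
      rintro v ⟨-, h3⟩
      rw [SetLike.mem_coe, H951.mem_fx] at h3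
      have h3' : (y ^ 9) v = v := h3
      rw [h] at h3'
      rw [Submodule.mem_bot]
      have h4 : (r - 1) • v = 0 := by rw [sub_smul, one_smul, h3', sub_self]
      exact (smul_eq_zero.1 h4).resolve_left (sub_ne_zero.2 hr))
    rw [hcard, finrank_top, hd] at h1
    exact absurd h1 (by decide)

/-- elements of order nine of `GL₄(2)` -/
theorem nine_two (hF : Fintype.card F = 2) (hd : finrank F V ≤ 5) (h9 : y ^ 9 = 1) : y ^ 3 = 1 := by
  by_contra hne
  have hpp := H320.Der.pp3 hF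
  have hz : ((3 : ℕ) : F) ≠ 0 := hpp.ne0 (by norm_num)
  have hz3 : (y ^ 3) ^ 3 = 1 := by rw [← pow_mul, h9]
  have hzz : y ^ 3 * y = y * y ^ 3 := by rw [← pow_succ, ← pow_succ']
  have h8 := lin_dvd (y := y) (k := 1) (W := cm (y ^ 3)) Nat.prime_three (H938.Sax.Typ.inv_cm_of_comm hzz)
    (by exact h9) (by rw [pow_one]; exact H951.inf_fx_of_le_cm hz hz3 le_rfl)
  rw [Module.natCard_eq_pow_finrank (K := F), Nat.card_eq_fintype_card, hF] at h8
  have h6 : ∀ n < 6, 3 ^ (1 + 1) ∣ 2 ^ n - 1 → n = 0 := by decide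
  have h7 : finrank F (cm (y ^ 3)) ≤ finrank F V := Submodule.finrank_le _
  exact H884.El.cm_ne_bot hne (Submodule.finrank_eq_zero.1 (h6 _ (by omega) h8))

end lin

section psl

variable {F : Type u} [Field F] [Fintype F] {n : ℕ}

/-- an automorphism `α` with `α ^ 9 = 1` comes from `GL_n(F)` if `|Aut F|` divides `2` -/
theorem exists_lin (hn : 2 ≤ n) (h2 : ∀ σ : F ≃+* F, σ ^ 2 = 1) {α : MulAut (Matrix.ProjectiveSpecialLinearGroup (Fin n) F)}
    (hα : α ^ 9 = 1) : ∃ A : GL (Fin n) F, α = lift (cj A) ∧ ∃ r : F, scalar (Fin n) r = ((A ^ 9 : GL (Fin n) F) :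
      Matrix (Fin n) (Fin n) F) := by
  have : Nontrivial (Fin n) := Fin.nontrivial_iff_two_le.2 hn
  obtain ⟨A, σ, hA⟩ := exists_of_odd hn (by decide : Odd 9) hα
  obtain ⟨D, hD, -⟩ := exists_pow A σ 9
  have h1 : lift (cj D * fld (σ ^ 9)) = lift (fld (1 : F ≃+* F)) := by
    rw [← hD, map_pow, ← hA, hα, map_one, map_one]
  obtain ⟨-, h3⟩ := injective_aux h1
  have hσ : σ = 1 := by
    have h4 : σ ^ 9 = (σ ^ 2) ^ 4 * σ := by rw [← pow_mul, ← pow_succ]
    rwa [h4, h2, one_pow, one_mul] at h3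
  subst hσ
  rw [map_one, mul_one] at hA
  refine ⟨A, hA, ?_⟩
  have h5 : lift (cj (A ^ 9) * fld (1 : F ≃+* F)) = lift (fld (1 : F ≃+* F)) := by
    rw [map_one, mul_one, map_pow, map_pow, ← hA, hα, map_one]
  exact (injective_aux h5).1

theorem noAut_of {hn : 2 ≤ n} (h2 : ∀ σ : F ≃+* F, σ ^ 2 = 1)
    (h : ∀ A : GL (Fin n) F, ∀ r : F, scalar (Fin n) r = ((A ^ 9 : GL (Fin n) F) : Matrix (Fin n) (Fin n) F) →
      ∃ s : F, scalar (Fin n) s = ((A ^ 3 : GL (Fin n) F) : Matrix (Fin n) (Fin n) F)) :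
    NoAut (Matrix.ProjectiveSpecialLinearGroup (Fin n) F) 9 := by
  intro α hα
  obtain ⟨A, hA, r, hr⟩ := exists_lin hn h2 (α := α) (by rw [← hα, pow_orderOf_eq_one])
  obtain ⟨s, hs⟩ := h A r hr
  have h3 : α ^ 3 = 1 := by rw [hA, ← map_pow, ← map_pow, cj_eq_one_of_scalar hs, map_one]
  have h4 := orderOf_dvd_of_pow_eq_one h3
  rw [hα] at h4
  exact absurd h4 (by decide)

theorem toLin_pow (A : GL (Fin n) F) (k : ℕ) (v : Fin n → F) :
    ((Matrix.toLin' (A : Matrix (Fin n) (Fin n) F)) ^ k) v = ((A ^ k : GL (Fin n) F) : Matrix (Fin n) (Fin n) F) *ᵥ v := by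
  rw [← Matrix.toLin'_pow, Matrix.toLin'_apply, Units.val_pow_eq_pow_val]

theorem scalar_of_mulVec {C : GL (Fin n) F} {r : F} (h : ∀ v, (C : Matrix (Fin n) (Fin n) F) *ᵥ v = r • v) :
    scalar (Fin n) r = (C : Matrix (Fin n) (Fin n) F) := by
  apply Matrix.toLin'.injective
  apply LinearMap.ext
  intro v
  rw [Matrix.toLin'_apply, Matrix.toLin'_apply, h]
  funext i
  simp [Matrix.scalar_apply, mulVec_diagonal]

theorem noAut_psl34 (hF : Fintype.card F = 4) : NoAut (Matrix.ProjectiveSpecialLinearGroup (Fin 3) F) 9 := by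
  have hp : Fact (Nat.Prime 2) := ⟨Nat.prime_two⟩
  have : CharP F 2 := charP_of_card_eq_prime_pow (f := 2) (by rw [hF]; norm_num)
  have hc : Nat.card (F ≃+* F) = 2 := Cfsg.Agent.Lib.FieldAutCard.card_ringAut (p := 2) (f := 2) (by norm_num)
    (by rw [hF]; norm_num)
  refine noAut_of (hn := by norm_num) (fun σ => ?_) fun A r hr => ?_
  · rw [← hc]
    exact pow_card_eq_one'
  · have hr0 := scalar_ne_zero hr
    obtain ⟨s, hs⟩ := nine_scalar_four (y := Matrix.toLin' (A : Matrix (Fin 3) (Fin 3) F)) hF (by simp) hr0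
      (fun v => by rw [toLin_pow, scalar_apply_eq hr])
    exact ⟨s, scalar_of_mulVec fun v => by rw [← toLin_pow, hs]⟩

theorem noAut_psl42 (hF : Fintype.card F = 2) : NoAut (Matrix.ProjectiveSpecialLinearGroup (Fin 4) F) 9 := by
  have hp : Fact (Nat.Prime 2) := ⟨Nat.prime_two⟩
  have : CharP F 2 := charP_of_card_eq_prime_pow (f := 1) (by rw [hF]; norm_num)
  have hc : Nat.card (F ≃+* F) = 1 := Cfsg.Agent.Lib.FieldAutCard.card_ringAut (p := 2) (f := 1) (by norm_num)
    (by rw [hF]; norm_num)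
  refine noAut_of (hn := by norm_num) (fun σ => ?_) fun A r hr => ?_
  · have : Subsingleton (F ≃+* F) := (Nat.card_eq_one_iff_unique.1 hc).1
    exact Subsingleton.elim _ _
  · have hr0 := scalar_ne_zero hr
    have hr1 : r = 1 := by
      have h1 := FiniteField.pow_card_sub_one_eq_one r hr0
      rw [hF] at h1
      simpa using h1
    subst hr1
    have h1 : (Matrix.toLin' (A : Matrix (Fin 4) (Fin 4) F)) ^ 3 = 1 := by
      refine nine_two hF (by simp) ?_
      apply LinearMap.ext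
      intro v
      rw [toLin_pow, scalar_apply_eq hr, one_smul]
      rfl
    exact ⟨1, scalar_of_mulVec fun v => by rw [← toLin_pow, h1, one_smul]; rfl⟩

end psl

end Cfsg.Agent.H188.Der.AutNo
end

-- part: H221/Der/SzEight
section
prune_inst 0xd53061444c4002000000859251203c66e60005b0002b0001f96009420c8edf2380806f60fcb01b02192aa2a5403b8068111000f90000000020008400411d00a0848376c6b37cad0cb6001fc07804000000000000000000000000000000041004000000000
set_option linter.all false
open scoped Cfsg.Agent.FastGrp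

/-!
# Three classes of derangements: the Suzuki groups, `Sz(8)` and the row (S3502, helper221)

`rowS_sz`.
-/

set_option autoImplicit false

namespace Cfsg.Agent.H221.Der

open MulAction Subgroup Cfsg Cfsg.Agent.H947.El Cfsg.Agent.H439.Der Cfsg.Agent.H768.Der
open Cfsg.Agent.H101.SzAbs Cfsg.Agent.H101.SzGeo Cfsg.Agent.H101.SzAbs.Geo Cfsg.Agent.H101.SzSub

variable {F : Type*} [Field F] [Fintype F]

section eight

variable (hF : Fintype.card F = 2 ^ (2 * 1 + 1))

include hF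

theorem card_sz8 : Nat.card (Cfsg.Sz F 1) = 29120 := by
  rw [Cfsg.Agent.S0324.result le_rfl hF]
  norm_num

theorem exists_four : ∃ t : Cfsg.Sz F 1, orderOf t = 4 := by
  have hfin : Finite (Cfsg.Sz F 1) := inferInstance
  obtain ⟨P⟩ : Nonempty (Sylow 2 (Cfsg.Sz F 1)) := inferInstance
  obtain ⟨-, hexp, -, -⟩ := Cfsg.Agent.S0330.result le_rfl hF P
  have h1 : ¬ Monoid.exponent P ∣ 2 := by rw [hexp]; norm_num
  rw [Monoid.exponent_dvd_iff_forall_pow_eq_one] at h1
  push Not at h1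
  obtain ⟨t, ht⟩ := h1
  refine ⟨t, ?_⟩
  have h2 := Monoid.order_dvd_exponent t
  rw [hexp] at h2
  rw [Subgroup.orderOf_coe]
  have h3 : ¬ orderOf t ∣ 2 := fun h => ht (orderOf_dvd_iff_pow_eq_one.1 h)
  have h4 := Nat.le_of_dvd (by norm_num) h2
  interval_cases h5 : orderOf t <;> first | rfl | omega

theorem card_borel (P0 : Sylow 2 (Cfsg.Sz F 1)) :
    Nat.card ((normalizer ((P0 : Subgroup (Cfsg.Sz F 1)) : Set (Cfsg.Sz F 1)) :)) ∣ 448 := by
  have hfin : Finite (Cfsg.Sz F 1) := inferInstance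
  have h1 := Subgroup.card_subgroup_dvd_card ((normalizer ((P0 : Subgroup (Cfsg.Sz F 1)) : Set (Cfsg.Sz F 1)) :))
  rw [card_sz8 hF, show 29120 = 448 * 65 by norm_num] at h1
  refine Nat.Coprime.dvd_of_dvd_mul_right ?_ h1
  refine cop_of_prime fun p hp h2 h3 => ?_
  have h4 : p = 5 ∨ p = 13 := by
    rw [show 65 = 5 * 13 by norm_num] at h3
    rcases hp.dvd_mul.1 h3 with h4 | h4
    · exact Or.inl ((Nat.prime_dvd_prime_iff_eq hp (by norm_num)).1 h4)
    · exact Or.inr ((Nat.prime_dvd_prime_iff_eq hp (by norm_num)).1 h4)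
  have h5 := borel_prime le_rfl hF P0 le_rfl hp (by omega) h2
  rcases h4 with rfl | rfl <;> norm_num at h5

/-- a subgroup of order `7` is conjugate to `T` -/
theorem conj_T {U : Subgroup (Cfsg.Sz F 1)} (hU : Nat.card U = 7) :
    ∃ g : Cfsg.Sz F 1, U.map (MulAut.conj g).toMonoidHom = T hF := by
  have hfin : Finite (Cfsg.Sz F 1) := inferInstance
  have hT : Nat.card (T hF) = 7 := (T_cyclic le_rfl hF).2
  have hUc : IsCyclic U := by
    have := Fact.mk (show Nat.Prime 7 by norm_num)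
    exact isCyclic_of_prime_card hU
  refine exists_conj_of_cc U (T hF) (by rw [hU, hT]) (by rw [hT]; norm_num) ?_ ?_
    (fun u hu hu1 => T_cent le_rfl hF hu hu1)
  · have h1 := (T hF).card_mul_index
    rw [hT, card_sz8 hF] at h1
    have h2 : (T hF).index = 4160 := by omega
    rw [hT, h2]
    norm_num
  · intro x hx y hy
    have := hUc.commGroup.mul_comm (⟨x, hx⟩ : U) ⟨y, hy⟩
    exact congrArg Subtype.val this

theorem card_normalizer_seven {U : Subgroup (Cfsg.Sz F 1)} (hU : Nat.card U = 7) :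
    Nat.card (normalizer (U : Set (Cfsg.Sz F 1))) ≤ 14 := by
  obtain ⟨g, hg⟩ := conj_T hF hU
  have h1 := card_normalizer_T_le le_rfl hF
  rw [← hg, ← Subgroup.map_normalizer_eq_of_bijective _ (f := (MulAut.conj g).toMonoidHom)
    (MulAut.conj g).bijective, Subgroup.card_map_of_injective (MulAut.conj g).injective] at h1
  exact h1.trans (by norm_num)

theorem comm_seven {x z : Cfsg.Sz F 1} (hx : orderOf x = 7) (h : x * z = z * x) : orderOf z ∣ 7 := by
  have hfin : Finite (Cfsg.Sz F 1) := inferInstance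
  have hT : Nat.card (T hF) = 7 := (T_cyclic le_rfl hF).2
  obtain ⟨g, hg⟩ := conj_T hF (U := zpowers x) (by rw [Nat.card_zpowers, hx])
  have h1 : g * x * g⁻¹ ∈ T hF := by
    rw [← hg]
    exact ⟨x, mem_zpowers x, rfl⟩
  have h2 : g * x * g⁻¹ ≠ 1 := by
    intro h3
    have : x = 1 := by
      calc x = g⁻¹ * (g * x * g⁻¹) * g := by group
        _ = 1 := by rw [h3]; group
    rw [this, orderOf_one] at hx
    omega
  have h3 : g * z * g⁻¹ ∈ T hF := by
    rw [← T_cent le_rfl hF h1 h2, Subgroup.mem_centralizer_singleton_iff]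
    calc g * z * g⁻¹ * (g * x * g⁻¹) = g * (z * x) * g⁻¹ := by group
      _ = g * (x * z) * g⁻¹ := by rw [h]
      _ = _ := by group
  have h4 := Subgroup.orderOf_dvd_natCard _ h3
  rwa [hT, orderOf_conj] at h4

/-- subgroups of a Borel subgroup with elements of orders `7` and `4` -/
theorem le_of_seven_four (P0 : Sylow 2 (Cfsg.Sz F 1)) {R : Subgroup (Cfsg.Sz F 1)}
    (hR : R ≤ normalizer ((P0 : Subgroup (Cfsg.Sz F 1)) : Set (Cfsg.Sz F 1))) {x t : Cfsg.Sz F 1} (hx : x ∈ R)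
    (hxo : orderOf x = 7) (ht : t ∈ R) (hto : orderOf t = 4) : (P0 : Subgroup (Cfsg.Sz F 1)) ≤ R := by
  classical
  have hfin : Finite (Cfsg.Sz F 1) := inferInstance
  have := Fintype.ofFinite (Cfsg.Sz F 1)
  have hP0c : Nat.card P0 = 64 := by
    rw [(Cfsg.Agent.S0330.result le_rfl hF P0).1]
    norm_num
  -- `t ∈ P0`
  have htP : t ∈ (P0 : Subgroup (Cfsg.Sz F 1)) := by
    have h2 : IsPGroup 2 (zpowers t) := IsPGroup.of_card (n := 2) (by rw [Nat.card_zpowers, hto]; norm_num)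
    have h3 : (IsPGroup 2 ((P0 : Subgroup (Cfsg.Sz F 1)) ⊔ zpowers t : Subgroup (Cfsg.Sz F 1)) :) :=
      IsPGroup.to_sup_of_normal_left' P0.isPGroup' h2 (by rw [zpowers_le]; exact hR ht)
    have h4 := P0.is_maximal' h3 le_sup_left
    rw [← h4]
    exact (le_sup_right : zpowers t ≤ _) (mem_zpowers t)
  obtain ⟨Q0, hQ0⟩ : ∃ Q0 : Subgroup (Cfsg.Sz F 1), Q0 = R ⊓ P0 := ⟨_, rfl⟩
  have hQc : Nat.card Q0 ∣ 64 := by
    rw [← hP0c, hQ0]
    exact Subgroup.card_dvd_of_le inf_le_right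
  have hZ : ∀ g ∈ zpowers x, ∀ q ∈ Q0, g * q * g⁻¹ ∈ Q0 := by
    intro g hg q hq
    have hgR : g ∈ R := (zpowers_le.2 hx) hg
    rw [hQ0] at hq ⊢
    exact ⟨R.mul_mem (R.mul_mem hgR hq.1) (R.inv_mem hgR), (Subgroup.mem_normalizer_iff.1 (hR hgR) q).1 hq.2⟩
  let act : MulAction (zpowers x) Q0 :=
    { smul := fun g q => ⟨g * q * (g : Cfsg.Sz F 1)⁻¹, hZ g g.2 q q.2⟩
      one_smul := fun q => Subtype.ext (by
        show (1 : Cfsg.Sz F 1) * q * (1 : Cfsg.Sz F 1)⁻¹ = q
        group)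
      mul_smul := fun g h q => Subtype.ext (by
        show ((g : Cfsg.Sz F 1) * h) * q * ((g : Cfsg.Sz F 1) * h)⁻¹ = g * (h * q * (h : Cfsg.Sz F 1)⁻¹) * (g : Cfsg.Sz F 1)⁻¹
        group) }
  have h7 := Fact.mk (show Nat.Prime 7 by norm_num)
  have hp : IsPGroup 7 (zpowers x) := IsPGroup.of_card (n := 1) (by rw [Nat.card_zpowers, hxo, pow_one])
  have hmod := hp.card_modEq_card_fixedPoints Q0
  have hfix : Nat.card (fixedPoints (zpowers x) Q0) = 1 := by
    rw [Nat.card_eq_one_iff_unique]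
    have h1 : ∀ q : Q0, q ∈ fixedPoints (zpowers x) Q0 → q = 1 := by
      intro q hq
      have h2 : x * q * x⁻¹ = q := congrArg Subtype.val (hq ⟨x, mem_zpowers x⟩)
      have h3 : x * (q : Cfsg.Sz F 1) = q * x := mul_inv_eq_iff_eq_mul.1 h2
      have h4 := comm_seven hF hxo h3
      have h5 : orderOf (q : Cfsg.Sz F 1) ∣ 64 := by
        rw [Subgroup.orderOf_coe]
        exact (_root_.orderOf_dvd_natCard q).trans hQc
      have h6 : orderOf (q : Cfsg.Sz F 1) ∣ Nat.gcd 7 64 := Nat.dvd_gcd h4 h5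
      rw [show Nat.gcd 7 64 = 1 by norm_num] at h6
      exact Subtype.ext (orderOf_eq_one_iff.1 (Nat.dvd_one.1 h6))
    refine ⟨⟨fun b c => Subtype.ext ((h1 _ b.2).trans (h1 _ c.2).symm)⟩, ⟨⟨1, fun g => Subtype.ext ?_⟩⟩⟩
    show (g : Cfsg.Sz F 1) * 1 * (g : Cfsg.Sz F 1)⁻¹ = 1
    group
  rw [hfix] at hmod
  -- nine elements
  have h9 : 9 ≤ Nat.card Q0 := by
    let f : zpowers x → Cfsg.Sz F 1 := fun g => g * t * (g : Cfsg.Sz F 1)⁻¹
    have hf : Function.Injective f := by
      intro g h hgh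
      by_contra hne
      have h1 : (g : Cfsg.Sz F 1) * t * (g : Cfsg.Sz F 1)⁻¹ = h * t * (h : Cfsg.Sz F 1)⁻¹ := hgh
      have h2 : ((h : Cfsg.Sz F 1)⁻¹ * g) * t = t * ((h : Cfsg.Sz F 1)⁻¹ * g) := by
        calc ((h : Cfsg.Sz F 1)⁻¹ * g) * t = (h : Cfsg.Sz F 1)⁻¹ * (g * t * (g : Cfsg.Sz F 1)⁻¹) * g := by group
          _ = (h : Cfsg.Sz F 1)⁻¹ * (h * t * (h : Cfsg.Sz F 1)⁻¹) * g := by rw [h1]
          _ = _ := by group
      have h3 : orderOf (h⁻¹ * g) ∣ 7 := by
        have := _root_.orderOf_dvd_natCard (h⁻¹ * g)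
        rwa [Nat.card_zpowers, hxo] at this
      have h4 : orderOf (h⁻¹ * g) = 7 := by
        rcases (Nat.dvd_prime h7.out).1 h3 with h5 | h5
        · exact absurd (inv_mul_eq_one.1 (orderOf_eq_one_iff.1 h5)).symm hne
        · exact h5
      have h4' : orderOf ((h⁻¹ * g : zpowers x) : Cfsg.Sz F 1) = 7 := by rw [Subgroup.orderOf_coe, h4]
      have h5 := comm_seven hF (x := (h : Cfsg.Sz F 1)⁻¹ * g) (z := t) h4' h2
      rw [hto] at h5
      norm_num at h5
    have := Fintype.ofFinite (zpowers x)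
    let S : Finset (Cfsg.Sz F 1) := Finset.univ.image f
    have hS : S.card = 7 := by
      rw [Finset.card_image_of_injective _ hf, Finset.card_univ, ← Nat.card_eq_fintype_card, Nat.card_zpowers, hxo]
    have hSo : ∀ s ∈ S, orderOf s = 4 := by
      intro s hs
      obtain ⟨g, -, rfl⟩ := Finset.mem_image.1 hs
      show orderOf ((g : Cfsg.Sz F 1) * t * (g : Cfsg.Sz F 1)⁻¹) = 4
      rw [orderOf_conj, hto]
    have ht2 : orderOf (t ^ 2) = 2 := by
      rw [orderOf_pow_of_dvd (by norm_num) (by rw [hto]; norm_num), hto]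
    have hn1 : t ^ 2 ∉ S := fun h => by
      have := hSo _ h
      omega
    have hn2 : (1 : Cfsg.Sz F 1) ∉ insert (t ^ 2) S := by
      intro h
      rcases Finset.mem_insert.1 h with h | h
      · rw [← h, orderOf_one] at ht2
        omega
      · have := hSo _ h
        rw [orderOf_one] at this
        omega
    have hc : (insert (1 : Cfsg.Sz F 1) (insert (t ^ 2) S)).card = 9 := by
      rw [Finset.card_insert_of_notMem hn2, Finset.card_insert_of_notMem hn1, hS]
    have htQ : t ∈ Q0 := by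
      rw [hQ0]
      exact ⟨ht, htP⟩
    have hsub : (insert (1 : Cfsg.Sz F 1) (insert (t ^ 2) S)) ⊆ (Finset.univ.filter fun g => g ∈ Q0) := by
      intro s hs
      rw [Finset.mem_filter]
      refine ⟨Finset.mem_univ _, ?_⟩
      rcases Finset.mem_insert.1 hs with rfl | hs
      · exact one_mem _
      · rcases Finset.mem_insert.1 hs with rfl | hs
        · exact pow_mem htQ 2
        · obtain ⟨g, -, rfl⟩ := Finset.mem_image.1 hs
          exact hZ g g.2 t htQ
    have h1 := Finset.card_le_card hsub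
    rw [hc] at h1
    rwa [Nat.card_eq_fintype_card, Fintype.card_subtype]
  have h64 : Nat.card Q0 = 64 := by
    obtain ⟨i, hi, hi2⟩ := (Nat.dvd_prime_pow Nat.prime_two).1 (show Nat.card Q0 ∣ 2 ^ 6 from hQc)
    rw [hi2] at hmod h9 ⊢
    interval_cases i <;> first | rfl | (exfalso; revert h9; decide) | (exfalso; revert hmod; decide)
  have h5 : Q0 ≤ P0 := by rw [hQ0]; exact inf_le_right
  have h6 := Subgroup.eq_of_le_of_card_ge h5 (by rw [h64]; exact hP0c.le)
  rw [← h6, hQ0]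
  exact inf_le_left

theorem isCoatom_borel (P0 : Sylow 2 (Cfsg.Sz F 1)) {R : Subgroup (Cfsg.Sz F 1)}
    (hR : R ≤ normalizer ((P0 : Subgroup (Cfsg.Sz F 1)) : Set (Cfsg.Sz F 1))) {x t : Cfsg.Sz F 1} (hx : x ∈ R)
    (hxo : orderOf x = 7) (ht : t ∈ R) (hto : orderOf t = 4) : IsCoatom R := by
  have hfin : Finite (Cfsg.Sz F 1) := inferInstance
  have h1 := le_of_seven_four hF P0 hR hx hxo ht hto
  have h2 : 64 ∣ Nat.card R := by
    have h3 := Subgroup.card_dvd_of_le h1
    have h4 : Nat.card P0 = 64 := by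
      rw [(Cfsg.Agent.S0330.result le_rfl hF P0).1]
      norm_num
    rwa [h4] at h3
  have h3 : 7 ∣ Nat.card R := by rw [← hxo]; exact Subgroup.orderOf_dvd_natCard _ hx
  have h4 : 448 ∣ Nat.card R := by
    rw [show 448 = 64 * 7 by norm_num]
    exact Nat.Coprime.mul_dvd_of_dvd_of_dvd (by norm_num) h2 h3
  have h5 := Subgroup.eq_of_le_of_card_ge hR
    ((Nat.le_of_dvd (by norm_num) (card_borel hF P0)).trans (Nat.le_of_dvd Nat.card_pos h4))
  rw [h5]
  exact (Cfsg.Agent.S2247.result le_rfl hF P0).1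

theorem isCoatom_torus {U R : Subgroup (Cfsg.Sz F 1)} (hUc : IsCyclic U) {v : ℕ} (hv : v = 13 ∨ v = 5)
    (hU : Nat.card U = v) (hR : R ≤ normalizer (U : Set (Cfsg.Sz F 1))) (h4 : 4 ∣ Nat.card R) (h5 : v ∣ Nat.card R) :
    IsCoatom R := by
  have hfin : Finite (Cfsg.Sz F 1) := inferInstance
  have hvp : v.Prime := by rcases hv with rfl | rfl <;> norm_num
  have hv2 : v ≠ 2 := by omega
  have h6 : 4 * v ∣ Nat.card R := by
    refine Nat.Coprime.mul_dvd_of_dvd_of_dvd ?_ h4 h5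
    rcases hv with rfl | rfl <;> norm_num
  have hN : ∀ V : Subgroup (Cfsg.Sz F 1), IsCyclic V → Nat.card V = v →
      Nat.card (normalizer (V : Set (Cfsg.Sz F 1))) = 4 * v := fun V hVc hV =>
    card_normalizer_torus le_rfl hF V hVc (by rcases hv with rfl | rfl <;> norm_num) hV
  have hRt : R ≠ ⊤ := by
    rintro rfl
    have h7 := Subgroup.card_le_of_le hR
    rw [hN U hUc hU, Subgroup.card_top, card_sz8 hF] at h7
    omega
  rcases eq_top_or_exists_le_coatom R with h1 | ⟨M, hM, h1⟩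
  · exact absurd h1 hRt
  have hvM : v ∣ Nat.card M := h5.trans (Subgroup.card_dvd_of_le h1)
  have h7 : Nat.card M ≤ 4 * v := by
    rcases Cfsg.Agent.S2251.result le_rfl hF M hM.1 with ⟨P0, hP0⟩ | ⟨V, hVc, hVk, hV⟩ | ⟨K, _, _, k, hk1, hkm, -⟩
    · have h8 := borel_prime le_rfl hF P0 hP0 hvp hv2 hvM
      rcases hv with rfl | rfl <;> norm_num at h8
    · have h8 := torus_prime le_rfl hF V hVc hVk hV hvp hv2 hvM
      have h9 : Nat.card V = v := by
        simp only [Set.mem_insert_iff, Set.mem_singleton_iff] at hVk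
        rcases hVk with hVk | hVk | hVk <;> rw [hVk] at h8 ⊢ <;> rcases hv with rfl | rfl <;> first | rfl | norm_num at h8
      rw [← hN V hVc h9]
      exact Subgroup.card_le_of_le hV
    · omega
  have h8 := Subgroup.eq_of_le_of_card_ge h1 (h7.trans (Nat.le_of_dvd Nat.card_pos h6))
  rwa [h8]

theorem rowS_sz8 : RowS (Cfsg.Sz F 1) := by
  have hfin : Finite (Cfsg.Sz F 1) := inferInstance
  have hcard := card_sz8 hF
  have h5 := Fact.mk (show Nat.Prime 5 by norm_num)
  have h7 := Fact.mk (show Nat.Prime 7 by norm_num)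
  have h13 := Fact.mk (show Nat.Prime 13 by norm_num)
  have d5 : 5 ∣ Nat.card (Cfsg.Sz F 1) := by rw [hcard]; norm_num
  have d7 : 7 ∣ Nat.card (Cfsg.Sz F 1) := by rw [hcard]; norm_num
  have d13 : 13 ∣ Nat.card (Cfsg.Sz F 1) := by rw [hcard]; norm_num
  obtain ⟨x5, hx5⟩ := exists_prime_orderOf_dvd_card' 5 d5
  obtain ⟨x7, hx7⟩ := exists_prime_orderOf_dvd_card' 7 d7
  obtain ⟨x13, hx13⟩ := exists_prime_orderOf_dvd_card' 13 d13
  obtain ⟨t, ht⟩ := exists_four hF
  refine ⟨fun M hM => two_sz_aux le_rfl hF M hM.1, fun R hR hRc => ?_⟩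
  have hno : ∀ {p : ℕ}, ¬ p ∣ Nat.card R → ∀ y ∈ R, orderOf y ≠ p := by
    rintro p hp y hy rfl
    exact hp (Subgroup.orderOf_dvd_natCard _ hy)
  have d4 : ∀ y ∈ R, orderOf y = 4 → 4 ∣ Nat.card R := fun y hy h => by
    have h1 := Subgroup.orderOf_dvd_natCard _ hy
    rwa [h] at h1
  have three : ¬ 5 ∣ Nat.card R → ¬ 7 ∣ Nat.card R → ¬ 13 ∣ Nat.card R → Three (Cfsg.Sz F 1) R := fun h1 h2 h3 =>
    Three.of_three_primes h5.out h7.out h13.out (by norm_num) (by norm_num) (by norm_num) d5 d7 d13 h1 h2 h3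
  rcases Cfsg.Agent.S2251.result le_rfl hF R hR with ⟨P0, hP0⟩ | ⟨U, hUc, hUk, hU⟩ | ⟨K, _, _, k, hk1, hkm, -⟩
  · have n5 : ¬ 5 ∣ Nat.card R := fun h => by
      have := borel_prime le_rfl hF P0 hP0 h5.out (by norm_num) h
      norm_num at this
    have n13 : ¬ 13 ∣ Nat.card R := fun h => by
      have := borel_prime le_rfl hF P0 hP0 h13.out (by norm_num) h
      norm_num at this
    by_cases hd : 7 ∣ Nat.card R
    · by_cases h4 : ∀ y ∈ R, orderOf y ≠ 4
      · exact Three.of_orders (a := 5) (b := 13) (c := 4) (by norm_num) (by norm_num) (by norm_num) hx5 hx13 ht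
          (hno n5) (hno n13) h4
      · exfalso
        push Not at h4
        obtain ⟨y, hy, hy4⟩ := h4
        obtain ⟨x, hx⟩ := exists_prime_orderOf_dvd_card' (G := R) 7 hd
        exact hRc (isCoatom_borel hF P0 hP0 x.2 (by rw [Subgroup.orderOf_coe, hx]) hy hy4)
    · exact three n5 hd n13
  · have key : ∀ p : ℕ, p.Prime → p ≠ 2 → p ∣ Nat.card R → p ∣ Nat.card U := fun p hp hp2 h =>
      torus_prime le_rfl hF U hUc hUk hU hp hp2 h
    simp only [Set.mem_insert_iff, Set.mem_singleton_iff] at hUk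
    rcases hUk with hUk | hUk | hUk
    · have hUk' : Nat.card U = 7 := by rw [hUk]; norm_num
      rw [hUk'] at key
      have n5 : ¬ 5 ∣ Nat.card R := fun h => by
        have := key 5 h5.out (by norm_num) h
        norm_num at this
      have n13 : ¬ 13 ∣ Nat.card R := fun h => by
        have := key 13 h13.out (by norm_num) h
        norm_num at this
      by_cases hd : 7 ∣ Nat.card R
      · refine Three.of_orders (a := 5) (b := 13) (c := 4) (by norm_num) (by norm_num) (by norm_num) hx5 hx13 ht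
          (hno n5) (hno n13) fun y hy hy4 => ?_
        have h1 : 4 ∣ Nat.card R := d4 y hy hy4
        have h2 : 4 * 7 ∣ Nat.card R := Nat.Coprime.mul_dvd_of_dvd_of_dvd (by norm_num) h1 hd
        have h3 := Nat.le_of_dvd Nat.card_pos h2
        have h4 := (Subgroup.card_le_of_le hU).trans (card_normalizer_seven hF hUk')
        (clear * - h3 h4; omega)
      · exact three n5 hd n13
    · have hUk' : Nat.card U = 13 := by rw [hUk]; norm_num
      rw [hUk'] at key
      have n5 : ¬ 5 ∣ Nat.card R := fun h => by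
        have := key 5 h5.out (by norm_num) h
        norm_num at this
      have n7 : ¬ 7 ∣ Nat.card R := fun h => by
        have := key 7 h7.out (by norm_num) h
        norm_num at this
      by_cases hd : 13 ∣ Nat.card R
      · refine Three.of_orders (a := 5) (b := 7) (c := 4) (by norm_num) (by norm_num) (by norm_num) hx5 hx7 ht
          (hno n5) (hno n7) fun y hy hy4 => ?_
        exact hRc (isCoatom_torus hF hUc (Or.inl rfl) hUk' hU (d4 y hy hy4) hd)
      · exact three n5 n7 hd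
    · have hUk' : Nat.card U = 5 := by rw [hUk]; norm_num
      rw [hUk'] at key
      have n13 : ¬ 13 ∣ Nat.card R := fun h => by
        have := key 13 h13.out (by norm_num) h
        norm_num at this
      have n7 : ¬ 7 ∣ Nat.card R := fun h => by
        have := key 7 h7.out (by norm_num) h
        norm_num at this
      by_cases hd : 5 ∣ Nat.card R
      · refine Three.of_orders (a := 13) (b := 7) (c := 4) (by norm_num) (by norm_num) (by norm_num) hx13 hx7 ht
          (hno n13) (hno n7) fun y hy hy4 => ?_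
        exact hRc (isCoatom_torus hF hUc (Or.inr rfl) hUk' hU (d4 y hy hy4) hd)
      · exact three hd n7 n13
  · omega

end eight

theorem rowS_sz_aux {m : ℕ} (hm : 1 ≤ m) (hF : Fintype.card F = 2 ^ (2 * m + 1)) : RowS (Cfsg.Sz F m) := by
  have hfin : Finite (Cfsg.Sz F m) := inferInstance
  rcases Nat.lt_or_ge 1 m with h2 | h1
  · exact RowS.of_three fun M hM => three_sz h2 hF M hM.1
  · have hm1 : m = 1 := by omega
    subst hm1
    exact rowS_sz8 hF

/-- **the Suzuki groups** -/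
theorem rowS_sz {T : Type*} [Group T] (h : Cfsg.Lie.IsoSuzuki T) : RowS T := by
  obtain ⟨F, iF, iF', m, hm, hF, ⟨e⟩⟩ := h
  obtain ⟨f⟩ := Cfsg.Agent.OddCyclic.ClaimC.SzIso.iso hm hF
  exact (rowS_sz_aux hm hF).congr (f.trans e.symm)

end Cfsg.Agent.H221.Der
end

-- part: H901/Der/TvAll
section
prune_inst 0xf42065443c6000000018801260201822720004200048000048600d020081cc62a0c068418aa0151208320845403d006000100030400000000a0004000119008000801406b1480108000016000000000000000000000000000000000000000000000000000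
set_option linter.all false
open scoped Cfsg.Agent.FastGrp

/-!
# Irreducible groups of isometries of a 6-dimensional symplectic space over `F₃` with a transvection (S3502)

If such a group has elements of prime order `≥ 5` under which only `0` and `V` are invariant, it contains all symplectic
transvections (`all_tv`).
-/

set_option autoImplicit false
set_option linter.unusedVariables false
set_option linter.unusedSimpArgs false
set_option linter.unusedSectionVars false

namespace Cfsg.Agent.H901.Der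

open Module Subgroup Cfsg.Agent.H743.McL

section conj

variable {K V : Type*} [Field K] [AddCommGroup V] [Module K V] {H D : Subgroup (V ≃ₗ[K] V)}

/-- the subgroup generated by the transvections in `H` -/
def tvGen (H : Subgroup (V ≃ₗ[K] V)) : Subgroup (V ≃ₗ[K] V) :=
  Subgroup.closure {t | t ∈ H ∧ ∃ x φ, (φ : Dual K V) x = 0 ∧ ∀ y, t y = y + φ y • x}

theorem tvGen_le : tvGen H ≤ H := (Subgroup.closure_le _).2 fun _ h => h.1

theorem gen_tvGen : Gen (tvGen H) := by
  apply le_antisymm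
  · refine (Subgroup.closure_le _).2 fun t ht => Subgroup.subset_closure ⟨Subgroup.subset_closure ht, ht.2⟩
  · exact (Subgroup.closure_le _).2 fun t ht => ht.1

theorem tv_tvGen {a : V} {φ : Dual K V} (h : Tv H a φ) : Tv (tvGen H) a φ := by
  obtain ⟨h1, t, ht, h2⟩ := h
  exact ⟨h1, t, Subgroup.subset_closure ⟨ht, a, φ, h1, h2⟩, h2⟩

theorem tv_conj_mem {a : V} {φ : Dual K V} (h : Tv (tvGen H) a φ) {g : V ≃ₗ[K] V} (hg : g ∈ H) :
    Tv (tvGen H) (g a) (φ.comp (g.symm : V →ₗ[K] V)) := by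
  obtain ⟨h1, t, ht, h2⟩ := h
  refine tv_tvGen ⟨by simp [h1], g * t * g⁻¹, H.mul_mem (H.mul_mem hg (tvGen_le ht)) (H.inv_mem hg), fun x => ?_⟩
  have e : (g * t * g⁻¹ : V ≃ₗ[K] V) x = g (t (g.symm x)) := rfl
  rw [e, h2, map_add, map_smul, LinearEquiv.apply_symm_apply]
  rfl

theorem rel_conj {a b : V} (h : Rel (tvGen H) a b) {g : V ≃ₗ[K] V} (hg : g ∈ H) : Rel (tvGen H) (g a) (g b) := by
  obtain ⟨φ, ψ, h1, h2, h3, h4⟩ := h
  exact ⟨_, _, tv_conj_mem h1 hg, tv_conj_mem h2 hg, by simpa using h3, by simpa using h4⟩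

theorem cmp_conj {a b : V} (h : Cmp (tvGen H) a b) {g : V ≃ₗ[K] V} (hg : g ∈ H) : Cmp (tvGen H) (g a) (g b) := by
  induction h with
  | refl => exact Cmp.refl _
  | tail _ h2 ih => exact ih.trans (rel_conj h2 hg).cmp

theorem ctr_conj {a : V} (h : Ctr (tvGen H) a) {g : V ≃ₗ[K] V} (hg : g ∈ H) : Ctr (tvGen H) (g a) := by
  obtain ⟨b, hb⟩ := h
  exact ⟨g b, rel_conj hb hg⟩

/-- `g` of prime order `ℓ`: either `a` and `g a` are in the same component, or the `g ^ i a`, `i < ℓ`, lie in pairwise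
different ones -/
theorem cmp_pow {a : V} {g : V ≃ₗ[K] V} (hg : g ∈ H) {l : ℕ} (hl : l.Prime) (hgl : g ^ l = 1)
    (h : ¬ Cmp (tvGen H) a (g a)) {i j : ℕ} (hi : i < l) (hj : j < l) (hij : i ≠ j) :
    ¬ Cmp (tvGen H) ((g ^ i) a) ((g ^ j) a) := by
  -- integers `k` with `a ~ g ^ k a` form a subgroup
  have hz : ∀ k : ℤ, g ^ k ∈ H := fun k => H.zpow_mem hg k
  have hC : ∀ {k m : ℤ}, Cmp (tvGen H) ((g ^ k) a) ((g ^ m) a) → ∀ n : ℤ,
      Cmp (tvGen H) ((g ^ (n + k)) a) ((g ^ (n + m)) a) := by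
    intro k m hk n
    have := cmp_conj hk (hz n)
    rwa [show (g ^ n) ((g ^ k) a) = (g ^ (n + k)) a by rw [zpow_add]; rfl,
      show (g ^ n) ((g ^ m) a) = (g ^ (n + m)) a by rw [zpow_add]; rfl] at this
  let S : AddSubgroup ℤ :=
    { carrier := {k | Cmp (tvGen H) ((g ^ (0 : ℤ)) a) ((g ^ k) a)}
      zero_mem' := Cmp.refl _
      add_mem' := by
        intro k m hk hm
        have := hC hm k
        rw [add_zero] at this
        exact Cmp.trans hk this
      neg_mem' := by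
        intro k hk
        have := hC hk (-k)
        rw [add_zero, neg_add_cancel] at this
        exact this.symm }
  have hS : ∀ k : ℤ, k ∈ S ↔ Cmp (tvGen H) ((g ^ (0 : ℤ)) a) ((g ^ k) a) := fun k => Iff.rfl
  intro hcon
  apply h
  have h1 : ((j : ℤ) - i) ∈ S := by
    rw [hS]
    have := hC (k := i) (m := j) (by rw [zpow_natCast, zpow_natCast]; exact hcon) (-i)
    rwa [neg_add_cancel, show -(i : ℤ) + j = j - i by ring] at this
  have h2 : (l : ℤ) ∈ S := by
    rw [hS, zpow_natCast, hgl, zpow_zero]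
    exact Cmp.refl _
  have h3 : IsCoprime (l : ℤ) ((j : ℤ) - i) := by
    rw [(Nat.prime_iff_prime_int.1 hl).irreducible.coprime_iff_not_dvd]
    intro hd
    have h5 := Int.eq_zero_of_abs_lt_dvd hd (by rw [abs_lt]; constructor <;> omega)
    omega
  obtain ⟨u, v, huv⟩ := h3
  have h4 : (1 : ℤ) ∈ S := by
    rw [← huv]
    exact S.add_mem (by simpa using S.zsmul_mem h2 u) (by simpa using S.zsmul_mem h1 v)
  rw [hS, zpow_zero, zpow_one] at h4
  exact h4

end conj

section iso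

variable {K V : Type*} [Field K] [AddCommGroup V] [Module K V] {H : Subgroup (V ≃ₗ[K] V)}
  {ω : LinearMap.BilinForm K V}

/-- a transvection preserving the symplectic form `ω` has the functional `c ω(a, ·)` -/
theorem phi_eq (halt : ω.IsAlt) (hnd : ∀ v, (∀ w, ω v w = 0) → v = 0) {a : V} (ha : a ≠ 0) {φ : Dual K V}
    (h : ∀ x y, ω (x + φ x • a) (y + φ y • a) = ω x y) : ∃ c : K, ∀ x, φ x = c * ω a x := by
  have h1 : ∀ x y, φ y * ω x a = φ x * ω y a := by
    intro x y
    have h2 := h x y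
    simp only [map_add, map_smul, LinearMap.add_apply, LinearMap.smul_apply, smul_eq_mul, halt a] at h2
    have h3 : ω a y = - ω y a := by rw [← halt.neg_eq]
    rw [h3] at h2
    linear_combination h2
  obtain ⟨y, hy⟩ : ∃ y, ω a y ≠ 0 := by
    by_contra hcon
    push Not at hcon
    exact ha (hnd a hcon)
  refine ⟨φ y / ω a y, fun x => ?_⟩
  have h4 := h1 x y
  rw [← halt.neg_eq a x, ← halt.neg_eq a y] at h4
  field_simp
  linear_combination h4

theorem tv_form (halt : ω.IsAlt) (hnd : ∀ v, (∀ w, ω v w = 0) → v = 0) (hH : ∀ h ∈ H, ∀ x y, ω (h x) (h y) = ω x y)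
    {a : V} (ha : a ≠ 0) {φ : Dual K V} (h : Tv H a φ) : ∃ c : K, ∀ x, φ x = c * ω a x := by
  obtain ⟨h1, t, ht, h2⟩ := h
  refine phi_eq halt hnd ha fun x y => ?_
  rw [← h2, ← h2]
  exact hH t ht x y

theorem rel_form (halt : ω.IsAlt) (hnd : ∀ v, (∀ w, ω v w = 0) → v = 0) (hH : ∀ h ∈ H, ∀ x y, ω (h x) (h y) = ω x y)
    {a b : V} (h : Rel H a b) : ω a b ≠ 0 := by
  obtain ⟨φ, ψ, h1, h2, h3, h4⟩ := h
  have ha : a ≠ 0 := by
    rintro rfl
    exact h4 (map_zero ψ)
  obtain ⟨c, hc⟩ := tv_form halt hnd hH ha h1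
  intro h0
  rw [hc, h0, mul_zero] at h3
  exact h3 rfl

/-- centres in different components are orthogonal -/
theorem orth_of_not_cmp (halt : ω.IsAlt) (hnd : ∀ v, (∀ w, ω v w = 0) → v = 0)
    (hH : ∀ h ∈ H, ∀ x y, ω (h x) (h y) = ω x y) {a b : V} (ha : Ctr H a) (hb : Ctr H b) (h : ¬ Cmp H a b) :
    ω a b = 0 := by
  by_contra h0
  apply h
  apply Rel.cmp
  obtain ⟨a', φ, -, h1, -, h3, -⟩ := id ha
  obtain ⟨b', ψ, -, h2, -, h4, -⟩ := id hb
  obtain ⟨c, hc⟩ := tv_form halt hnd hH ha.ne_zero h1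
  obtain ⟨d, hd⟩ := tv_form halt hnd hH hb.ne_zero h2
  refine ⟨φ, ψ, h1, h2, ?_, ?_⟩
  · rw [hc]
    refine mul_ne_zero (fun e => h3 ?_) h0
    rw [hc, e, zero_mul]
  · rw [hd]
    refine mul_ne_zero (fun e => h4 ?_) (fun e => h0 ?_)
    · rw [hd, e, zero_mul]
    · rw [← halt.neg_eq, e, neg_zero]

variable [FiniteDimensional K V]

/-- an element of prime order `l` with `2 * l > dim V` fixes all components -/
theorem cmp_self (halt : ω.IsAlt) (hnd : ∀ v, (∀ w, ω v w = 0) → v = 0)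
    (hH : ∀ h ∈ H, ∀ x y, ω (h x) (h y) = ω x y) {l : ℕ} (hl : l.Prime) (hd : finrank K V < 2 * l)
    {g : V ≃ₗ[K] V} (hg : g ∈ H) (hgl : g ^ l = 1) {a : V} (ha : Ctr (tvGen H) a) : Cmp (tvGen H) a (g a) := by
  by_contra hcon
  have hH' : ∀ h ∈ tvGen H, ∀ x y, ω (h x) (h y) = ω x y := fun h hh => hH h (tvGen_le hh)
  obtain ⟨b, hb⟩ := id ha
  have hab := rel_form halt hnd hH' hb
  have hgi : ∀ i : ℕ, g ^ i ∈ H := fun i => H.pow_mem hg i
  have hbi : ∀ i : ℕ, Ctr (tvGen H) ((g ^ i) b) := fun i => ctr_conj ⟨a, hb.symm⟩ (hgi i)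
  have hai : ∀ i : ℕ, Ctr (tvGen H) ((g ^ i) a) := fun i => ctr_conj ha (hgi i)
  have hri : ∀ i : ℕ, Cmp (tvGen H) ((g ^ i) a) ((g ^ i) b) := fun i => (rel_conj hb (hgi i)).cmp
  have hn : ∀ i j : Fin l, i ≠ j → ¬ Cmp (tvGen H) ((g ^ (i : ℕ)) a) ((g ^ (j : ℕ)) a) := fun i j hij =>
    cmp_pow hg hl hgl hcon i.2 j.2 (fun e => hij (Fin.ext e))
  have hab0 : ∀ i j : Fin l, i ≠ j → ω ((g ^ (i : ℕ)) a) ((g ^ (j : ℕ)) b) = 0 := fun i j hij =>
    orth_of_not_cmp halt hnd hH' (hai i) (hbi j) fun h => hn i j hij (h.trans (hri j).symm)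
  have hba0 : ∀ i j : Fin l, i ≠ j → ω ((g ^ (i : ℕ)) b) ((g ^ (j : ℕ)) a) = 0 := fun i j hij =>
    orth_of_not_cmp halt hnd hH' (hbi i) (hai j) fun h => hn i j hij ((hri i).trans h)
  have haa0 : ∀ i j : Fin l, ω ((g ^ (i : ℕ)) a) ((g ^ (j : ℕ)) a) = 0 := fun i j => by
    by_cases hij : i = j
    · rw [hij]; exact halt _
    · exact orth_of_not_cmp halt hnd hH' (hai i) (hai j) (hn i j hij)
  have hbb0 : ∀ i j : Fin l, ω ((g ^ (i : ℕ)) b) ((g ^ (j : ℕ)) b) = 0 := fun i j => by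
    by_cases hij : i = j
    · rw [hij]; exact halt _
    · exact orth_of_not_cmp halt hnd hH' (hbi i) (hbi j) fun h => hn i j hij
        ((hri i).trans (h.trans (hri j).symm))
  have hgab : ∀ i : ℕ, ω ((g ^ i) a) ((g ^ i) b) = ω a b := fun i => hH _ (hgi i) a b
  have hind : LinearIndependent K (Sum.elim (fun i : Fin l => (g ^ (i : ℕ)) a) (fun i : Fin l => (g ^ (i : ℕ)) b)) := by
    rw [Fintype.linearIndependent_iff]
    intro c hc
    rw [Fintype.sum_sum_type] at hc
    simp only [Sum.elim_inl, Sum.elim_inr] at hc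
    have h1 : ∀ j : Fin l, c (Sum.inl j) = 0 := by
      intro j
      have h2 := congrArg (fun v => ω v ((g ^ (j : ℕ)) b)) hc
      simp only [map_add, map_sum, map_smul, LinearMap.add_apply, LinearMap.coe_sum, Finset.sum_apply,
        LinearMap.smul_apply, smul_eq_mul, map_zero, LinearMap.zero_apply, hbb0, mul_zero, Finset.sum_const_zero,
        add_zero] at h2
      rw [Finset.sum_eq_single j (fun i _ hij => by rw [hab0 i j hij, mul_zero]) (fun h => absurd (Finset.mem_univ j) h),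
        hgab] at h2
      exact (mul_eq_zero.1 h2).resolve_right hab
    have h1' : ∀ j : Fin l, c (Sum.inr j) = 0 := by
      intro j
      have h2 := congrArg (fun v => ω v ((g ^ (j : ℕ)) a)) hc
      simp only [map_add, map_sum, map_smul, LinearMap.add_apply, LinearMap.coe_sum, Finset.sum_apply,
        LinearMap.smul_apply, smul_eq_mul, map_zero, LinearMap.zero_apply, haa0, mul_zero, Finset.sum_const_zero,
        zero_add] at h2
      rw [Finset.sum_eq_single j (fun i _ hij => by rw [hba0 i j hij, mul_zero]) (fun h => absurd (Finset.mem_univ j) h),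
        ← halt.neg_eq, hgab] at h2
      exact (mul_eq_zero.1 h2).resolve_right (neg_ne_zero.2 hab)
    rintro (j | j)
    · exact h1 j
    · exact h1' j
  have h3 := hind.fintype_card_le_finrank
  rw [Fintype.card_sum, Fintype.card_fin] at h3
  omega

end iso

section main

variable {V : Type*} [AddCommGroup V] [Module (ZMod 3) V] [Finite V] {H : Subgroup (V ≃ₗ[ZMod 3] V)}
  {ω : LinearMap.BilinForm (ZMod 3) V}

/-- normalisers of `D` normalise its `p`-core -/
theorem core_conj {G : Type*} [Group G] (p : ℕ) {D H : Subgroup G}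
    (hD : ∀ h ∈ H, D.map (MulAut.conj h).toMonoidHom = D) {h : G} (hh : h ∈ H) :
    ((Cfsg.pCore p D).map D.subtype).map (MulAut.conj h).toMonoidHom = (Cfsg.pCore p D).map D.subtype := by
  have h1 := Cfsg.Agent.Lib.Cores.map_equiv_pCore (D.equivMapOfInjective (MulAut.conj h).toMonoidHom
    (MulAut.conj h).injective) p
  have h2 : (Cfsg.pCore p ↥(D.map (MulAut.conj h).toMonoidHom)).map (D.map (MulAut.conj h).toMonoidHom).subtype =
      ((Cfsg.pCore p ↥D).map D.subtype).map (MulAut.conj h).toMonoidHom := by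
    rw [← h1, Subgroup.map_map, Subgroup.map_map]
    congr 1
  rw [← h2]
  congr 1 <;> rw [hD h hh]

theorem tvGen_map {K V : Type*} [Field K] [AddCommGroup V] [Module K V] {H : Subgroup (V ≃ₗ[K] V)}
    {h : V ≃ₗ[K] V} (hh : h ∈ H) : (tvGen H).map (MulAut.conj h).toMonoidHom = tvGen H := by
  have key : ∀ h ∈ H, (tvGen H).map (MulAut.conj h).toMonoidHom ≤ tvGen H := by
    intro h hh
    rw [tvGen, MonoidHom.map_closure, Subgroup.closure_le]
    rintro _ ⟨t, ⟨ht, x, φ, h1, h2⟩, rfl⟩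
    refine Subgroup.subset_closure ⟨H.mul_mem (H.mul_mem hh ht) (H.inv_mem hh), h x, φ.comp (h.symm : V →ₗ[K] V),
      by simp [h1], fun y => ?_⟩
    have e : ((MulAut.conj h).toMonoidHom t : V ≃ₗ[K] V) y = h (t (h.symm y)) := rfl
    rw [e, h2, map_add, map_smul, LinearEquiv.apply_symm_apply]
    rfl
  apply le_antisymm (key h hh)
  intro t ht
  refine ⟨h⁻¹ * t * h, ?_, by simp [mul_assoc]⟩
  have := key h⁻¹ (H.inv_mem hh) ⟨t, ht, rfl⟩
  simpa using this

theorem pCore_tvGen (hirr : ∀ W : Submodule (ZMod 3) V, (∀ h ∈ H, ∀ w ∈ W, h w ∈ W) → W = ⊥ ∨ W = ⊤)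
    [Nontrivial V] : Cfsg.pCore 3 (tvGen H) = ⊥ := by
  have hfin : Finite (V ≃ₗ[ZMod 3] V) := Finite.of_injective (fun f => (f : V → V)) DFunLike.coe_injective
  set P := (Cfsg.pCore 3 (tvGen H)).map (tvGen H).subtype with hP
  have hPp : IsPGroup 3 P := (Cfsg.Agent.Lib.Cores.pCore_isPGroup 3).map _
  have hconj : ∀ h ∈ H, ∀ x ∈ P, h⁻¹ * x * h ∈ P := by
    intro h hh x hx
    have h1 := core_conj 3 (fun h hh => tvGen_map hh) (H.inv_mem hh) (D := tvGen H)
    rw [← hP] at h1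
    have h2 : (MulAut.conj h⁻¹).toMonoidHom x ∈ P.map (MulAut.conj h⁻¹).toMonoidHom := ⟨x, hx, rfl⟩
    rw [h1] at h2
    simpa using h2
  let W : Submodule (ZMod 3) V :=
    { carrier := {v | ∀ x ∈ P, x v = v}
      zero_mem' := fun x _ => map_zero x
      add_mem' := fun {u v} hu hv x hx => by rw [map_add, hu x hx, hv x hx]
      smul_mem' := fun c v hv x hx => by rw [map_smul, hv x hx] }
  have hW : ∀ v, v ∈ W ↔ ∀ x ∈ P, x v = v := fun v => Iff.rfl
  have hWH : ∀ h ∈ H, ∀ w ∈ W, h w ∈ W := by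
    intro h hh w hw x hx
    have h1 := hw _ (hconj h hh x hx)
    have h2 : (h⁻¹ * x * h : V ≃ₗ[ZMod 3] V) w = h.symm (x (h w)) := rfl
    rw [h2, LinearEquiv.symm_apply_eq] at h1
    exact h1
  have hne : W ≠ ⊥ := by
    intro h0
    -- `P` is a `3`-group acting on `V`
    have h3 : 3 ∣ Nat.card V := by
      have := Module.natCard_eq_pow_finrank (K := ZMod 3) (V := V)
      rw [this, Nat.card_zmod]
      exact dvd_pow_self 3 (Module.finrank_pos (R := ZMod 3) (M := V)).ne'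
    let act : MulAction P V :=
      { smul := fun x v => (x : V ≃ₗ[ZMod 3] V) v
        one_smul := fun v => rfl
        mul_smul := fun x y v => rfl }
    have hzero : (0 : V) ∈ MulAction.fixedPoints P V := fun x => map_zero (x : V ≃ₗ[ZMod 3] V)
    obtain ⟨b, hb, hb0⟩ := hPp.exists_fixed_point_of_prime_dvd_card_of_fixed_point V h3 hzero
    apply hb0
    have h4 : b ∈ W := fun x hx => hb ⟨x, hx⟩
    rw [h0, Submodule.mem_bot] at h4
    exact h4.symm
  have htop := (hirr W hWH).resolve_left hne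
  rw [eq_bot_iff]
  intro x hx
  rw [Subgroup.mem_bot]
  have h5 : (x : V ≃ₗ[ZMod 3] V) ∈ P := ⟨x, hx, rfl⟩
  apply Subtype.ext
  apply LinearEquiv.ext
  intro v
  have h6 : v ∈ W := by rw [htop]; exact Submodule.mem_top
  exact h6 _ h5

/-- **All symplectic transvections.** -/
theorem all_tv (halt : ω.IsAlt) (hnd : ∀ v, (∀ w, ω v w = 0) → v = 0) (hd : finrank (ZMod 3) V < 10)
    (hH : ∀ h ∈ H, ∀ x y, ω (h x) (h y) = ω x y)
    (hirr : ∀ W : Submodule (ZMod 3) V, (∀ h ∈ H, ∀ l : ℕ, l.Prime → 5 ≤ l → h ^ l = 1 → ∀ w ∈ W, h w ∈ W) →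
      W = ⊥ ∨ W = ⊤) {a : V} (ha : a ≠ 0) (ht : ∃ t ∈ H, ∀ x, t x = x + ω a x • a) (v : V) :
    ∃ t ∈ H, ∀ x, t x = x + ω v x • v := by
  have hnt : Nontrivial V := ⟨⟨a, 0, ha⟩⟩
  have hO : Cfsg.pCore 3 (tvGen H) = ⊥ := pCore_tvGen fun W hW => hirr W fun h hh l _ _ _ w hw => hW h hh w hw
  have hH' : ∀ h ∈ tvGen H, ∀ x y, ω (h x) (h y) = ω x y := fun h hh => hH h (tvGen_le hh)
  have hN : NI (tvGen H) := ni_of_pCore (by decide) hO
  obtain ⟨t, ht1, ht2⟩ := ht
  have hTv : Tv (tvGen H) a (ω a) := tv_tvGen ⟨halt a, t, ht1, ht2⟩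
  have hφ : ω a ≠ 0 := fun e => ha (hnd a fun w => by rw [e]; rfl)
  obtain ⟨b, ψ, hb1, hb2, hb3⟩ := hN a (ω a) hTv ha hφ
  have hctr : Ctr (tvGen H) a := ⟨b, ω a, ψ, hTv, hb1, hb2, hb3⟩
  obtain ⟨hcompl, ρ, hρ, hor⟩ := comp_main (by decide) hO gen_tvGen hctr
  -- the span of the component is everything
  have hWtop : Wc (tvGen H) a = ⊤ := by
    refine (hirr (Wc (tvGen H) a) ?_).resolve_left ?_
    · intro h hh l hl hl5 hhl w hw
      have h1 : Cmp (tvGen H) a (h a) := cmp_self halt hnd hH hl (by omega) hh hhl hctr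
      have h2 : Wc (tvGen H) a ≤ (Wc (tvGen H) a).comap (h : V →ₗ[ZMod 3] V) := by
        rw [Wc, Submodule.span_le]
        intro x hx
        exact Submodule.subset_span (h1.trans (cmp_conj hx hh))
      exact h2 hw
    · intro h0
      have : a ∈ Wc (tvGen H) a := Submodule.subset_span (Cmp.refl a)
      rw [h0, Submodule.mem_bot] at this
      exact ha this
  have hmemW : ∀ x : V, x ∈ Wc (tvGen H) a := fun x => by rw [hWtop]; exact Submodule.mem_top
  -- transvections as linear equivalences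
  have hmk : ∀ (v : V) (c : ZMod 3) (f : V ≃ₗ[ZMod 3] V), (∀ x, f x = x + (c * ω v x) • v) →
      f ∈ tvGen H → c ≠ 0 → ∃ t ∈ H, ∀ x, t x = x + ω v x • v := by
    intro v c f hf hfD hc
    have hc2 : c = 1 ∨ c = -1 := (by decide : ∀ c : ZMod 3, c ≠ 0 → c = 1 ∨ c = -1) c hc
    rcases hc2 with rfl | rfl
    · exact ⟨f, tvGen_le hfD, fun x => by rw [hf, one_mul]⟩
    · refine ⟨f⁻¹, H.inv_mem (tvGen_le hfD), fun x => ?_⟩
      rw [show (f⁻¹ : V ≃ₗ[ZMod 3] V) x = f.symm x from rfl, LinearEquiv.symm_apply_eq, hf]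
      simp [halt v]
  by_cases hv : v = 0
  · refine ⟨1, H.one_mem, fun x => ?_⟩
    rw [hv, map_zero, LinearMap.zero_apply, zero_smul, add_zero]
    rfl
  -- the linear equivalence `x ↦ x + c ω(v, x) v` on the component
  have hlift : ∀ c : ZMod 3, c ≠ 0 → ∀ f : Wc (tvGen H) a ≃ₗ[ZMod 3] Wc (tvGen H) a,
      (∀ x : Wc (tvGen H) a, ((f x : Wc (tvGen H) a) : V) = x + (c * ω v x) • v) → f ∈ ρ.range →
      ∃ t ∈ H, ∀ x, t x = x + ω v x • v := by
    rintro c hc f hf ⟨k, rfl⟩
    refine hmk v c k (fun x => ?_) (Kc_le a k.2) hc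
    have h1 := hρ k ⟨x, hmemW x⟩
    rw [hf] at h1
    exact h1.symm
  rcases hor with hSL | ⟨B, hB1, hB2, hB3⟩
  · -- the special linear group
    let w : Wc (tvGen H) a := ⟨v, hmemW v⟩
    let θ : Dual (ZMod 3) (Wc (tvGen H) a) := (ω v).comp (Wc (tvGen H) a).subtype
    have hθ : θ w = 0 := halt v
    let f : Wc (tvGen H) a ≃ₗ[ZMod 3] Wc (tvGen H) a := LinearEquiv.transvection hθ
    refine hlift 1 one_ne_zero f (fun x => ?_) ?_
    · rw [one_mul]
      rfl
    · rw [← SetLike.mem_coe, hSL, Set.mem_ofPred_eq]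
      change LinearMap.det (LinearMap.transvection θ w) = 1
      rw [LinearMap.transvection.det, hθ, add_zero]
  · -- the symplectic group
    let w : Wc (tvGen H) a := ⟨v, hmemW v⟩
    have hw0 : w ≠ 0 := fun e => hv (congrArg Subtype.val e)
    have hθ : B w w = 0 := hB1 w
    let f : Wc (tvGen H) a ≃ₗ[ZMod 3] Wc (tvGen H) a := LinearEquiv.transvection hθ
    have hf : ∀ x, f x = x + B w x • w := fun x => rfl
    have hfr : f ∈ ρ.range := by
      rw [← SetLike.mem_coe, hB3, Set.mem_ofPred_eq]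
      intro x y
      rw [hf, hf]
      simp only [map_add, map_smul, LinearMap.add_apply, LinearMap.smul_apply, smul_eq_mul, hθ]
      rw [← hB1.neg_eq x w]
      ring
    obtain ⟨k, hk⟩ := id hfr
    have hkf : ∀ x : Wc (tvGen H) a, (k : V ≃ₗ[ZMod 3] V) (x : V) = (x : V) + B w x • v := by
      intro x
      rw [← hρ k x, hk, hf]
      rfl
    let φ : Dual (ZMod 3) V := (B w).comp (LinearMap.codRestrict (Wc (tvGen H) a) LinearMap.id hmemW)
    have hφ' : ∀ x : V, φ x = B w ⟨x, hmemW x⟩ := fun x => rfl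
    obtain ⟨c, hc⟩ := phi_eq (φ := φ) halt hnd hv (fun x y => by
      have h1 := hH' k (Kc_le a k.2) x y
      rw [hkf ⟨x, hmemW x⟩, hkf ⟨y, hmemW y⟩] at h1
      exact h1)
    refine hlift c (fun h0 => ?_) f (fun x => ?_) hfr
    · apply hw0
      apply hB2.1 w
      intro y
      have := hc y
      rw [h0, zero_mul, hφ'] at this
      exact this
    · rw [← hc]
      rfl

end main

end Cfsg.Agent.H901.Der

private theorem dce_0bb9f3aebe4e : _root_.True := by
  try have : _root_.True := by simp only [_root_.Cfsg.Agent.H901.Der.tvGen.eq_1]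
  exact _root_.True.intro
end

-- part: H901/Der/SpSix
section
set_option linter.all false
open scoped Cfsg.Agent.FastGrp

/-!
# Subgroups of `Sp₆(3)` with a transvection and elements of orders `7` or `13` and `5` (S3502)
-/

set_option autoImplicit false
set_option linter.unusedSectionVars false

namespace Cfsg.Agent.H901.Der

open Module Cfsg Cfsg.Agent.ClassicalGeometry.SympBasic Cfsg.Agent.H876 Cfsg.Agent.H931 Cfsg.Agent.H262.El
open scoped Matrix MatrixGroups

section le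

variable {F : Type*} [Field F] {ι : Type*} [Fintype ι] [DecidableEq ι]

/-- a matrix as a linear equivalence -/
noncomputable def toLE : GL ι F →* ((ι → F) ≃ₗ[F] (ι → F)) :=
  (LinearMap.GeneralLinearGroup.generalLinearEquiv F (ι → F)).toMonoidHom.comp
    (Matrix.GeneralLinearGroup.toLin (n := ι) (R := F)).toMonoidHom

theorem toLE_apply (A : GL ι F) (v : ι → F) : toLE A v = (A : Matrix ι ι F) *ᵥ v := rfl

theorem toLE_injective : Function.Injective (toLE (F := F) (ι := ι)) := by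
  intro A B h
  apply Units.ext
  apply Matrix.toLin'.injective
  apply LinearMap.ext
  intro v
  rw [Matrix.toLin'_apply, Matrix.toLin'_apply, ← toLE_apply, ← toLE_apply, h]

end le

/-- the symplectic form as a bilinear form -/
noncomputable def sB (m : ℕ) (F : Type*) [Field F] : LinearMap.BilinForm F (Fin m ⊕ Fin m → F) :=
  Matrix.toBilin' (Matrix.J (Fin m) F)

theorem sB_apply {m : ℕ} {F : Type*} [Field F] (u v : Fin m ⊕ Fin m → F) : sB m F u v = sympForm m F u v :=
  Matrix.toBilin'_apply' _ _ _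

abbrev V6 := Fin 3 ⊕ Fin 3 → ZMod 3

theorem od7 : Od 3 6 7 := ⟨by norm_num, by
  rw [orderOf_eq_iff (by norm_num)]
  refine ⟨by decide, fun m hm hm0 => ?_⟩
  interval_cases m <;> decide, by norm_num⟩

theorem od13 : Od 3 3 13 := ⟨by norm_num, by
  rw [orderOf_eq_iff (by norm_num)]
  refine ⟨by decide, fun m hm hm0 => ?_⟩
  interval_cases m <;> decide, by norm_num⟩

theorem od5 : Od 3 4 5 := ⟨by norm_num, by
  rw [orderOf_eq_iff (by norm_num)]
  refine ⟨by decide, fun m hm hm0 => ?_⟩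
  interval_cases m <;> decide, by norm_num⟩

theorem sp6_irr_seven {x : GL (Fin 3 ⊕ Fin 3) (ZMod 3)} (hx : x ^ 7 = 1) (hx1 : x ≠ 1) (W : Submodule (ZMod 3) V6)
    (hW : ∀ v ∈ W, (x : Matrix (Fin 3 ⊕ Fin 3) (Fin 3 ⊕ Fin 3) (ZMod 3)) *ᵥ v ∈ W) : W = ⊥ ∨ W = ⊤ :=
  irr_of_od (by
    rw [ZMod.card, Fintype.card_sum, Fintype.card_fin]
    exact od7) hx hx1 W hW

theorem sp6_irr_thirteen {x y : GL (Fin 3 ⊕ Fin 3) (ZMod 3)} (hxs : x ∈ spGL 3 (ZMod 3)) (_hys : y ∈ spGL 3 (ZMod 3))
    (hx : x ^ 13 = 1) (hx1 : x ≠ 1) (hy : y ^ 5 = 1) (hy1 : y ≠ 1) (W : Submodule (ZMod 3) V6)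
    (hW : ∀ v ∈ W, (x : Matrix (Fin 3 ⊕ Fin 3) (Fin 3 ⊕ Fin 3) (ZMod 3)) *ᵥ v ∈ W)
    (hW' : ∀ v ∈ W, (y : Matrix (Fin 3 ⊕ Fin 3) (Fin 3 ⊕ Fin 3) (ZMod 3)) *ᵥ v ∈ W) : W = ⊥ ∨ W = ⊤ := by
  have hc : Fintype.card (Fin 3 ⊕ Fin 3) = 6 := by simp
  have h13 : Od (Fintype.card (ZMod 3)) 3 13 := by rw [ZMod.card]; exact od13
  have h5 : Od (Fintype.card (ZMod 3)) 4 5 := by rw [ZMod.card]; exact od5
  -- the fixed spaces
  have h1 := finrank_fixS h13 hx
  have h2 := finrank_fixS_lt hx1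
  have h3 := finrank_fixS h5 hy
  have h4 := finrank_fixS_lt hy1
  have h5' := even_fixS hxs (r := 13) (by decide) hx
  rw [hc] at h1 h2 h3 h4
  have hx0 : finrank (ZMod 3) (fixS x) = 0 := by
    obtain ⟨k, hk⟩ := h5'
    omega
  have hxb : fixS x = ⊥ := Submodule.finrank_eq_zero.1 hx0
  have hy2 : finrank (ZMod 3) (fixS y) = 2 := by omega
  -- the invariant subspace
  have h6 : 3 ∣ finrank (ZMod 3) W - finrank (ZMod 3) (W ⊓ fixS x : Submodule (ZMod 3) V6) := finrank_inv h13 hx W hW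
  rw [hxb, inf_bot_eq, finrank_bot, Nat.sub_zero] at h6
  have h7 : 4 ∣ finrank (ZMod 3) W - finrank (ZMod 3) (W ⊓ fixS y : Submodule (ZMod 3) V6) := finrank_inv h5 hy W hW'
  have h8 : finrank (ZMod 3) (W ⊓ fixS y : Submodule (ZMod 3) V6) ≤ 2 := by
    rw [← hy2]
    exact Submodule.finrank_mono inf_le_right
  have h9 : finrank (ZMod 3) (W ⊓ fixS y : Submodule (ZMod 3) V6) ≤ finrank (ZMod 3) W :=
    Submodule.finrank_mono inf_le_left
  have h10 : finrank (ZMod 3) W ≤ 6 := by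
    have := Submodule.finrank_le W
    rwa [Module.finrank_fintype_fun_eq_card, hc] at this
  have h11 : finrank (ZMod 3) W = 0 ∨ finrank (ZMod 3) W = 6 := by
    obtain ⟨k, hk⟩ := h6
    obtain ⟨l, hl⟩ := h7
    have hk2 : k ≤ 2 := by omega
    interval_cases k
    · exact Or.inl (by omega)
    · exfalso; omega
    · exact Or.inr (by omega)
  rcases h11 with h | h
  · exact Or.inl (Submodule.finrank_eq_zero.1 h)
  · refine Or.inr (Submodule.eq_top_of_finrank_eq ?_)
    rw [h, Module.finrank_fintype_fun_eq_card, hc]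

theorem tGL_all {m : ℕ} {R : Subgroup (GL (Fin m ⊕ Fin m) (ZMod 3))} {a : Fin m ⊕ Fin m → ZMod 3} {c : ZMod 3}
    (h : tGL a c ∈ R) (hc : c ≠ 0) (d : ZMod 3) : tGL a d ∈ R := by
  have h1 : ∀ c d : ZMod 3, tGL a c * tGL a d = (tGL a (c + d) : GL (Fin m ⊕ Fin m) (ZMod 3)) := by
    intro c d
    apply toLE_injective
    apply LinearEquiv.ext
    intro x
    rw [map_mul, LinearEquiv.mul_apply, toLE_apply, toLE_apply, toLE_apply, tGL_mulVec, tGL_mulVec, tGL_mulVec,
      sympForm_add_left, sympForm_smul_left, sympForm_self, mul_zero, add_zero, add_assoc, ← add_smul]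
    congr 2
    ring
  have h0 : (tGL a 0 : GL (Fin m ⊕ Fin m) (ZMod 3)) = 1 := tGL_eq_one_of_zero (Or.inr rfl)
  have h2 : tGL a (c + c) ∈ R := by
    rw [← h1]
    exact R.mul_mem h h
  have h3 : d = 0 ∨ d = c ∨ d = c + c := (by decide : ∀ c d : ZMod 3, c ≠ 0 → d = 0 ∨ d = c ∨ d = c + c) c d hc
  rcases h3 with rfl | rfl | rfl
  · rw [h0]; exact R.one_mem
  · exact h
  · exact h2

theorem sp6_full {R : Subgroup (GL (Fin 3 ⊕ Fin 3) (ZMod 3))} (hR : R ≤ spGL 3 (ZMod 3))
    (hdiv : (∃ x ∈ R, x ^ 7 = 1 ∧ x ≠ 1) ∨ ((∃ x ∈ R, x ^ 13 = 1 ∧ x ≠ 1) ∧ ∃ y ∈ R, y ^ 5 = 1 ∧ y ≠ 1))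
    {a : V6} {c : ZMod 3} (ha : a ≠ 0) (hc : c ≠ 0) (ht : tGL a c ∈ R) : spGL 3 (ZMod 3) ≤ R := by
  have hcard : Fintype.card (Fin 3 ⊕ Fin 3) = 6 := by simp
  have hmem : ∀ h : V6 ≃ₗ[ZMod 3] V6, h ∈ R.map toLE ↔ ∃ g ∈ R, toLE g = h := fun h => Iff.rfl
  have key := all_tv (V := V6) (H := R.map toLE) (ω := sB 3 (ZMod 3)) ?_ ?_ ?_ ?_ ?_ ha ?_
  · apply spGL_le
    intro v d
    obtain ⟨_, ⟨g, hg, rfl⟩, hg2⟩ := key v
    have hgv : g = tGL v (-1) := by
      apply toLE_injective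
      apply LinearEquiv.ext
      intro x
      rw [hg2, toLE_apply, tGL_mulVec, sB_apply, sympForm_swap v x, neg_one_mul]
    rw [hgv] at hg
    exact tGL_all hg (by decide) d
  · intro x
    rw [sB_apply, sympForm_self]
  · intro v hv
    apply eq_zero_of_forall_sympForm_left (m := 3)
    intro w
    rw [sympForm_swap, ← sB_apply, hv w, neg_zero]
  · rw [Module.finrank_fintype_fun_eq_card, hcard]
    norm_num
  · rintro _ ⟨g, hg, rfl⟩ x y
    rw [sB_apply, sB_apply]
    exact mem_spGL_iff.1 (hR hg) x y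
  · intro W hW
    rcases hdiv with ⟨x, hx, hx7, hx1⟩ | ⟨⟨x, hx, hx13, hx1⟩, y, hy, hy5, hy1⟩
    · exact sp6_irr_seven hx7 hx1 W fun v hv => hW _ ⟨x, hx, rfl⟩ 7 (by norm_num) (by norm_num) (by
        rw [← map_pow, hx7, map_one]) v hv
    · exact sp6_irr_thirteen (hR hx) (hR hy) hx13 hx1 hy5 hy1 W (fun v hv => hW _ ⟨x, hx, rfl⟩ 13 (by norm_num)
        (by norm_num) (by rw [← map_pow, hx13, map_one]) v hv) (fun v hv => hW _ ⟨y, hy, rfl⟩ 5 (by norm_num)
        (by norm_num) (by rw [← map_pow, hy5, map_one]) v hv)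
  · refine ⟨_, ⟨tGL a (-1), tGL_all ht hc (-1), rfl⟩, fun x => ?_⟩
    rw [toLE_apply, tGL_mulVec, sB_apply, sympForm_swap a x, neg_one_mul]

end Cfsg.Agent.H901.Der
end

-- part: H916/Der/FourWA
section
prune_inst 0x1002444004002000000809251201c42860005b000080000c02001420480cc2200806960b800150218282205003d0068110000e04000000000000400011900a0808004042140010880001e000080000000000000000000000000000000000004000000000
set_option linter.all false
open scoped Cfsg.Agent.FastGrp

-- part: H916/Der/FourTr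
section
/-!
# `Sp₄(4)`: subgroups containing transvections (helper916, for S3502)

`V = A ⊥ B`, `a` of order 5 in `Sp(A)`.
-/

set_option autoImplicit false

namespace Cfsg.Agent.H916.Der.Four

open Subgroup Cfsg Cfsg.Agent.Lib.FieldFour Cfsg.Agent.H547.Der.Four Cfsg.Agent.ClassicalGeometry.SympBasic
  Cfsg.Agent.ClassicalGeometry.Sp4Graph

/-- the group -/
abbrev G := Matrix.symplecticGroup (Fin 2) F4

theorem charF4 : CharP F4 2 := CharTwo.of_one_ne_zero_of_two_eq_zero (by decide) (by decide)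

/-- a vector -/
def bl (p q r s : F4) : V4 := Sum.elim ![p, q] ![r, s]

theorem bl_eta (x : V4) : x = bl (x (.inl 0)) (x (.inl 1)) (x (.inr 0)) (x (.inr 1)) := by
  funext i
  rcases i with i | i <;> fin_cases i <;> rfl

theorem bl_add (p q r s p' q' r' s' : F4) : bl p q r s + bl p' q' r' s' = bl (p + p') (q + q') (r + r') (s + s') := by
  funext i
  rcases i with i | i <;> fin_cases i <;> rfl

theorem bl_smul (l p q r s : F4) : l • bl p q r s = bl (l * p) (l * q) (l * r) (l * s) := by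
  funext i
  rcases i with i | i <;> fin_cases i <;> rfl

theorem bl_inj {p q r s p' q' r' s' : F4} (h : bl p q r s = bl p' q' r' s') : p = p' ∧ q = q' ∧ r = r' ∧ s = s' :=
  ⟨congrFun h (.inl 0), congrFun h (.inl 1), congrFun h (.inr 0), congrFun h (.inr 1)⟩

theorem bl_zero : (0 : V4) = bl 0 0 0 0 := by
  funext i
  rcases i with i | i <;> fin_cases i <;> rfl

theorem form_bl (p q r s p' q' r' s' : F4) :
    sympForm 2 F4 (bl p q r s) (bl p' q' r' s') = p * r' + r * p' + q * s' + s * q' := by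
  have := charF4
  rw [sympForm_eq]
  rfl

/-- all the transvections with centre `x` -/
def Tr (H : Subgroup G) (x : V4) : Prop := ∀ c : F4, transv x c ∈ H

variable {H : Subgroup G}

theorem conj_transv (g : G) (x : V4) (c : F4) : g * transv x c * g⁻¹ = transv ((g : M4).mulVec x) c := by
  rw [mul_inv_eq_iff_eq_mul]
  exact Subtype.ext (mul_sympTransvection g.2 x c)

theorem Tr.act {x : V4} (h : Tr H x) {g : G} (hg : g ∈ H) : Tr H ((g : M4).mulVec x) := fun c => by
  rw [← conj_transv]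
  exact H.mul_mem (H.mul_mem hg (h c)) (H.inv_mem hg)

theorem Tr.smul {x : V4} (h : Tr H x) (l : F4) : Tr H (l • x) := fun c => by
  have h1 : transv (l • x) c = transv x (l ^ 2 * c) := Subtype.ext (sympTransvection_smul x l c)
  rw [h1]
  exact h _

theorem Tr.add {x y : V4} (hx : Tr H x) (hy : Tr H y) (hxy : sympForm 2 F4 x y ≠ 0) (e : F4) : Tr H (x + e • y) := by
  have h1 := hx.act (hy (e / sympForm 2 F4 x y))
  rwa [coe_transv, sympTransvection_mulVec, div_mul_cancel₀ _ hxy] at h1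

theorem tr_zero : Tr H 0 := fun c => by
  have h1 : transv (0 : V4) c = 1 := by
    apply Subtype.ext
    rw [coe_transv, ← Matrix.mulVec_injective.eq_iff]
    funext x
    rw [sympTransvection_mulVec, smul_zero, add_zero]
    exact (Matrix.one_mulVec x).symm
  rw [h1]
  exact H.one_mem

theorem tr_B (h1 : Tr H (bl 0 1 0 0)) (h2 : Tr H (bl 0 0 0 1)) (q s : F4) : Tr H (bl 0 q 0 s) := by
  by_cases hq : q = 0
  · have h3 := h2.smul s
    rw [bl_smul] at h3
    simpa [hq] using h3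
  · have h3 := (h1.add h2 (by rw [form_bl]; decide) (s / q)).smul q
    rw [bl_smul, bl_add, bl_smul] at h3
    have h4 : q * (s / q) = s := mul_div_cancel₀ s hq
    simpa [h4] using h3

theorem both (q s q' s' : F4) (h : q ≠ 0 ∨ s ≠ 0) (h' : q' ≠ 0 ∨ s' ≠ 0) :
    ∃ q'' s'' : F4, q * s'' + s * q'' ≠ 0 ∧ q'' * s' + s'' * q' ≠ 0 := by
  revert q s q' s'
  (set_option synthInstance.maxSize 100000 in exact Cfsg.Agent.Lib.Refl.of (by decide +kernel))

theorem form_eq (q s q' s' : F4) : q * (s + s') + s * (q + q') = q * s' + s * q' := by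
  revert q s q' s'
  decide +kernel

theorem tr_mix (hB : ∀ q s, Tr H (bl 0 q 0 s)) {p q r s : F4} (h : Tr H (bl p q r s)) (hqs : q ≠ 0 ∨ s ≠ 0)
    {q' s' : F4} (hqs' : q' ≠ 0 ∨ s' ≠ 0) : Tr H (bl p q' r s') := by
  have key : ∀ {q s q' s' : F4}, Tr H (bl p q r s) → q * s' + s * q' ≠ 0 → Tr H (bl p q' r s') := by
    intro q s q' s' h1 h2
    have h3 : q * (s + s') + s * (q + q') ≠ 0 := by rwa [form_eq]
    have h4 := h1.add (hB (q + q') (s + s')) (by
      rw [form_bl]
      simpa only [_root_.MulZeroClass.mul_zero, _root_.add_zero, _root_.zero_add, _root_.ne_eq] using h3) 1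
    rw [one_smul, bl_add] at h4
    have h5 : ∀ q q' : F4, q + (q + q') = q' := by decide
    rwa [h5, h5, add_zero, add_zero] at h4
  obtain ⟨q'', s'', h1, h2⟩ := both q s q' s' hqs hqs'
  exact key (key h h1) h2

/-- the element of order 5 -/
def ya : G := ⟨Y1, SymplecticGroup.mem_iff.2 Y1_sp⟩

theorem Y1_mulVec : ∀ p q r s : F4, Y1.mulVec (bl p q r s) = bl r q (p + .w * r) s := by
  intro p q r s
  have : ∀ x : V4, Y1.mulVec x = bl (x (.inr 0)) (x (.inl 1)) (x (.inl 0) + .w * x (.inr 0)) (x (.inr 1)) := by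
    decide +kernel
  exact this _

theorem tr_a (ha : ya ∈ H) {p q r s : F4} (h : Tr H (bl p q r s)) (hpr : p ≠ 0 ∨ r ≠ 0) {p' r' : F4}
    (hpr' : p' ≠ 0 ∨ r' ≠ 0) : ∃ l : F4, l ≠ 0 ∧ Tr H (bl p' (l * q) r' (l * s)) := by
  have h1 : ∀ {p r : F4}, Tr H (bl p q r s) → Tr H (bl r q (p + .w * r) s) := by
    intro p r h2
    have h3 := h2.act ha
    have h4 : ((ya : G) : M4).mulVec (bl p q r s) = bl r q (p + .w * r) s := Y1_mulVec p q r s
    rwa [h4] at h3
  have h2 : ∀ n : ℕ, Tr H (bl ((fun x : F4 × F4 => (x.2, x.1 + .w * x.2))^[n] (p, r)).1 q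
      ((fun x : F4 × F4 => (x.2, x.1 + .w * x.2))^[n] (p, r)).2 s) := by
    intro n
    induction n with
    | zero => exact h
    | succ n ih =>
      rw [Function.iterate_succ_apply']
      exact h1 ih
  have h3 : ∀ p r p' r' : F4, (p ≠ 0 ∨ r ≠ 0) → (p' ≠ 0 ∨ r' ≠ 0) → ∃ n : Fin 5, ∃ l : F4, l ≠ 0 ∧
      l * ((fun x : F4 × F4 => (x.2, x.1 + .w * x.2))^[(n : ℕ)] (p, r)).1 = p' ∧
      l * ((fun x : F4 × F4 => (x.2, x.1 + .w * x.2))^[(n : ℕ)] (p, r)).2 = r' := by
    (set_option synthInstance.maxSize 100000 in exact Cfsg.Agent.Lib.Refl.of (by decide +kernel))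
  obtain ⟨n, l, hl, h4, h5⟩ := h3 p r p' r' hpr hpr'
  refine ⟨l, hl, ?_⟩
  have h6 := (h2 n).smul l
  rw [bl_smul, h4, h5] at h6
  exact h6

theorem tr_pure (ha : ya ∈ H) {p q r s : F4} (h : Tr H (bl p q r s)) (hpr : p ≠ 0 ∨ r ≠ 0) (p' r' : F4) :
    Tr H (bl p' 0 r' 0) := by
  by_cases hz : p' ≠ 0 ∨ r' ≠ 0
  · have h1 := h.act ha
    have h4 : ((ya : G) : M4).mulVec (bl p q r s) = bl r q (p + .w * r) s := Y1_mulVec p q r s
    rw [h4] at h1
    have h2 : ∀ p q r s : F4, (p ≠ 0 ∨ r ≠ 0) → p * (p + .w * r) + r * r + q * s + s * q ≠ 0 := by decide +kernel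
    have h3 := h.add h1 (by rw [form_bl]; exact h2 p q r s hpr) 1
    rw [one_smul, bl_add] at h3
    have h5 : ∀ q : F4, q + q = 0 := by decide
    rw [h5, h5] at h3
    have h6 : ∀ p r : F4, (p ≠ 0 ∨ r ≠ 0) → (p + r ≠ 0 ∨ r + (p + .w * r) ≠ 0) := by decide +kernel
    obtain ⟨l, hl, h7⟩ := tr_a ha h3 (h6 p r hpr) hz
    simpa using h7
  · push Not at hz
    rw [hz.1, hz.2, ← bl_zero]
    exact tr_zero

/-- **closure**: a subgroup with all the transvections of `B`, the element `a` and a mixed transvection -/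
theorem eq_top_of_mix (ha : ya ∈ H) (hB : ∀ q s, Tr H (bl 0 q 0 s)) {p q r s : F4} (h : Tr H (bl p q r s))
    (hpr : p ≠ 0 ∨ r ≠ 0) (hqs : q ≠ 0 ∨ s ≠ 0) : H = ⊤ := by
  have hall : ∀ x : V4, Tr H x := by
    intro x
    rw [bl_eta x]
    generalize x (.inl 0) = p'
    generalize x (.inl 1) = q'
    generalize x (.inr 0) = r'
    generalize x (.inr 1) = s'
    by_cases h1 : p' ≠ 0 ∨ r' ≠ 0
    · by_cases h2 : q' ≠ 0 ∨ s' ≠ 0
      · obtain ⟨l, hl, h3⟩ := tr_a ha h hpr h1
        refine tr_mix hB h3 ?_ h2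
        rcases hqs with h4 | h4
        · exact Or.inl (mul_ne_zero hl h4)
        · exact Or.inr (mul_ne_zero hl h4)
      · push Not at h2
        rw [h2.1, h2.2]
        exact tr_pure ha h hpr p' r'
    · push Not at h1
      rw [h1.1, h1.2]
      exact hB _ _
  have hgen : transvGroup 2 F4 = ⊤ := Cfsg.Agent.S0765.result 2
  rw [eq_top_iff, ← hgen]
  refine (Subgroup.closure_le H).2 ?_
  rintro A ⟨w, c, hA⟩
  have : A = transv w c := Subtype.ext hA
  rw [this]
  exact hall w c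

end Cfsg.Agent.H916.Der.Four
end

-- part: H916/Der/FourStab
section
/-!
# `Sp₄(4)`: the stabilizer of `A ⊥ B` (helper916, for S3502)
-/

set_option autoImplicit false

namespace Cfsg.Agent.H916.Der.Four

open Subgroup Cfsg Cfsg.Agent.Lib.FieldFour Cfsg.Agent.H547.Der.Four Cfsg.Agent.ClassicalGeometry.SympBasic
  Cfsg.Agent.ClassicalGeometry.Sp4Graph

variable {H : Subgroup G}

/-- 2 × 2 matrices -/
abbrev M2 := Matrix (Fin 2) (Fin 2) F4

/-- block diagonal matrix with respect to `A ⊥ B` -/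
def dg (X Y : M2) : M4 := Matrix.fromBlocks !![X 0 0, 0; 0, Y 0 0] !![X 0 1, 0; 0, Y 0 1]
  !![X 1 0, 0; 0, Y 1 0] !![X 1 1, 0; 0, Y 1 1]

theorem dg_mul (X Y X' Y' : M2) : dg X Y * dg X' Y' = dg (X * X') (Y * Y') := by
  have := charF4
  ext i j
  rw [mul_eq]
  rcases i with i | i <;> rcases j with j | j <;> (revert i j; simp only [dg, Matrix.mul_apply, Fin.sum_univ_two, _root_.Fin.forall_fin_succ, Fin.isValue, _root_.Matrix.fromBlocks_apply₁₁, _root_.Matrix.of_apply, _root_.Matrix.cons_val', _root_.Matrix.cons_val_zero, _root_.Matrix.cons_val_fin_one, _root_.Matrix.cons_val_one, _root_.Matrix.fromBlocks_apply₁₂, _root_.Matrix.fromBlocks_apply₂₁, _root_.MulZeroClass.mul_zero, _root_.add_zero, _root_.Matrix.cons_val_succ, _root_.zero_add, _root_.forall_const, _root_.MulZeroClass.zero_mul, _root_.and_self, _root_.implies_true, _root_.Matrix.fromBlocks_apply₂₂])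

theorem dg_one : dg 1 1 = 1 := by
  ext i j
  rcases i with i | i <;> rcases j with j | j <;> (revert i j; simp only [dg, Matrix.one_apply, _root_.Fin.forall_fin_succ, _root_.Matrix.one_apply_eq, Fin.isValue, _root_.ne_eq, _root_.zero_ne_one, _root_.not_false_eq_true, _root_.Matrix.one_apply_ne, _root_.one_ne_zero, _root_.Matrix.fromBlocks_apply₁₁, _root_.Matrix.of_apply, _root_.Matrix.cons_val', _root_.Matrix.cons_val_fin_one, _root_.Sum.inl.injEq, _root_.Matrix.cons_val_zero, _root_.Matrix.cons_val_succ, _root_.Fin.succ_zero_eq_one, _root_.IsEmpty.forall_iff, _root_.and_true, ↓reduceIte, _root_.and_self, _root_.Fin.succ_ne_zero, _root_.left_eq_ite_iff, _root_.imp_false, _root_.Decidable.not_not, _root_.true_and, _root_.Matrix.fromBlocks_apply₁₂, reduceCtorEq, _root_.forall_const, _root_.implies_true, _root_.Matrix.fromBlocks_apply₂₁, _root_.Matrix.fromBlocks_apply₂₂, _root_.Sum.inr.injEq])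

theorem dg_pow (X Y : M2) (n : ℕ) : dg X Y ^ n = dg (X ^ n) (Y ^ n) := by
  induction n with
  | zero => rw [pow_zero, pow_zero, pow_zero, dg_one]
  | succ n ih => rw [pow_succ, ih, dg_mul, pow_succ, pow_succ]

theorem dg_inj {X Y X' Y' : M2} (h : dg X Y = dg X' Y') : X = X' ∧ Y = Y' := by
  have h1 : ∀ i j, dg X Y i j = dg X' Y' i j := fun i j => by rw [h]
  constructor
  · ext i j
    fin_cases i <;> fin_cases j
    · exact h1 (.inl 0) (.inl 0)
    · exact h1 (.inl 0) (.inr 0)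
    · exact h1 (.inr 0) (.inl 0)
    · exact h1 (.inr 0) (.inr 0)
  · ext i j
    fin_cases i <;> fin_cases j
    · exact h1 (.inl 1) (.inl 1)
    · exact h1 (.inl 1) (.inr 1)
    · exact h1 (.inr 1) (.inl 1)
    · exact h1 (.inr 1) (.inr 1)

/-- determinant one -/
def D1 (X : M2) : Prop := X 0 0 * X 1 1 + X 0 1 * X 1 0 = 1

instance (X : M2) : Decidable (D1 X) := by unfold D1; infer_instance

theorem dg_mem {X Y : M2} (hX : D1 X) (hY : D1 Y) : dg X Y ∈ Matrix.symplecticGroup (Fin 2) F4 := by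
  have := charF4
  unfold D1 at hX hY
  have hadd : ∀ z : F4, z + z = 0 := CharTwo.add_self_eq_zero
  have hX' : X 0 1 * X 1 0 + X 0 0 * X 1 1 = 1 := by rw [← hX]; ring
  have hY' : Y 0 1 * Y 1 0 + Y 0 0 * Y 1 1 = 1 := by rw [← hY]; ring
  apply mem_of_row_rel
  intro i j
  rcases i with i | i <;> rcases j with j | j <;> fin_cases i <;> fin_cases j <;>
    simp [dg, hX, hY, hX', hY', mul_comm, hadd]

/-- `t B ⊆ B` -/
def SB (t : G) : Prop := (t : M4) (.inl 0) (.inl 1) = 0 ∧ (t : M4) (.inr 0) (.inl 1) = 0 ∧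
  (t : M4) (.inl 0) (.inr 1) = 0 ∧ (t : M4) (.inr 0) (.inr 1) = 0

/-- `t B ⊆ A` -/
def SA (t : G) : Prop := (t : M4) (.inl 1) (.inl 1) = 0 ∧ (t : M4) (.inr 1) (.inl 1) = 0 ∧
  (t : M4) (.inl 1) (.inr 1) = 0 ∧ (t : M4) (.inr 1) (.inr 1) = 0

theorem solve (x y a b c d : F4) (hd : a * d + b * c = 1) (h1 : x * b + y * a = 0) (h2 : x * d + y * c = 0) :
    x = 0 ∧ y = 0 := by
  revert x y a b c d
  (set_option synthInstance.maxSize 100000 in exact Cfsg.Agent.Lib.Refl.of (by decide +kernel))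

theorem SB.dg {t : G} (h : SB t) : ∃ X Y : M2, D1 X ∧ D1 Y ∧ (t : M4) = dg X Y := by
  have := charF4
  obtain ⟨h1, h2, h3, h4⟩ := h
  have c1 := col_rel t.2 (.inl 1) (.inr 1)
  have c2 := col_rel t.2 (.inl 0) (.inl 1)
  have c3 := col_rel t.2 (.inl 0) (.inr 1)
  have c4 := col_rel t.2 (.inr 0) (.inl 1)
  have c5 := col_rel t.2 (.inr 0) (.inr 1)
  have c6 := col_rel t.2 (.inl 0) (.inr 0)
  rw [if_pos (by decide)] at c1 c6
  rw [if_neg (by decide)] at c2 c3 c4 c5
  rw [h1, h2, h3, h4] at c1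
  rw [h1, h2] at c2 c4
  rw [h3, h4] at c3 c5
  simp only [mul_zero, zero_mul, zero_add] at c1 c2 c3 c4 c5
  obtain ⟨k1, k2⟩ := solve ((t : M4) (.inl 1) (.inl 0)) ((t : M4) (.inr 1) (.inl 0)) ((t : M4) (.inl 1) (.inl 1))
    ((t : M4) (.inr 1) (.inl 1)) ((t : M4) (.inl 1) (.inr 1)) ((t : M4) (.inr 1) (.inr 1)) c1 (by rw [← c2]) (by rw [← c3])
  obtain ⟨k3, k4⟩ := solve ((t : M4) (.inl 1) (.inr 0)) ((t : M4) (.inr 1) (.inr 0)) ((t : M4) (.inl 1) (.inl 1))
    ((t : M4) (.inr 1) (.inl 1)) ((t : M4) (.inl 1) (.inr 1)) ((t : M4) (.inr 1) (.inr 1)) c1 (by rw [← c4]) (by rw [← c5])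
  rw [k1, k2, k3, k4] at c6
  simp only [mul_zero, add_zero] at c6
  refine ⟨!![(t : M4) (.inl 0) (.inl 0), (t : M4) (.inl 0) (.inr 0); (t : M4) (.inr 0) (.inl 0), (t : M4) (.inr 0) (.inr 0)],
    !![(t : M4) (.inl 1) (.inl 1), (t : M4) (.inl 1) (.inr 1); (t : M4) (.inr 1) (.inl 1), (t : M4) (.inr 1) (.inr 1)],
    ?_, ?_, ?_⟩
  · show (t : M4) (.inl 0) (.inl 0) * (t : M4) (.inr 0) (.inr 0) + (t : M4) (.inl 0) (.inr 0) * (t : M4) (.inr 0) (.inl 0) = 1
    rw [← c6]; ring
  · show (t : M4) (.inl 1) (.inl 1) * (t : M4) (.inr 1) (.inr 1) + (t : M4) (.inl 1) (.inr 1) * (t : M4) (.inr 1) (.inl 1) = 1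
    rw [← c1]; ring
  · ext i j
    rcases i with i | i <;> rcases j with j | j <;> (revert i j; simp only [Four.dg, h1, h2, h3, h4, k1, k2, k3, k4, _root_.Fin.forall_fin_succ, Fin.isValue, _root_.Matrix.of_apply, _root_.Matrix.cons_val', _root_.Matrix.cons_val_zero, _root_.Matrix.cons_val_fin_one, _root_.Matrix.cons_val_one, _root_.Matrix.fromBlocks_apply₁₁, _root_.Matrix.cons_val_succ, _root_.Fin.succ_zero_eq_one, _root_.IsEmpty.forall_iff, _root_.and_true, _root_.and_self, _root_.Matrix.fromBlocks_apply₁₂, _root_.Matrix.fromBlocks_apply₂₁, _root_.Matrix.fromBlocks_apply₂₂])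

theorem SA.rest {t : G} (h : SA t) : (t : M4) (.inl 0) (.inl 0) = 0 ∧ (t : M4) (.inl 0) (.inr 0) = 0 ∧
    (t : M4) (.inr 0) (.inl 0) = 0 ∧ (t : M4) (.inr 0) (.inr 0) = 0 := by
  have := charF4
  obtain ⟨h1, h2, h3, h4⟩ := h
  have c1 := col_rel t.2 (.inl 1) (.inr 1)
  have c2 := col_rel t.2 (.inl 0) (.inl 1)
  have c3 := col_rel t.2 (.inl 0) (.inr 1)
  have c4 := col_rel t.2 (.inr 0) (.inl 1)
  have c5 := col_rel t.2 (.inr 0) (.inr 1)
  rw [if_pos (by decide)] at c1
  rw [if_neg (by decide)] at c2 c3 c4 c5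
  rw [h1, h2, h3, h4] at c1
  rw [h1, h2] at c2 c4
  rw [h3, h4] at c3 c5
  simp only [mul_zero, zero_mul, add_zero] at c1 c2 c3 c4 c5
  obtain ⟨k1, k2⟩ := solve ((t : M4) (.inl 0) (.inl 0)) ((t : M4) (.inr 0) (.inl 0)) ((t : M4) (.inl 0) (.inl 1))
    ((t : M4) (.inr 0) (.inl 1)) ((t : M4) (.inl 0) (.inr 1)) ((t : M4) (.inr 0) (.inr 1)) c1 (by rw [← c2]) (by rw [← c3])
  obtain ⟨k3, k4⟩ := solve ((t : M4) (.inl 0) (.inr 0)) ((t : M4) (.inr 0) (.inr 0)) ((t : M4) (.inl 0) (.inl 1))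
    ((t : M4) (.inr 0) (.inl 1)) ((t : M4) (.inl 0) (.inr 1)) ((t : M4) (.inr 0) (.inr 1)) c1 (by rw [← c4]) (by rw [← c5])
  exact ⟨k1, k3, k2, k4⟩

theorem SA.mul {g k : G} (hg : SA g) (hk : SA k) : SB (g * k) := by
  have := charF4
  obtain ⟨k1, k2, k3, k4⟩ := hg.rest
  obtain ⟨h1, h2, h3, h4⟩ := hk
  refine ⟨?_, ?_, ?_, ?_⟩
  all_goals
    rw [Submonoid.coe_mul, mul_eq]
    simp only [h1, h2, h3, h4, k1, k2, k3, k4, mul_zero, zero_mul, add_zero]

theorem col_inl1 (t : G) : (t : M4).mulVec (bl 0 1 0 0) =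
    bl ((t : M4) (.inl 0) (.inl 1)) ((t : M4) (.inl 1) (.inl 1)) ((t : M4) (.inr 0) (.inl 1)) ((t : M4) (.inr 1) (.inl 1)) := by
  have := charF4
  funext i
  rw [mulVec_eq]
  rcases i with i | i <;> (revert i; simp only [bl, _root_.Fin.forall_fin_succ, Fin.isValue, _root_.Sum.elim_inl, _root_.Matrix.cons_val_zero, _root_.MulZeroClass.mul_zero, _root_.Matrix.cons_val_one, _root_.Matrix.cons_val_fin_one, _root_.mul_one, _root_.zero_add, _root_.Sum.elim_inr, _root_.add_zero, _root_.Matrix.cons_val_succ, _root_.Fin.succ_zero_eq_one, _root_.IsEmpty.forall_iff, _root_.and_self])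

theorem col_inr1 (t : G) : (t : M4).mulVec (bl 0 0 0 1) =
    bl ((t : M4) (.inl 0) (.inr 1)) ((t : M4) (.inl 1) (.inr 1)) ((t : M4) (.inr 0) (.inr 1)) ((t : M4) (.inr 1) (.inr 1)) := by
  have := charF4
  funext i
  rw [mulVec_eq]
  rcases i with i | i <;> (revert i; simp only [bl, _root_.Fin.forall_fin_succ, Fin.isValue, _root_.Sum.elim_inl, _root_.Matrix.cons_val_zero, _root_.MulZeroClass.mul_zero, _root_.Matrix.cons_val_one, _root_.Matrix.cons_val_fin_one, _root_.add_zero, _root_.Sum.elim_inr, _root_.mul_one, _root_.zero_add, _root_.Matrix.cons_val_succ, _root_.Fin.succ_zero_eq_one, _root_.IsEmpty.forall_iff, _root_.and_self])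

theorem mix_or (hT : H ≠ ⊤) (ha : ya ∈ H) (hB : ∀ q s, Tr H (bl 0 q 0 s)) {p q r s : F4} (h : Tr H (bl p q r s)) :
    (p = 0 ∧ r = 0) ∨ (q = 0 ∧ s = 0) := by
  by_contra hcon
  push Not at hcon
  apply hT
  refine eq_top_of_mix ha hB h ?_ ?_
  · by_cases h1 : p = 0
    · exact Or.inr (hcon.1 h1)
    · exact Or.inl h1
  · by_cases h1 : q = 0
    · exact Or.inr (hcon.2 h1)
    · exact Or.inl h1

theorem stab (hT : H ≠ ⊤) (ha : ya ∈ H) (hB : ∀ q s, Tr H (bl 0 q 0 s)) {g : G} (hg : g ∈ H) : SB g ∨ SA g := by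
  have t1 := (hB 1 0).act hg
  have t2 := (hB 0 1).act hg
  have t3 := (hB 1 1).act hg
  have e : bl 0 1 0 1 = bl 0 1 0 0 + bl 0 0 0 1 := by rw [bl_add]; simp
  rw [e, Matrix.mulVec_add, col_inl1, col_inr1, bl_add] at t3
  rw [col_inl1] at t1
  rw [col_inr1] at t2
  have m1 := mix_or hT ha hB t1
  have m2 := mix_or hT ha hB t2
  have m3 := mix_or hT ha hB t3
  unfold SB SA
  rcases m1 with ⟨a1, a2⟩ | ⟨a1, a2⟩ <;> rcases m2 with ⟨b1, b2⟩ | ⟨b1, b2⟩
  · exact Or.inl ⟨a1, a2, b1, b2⟩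
  · rcases m3 with ⟨c1, c2⟩ | ⟨c1, c2⟩
    · rw [a1, zero_add] at c1
      rw [a2, zero_add] at c2
      exact Or.inl ⟨a1, a2, c1, c2⟩
    · rw [b1, add_zero] at c1
      rw [b2, add_zero] at c2
      exact Or.inr ⟨c1, c2, b1, b2⟩
  · rcases m3 with ⟨c1, c2⟩ | ⟨c1, c2⟩
    · rw [b1, add_zero] at c1
      rw [b2, add_zero] at c2
      exact Or.inl ⟨c1, c2, b1, b2⟩
    · rw [a1, zero_add] at c1
      rw [a2, zero_add] at c2
      exact Or.inr ⟨a1, a2, c1, c2⟩
  · exact Or.inr ⟨a1, a2, b1, b2⟩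

/-- upper unitriangular -/
def U (c : F4) : M2 := !![1, c; 0, 1]
/-- lower unitriangular -/
def L (c : F4) : M2 := !![1, 0; c, 1]

theorem transv_e1 (c : F4) : (transv (bl 0 1 0 0) c : M4) = dg 1 (U c) := by
  rw [coe_transv, ← Matrix.mulVec_injective.eq_iff]
  have := charF4
  funext x
  rw [sympTransvection_mulVec, bl_eta x, form_bl, bl_smul, bl_add]
  funext i
  rw [mulVec_eq]
  rcases i with i | i <;> fin_cases i <;> simp [bl, dg, U, Matrix.one_apply]

theorem transv_e2 (c : F4) : (transv (bl 0 0 0 1) c : M4) = dg 1 (L c) := by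
  rw [coe_transv, ← Matrix.mulVec_injective.eq_iff]
  have := charF4
  funext x
  rw [sympTransvection_mulVec, bl_eta x, form_bl, bl_smul, bl_add]
  funext i
  rw [mulVec_eq]
  rcases i with i | i <;> fin_cases i <;> simp [bl, dg, L, Matrix.one_apply, add_comm]

theorem transv_f1 (c : F4) : (transv (bl 1 0 0 0) c : M4) = dg (U c) 1 := by
  rw [coe_transv, ← Matrix.mulVec_injective.eq_iff]
  have := charF4
  funext x
  rw [sympTransvection_mulVec, bl_eta x, form_bl, bl_smul, bl_add]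
  funext i
  rw [mulVec_eq]
  rcases i with i | i <;> fin_cases i <;> simp [bl, dg, U, Matrix.one_apply]

theorem transv_f2 (c : F4) : (transv (bl 0 0 1 0) c : M4) = dg (L c) 1 := by
  rw [coe_transv, ← Matrix.mulVec_injective.eq_iff]
  have := charF4
  funext x
  rw [sympTransvection_mulVec, bl_eta x, form_bl, bl_smul, bl_add]
  funext i
  rw [mulVec_eq]
  rcases i with i | i <;> fin_cases i <;> simp [bl, dg, L, Matrix.one_apply, add_comm]

theorem gen (X : M2) (hX : D1 X) : ∃ a b c d : F4, X = L a * U b * L c * U d := by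
  have key : ∀ p q r s : F4, p * s + q * r = 1 → ∃ a b c d : F4, !![p, q; r, s] = L a * U b * L c * U d := by
    intro p q r s h
    by_cases hr : r = 0
    · subst hr
      have h1 : ∀ p q s : F4, p * s + q * 0 = 1 →
          !![p, q; 0, s] = L 1 * U ((p + 1) / p) * L p * U ((q + s + 1) / p) := by decide +kernel
      exact ⟨_, _, _, _, h1 p q s h⟩
    · have h1 : ∀ p q r s : F4, r ≠ 0 → p * s + q * r = 1 →
          !![p, q; r, s] = L 0 * U ((p + 1) / r) * L r * U ((s + 1) / r) := by (set_option synthInstance.maxSize 100000 in open scoped Cfsg.Agent.Lib.Refl.U in exact Cfsg.Agent.Lib.Refl.of (by decide +kernel))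
      exact ⟨_, _, _, _, h1 p q r s hr h⟩
  obtain ⟨a, b, c, d, h⟩ := key (X 0 0) (X 0 1) (X 1 0) (X 1 1) hX
  refine ⟨a, b, c, d, ?_⟩
  rw [← h]
  ext i j
  fin_cases i <;> fin_cases j <;> rfl

theorem mem_of_B (h1 : Tr H (bl 0 1 0 0)) (h2 : Tr H (bl 0 0 0 1)) {t : G} {Y : M2} (hY : D1 Y)
    (ht : (t : M4) = dg 1 Y) : t ∈ H := by
  obtain ⟨a, b, c, d, h⟩ := gen Y hY
  have h3 : t = transv (bl 0 0 0 1) a * transv (bl 0 1 0 0) b * transv (bl 0 0 0 1) c * transv (bl 0 1 0 0) d := by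
    apply Subtype.ext
    rw [Submonoid.coe_mul, Submonoid.coe_mul, Submonoid.coe_mul, transv_e1, transv_e2, transv_e1, transv_e2, dg_mul,
      dg_mul, dg_mul, ht, h, one_mul, one_mul, one_mul]
  rw [h3]
  exact H.mul_mem (H.mul_mem (H.mul_mem (h2 a) (h1 b)) (h2 c)) (h1 d)

theorem mem_of_A (h1 : Tr H (bl 1 0 0 0)) (h2 : Tr H (bl 0 0 1 0)) {t : G} {X : M2} (hX : D1 X)
    (ht : (t : M4) = dg X 1) : t ∈ H := by
  obtain ⟨a, b, c, d, h⟩ := gen X hX
  have h3 : t = transv (bl 0 0 1 0) a * transv (bl 1 0 0 0) b * transv (bl 0 0 1 0) c * transv (bl 1 0 0 0) d := by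
    apply Subtype.ext
    rw [Submonoid.coe_mul, Submonoid.coe_mul, Submonoid.coe_mul, transv_f1, transv_f2, transv_f1, transv_f2, dg_mul,
      dg_mul, dg_mul, ht, h, one_mul, one_mul, one_mul]
  rw [h3]
  exact H.mul_mem (H.mul_mem (H.mul_mem (h2 a) (h1 b)) (h2 c)) (h1 d)

theorem D1_one : D1 1 := by decide

theorem mem_of_SB (h1 : ∀ q s, Tr H (bl 0 q 0 s)) (h2 : ∀ q s, Tr H (bl q 0 s 0)) {t : G} (ht : SB t) : t ∈ H := by
  obtain ⟨X, Y, hX, hY, h⟩ := ht.dg
  have h3 : t = ⟨dg X 1, dg_mem hX D1_one⟩ * ⟨dg 1 Y, dg_mem D1_one hY⟩ := by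
    apply Subtype.ext
    rw [Submonoid.coe_mul, h]
    show dg X Y = dg X 1 * dg 1 Y
    rw [dg_mul, mul_one, one_mul]
  rw [h3]
  exact H.mul_mem (mem_of_A (h2 1 0) (h2 0 1) hX rfl) (mem_of_B (h1 1 0) (h1 0 1) hY rfl)

/-- **a subgroup of the type `A₅ wr 2` is maximal** -/
theorem coatom_of_SA (hT : H ≠ ⊤) (ha : ya ∈ H) (hB : ∀ q s, Tr H (bl 0 q 0 s)) {g : G} (hg : g ∈ H) (hA : SA g) :
    IsCoatom H := by
  have hA' : ∀ q s, Tr H (bl q 0 s 0) := by
    have h1 := (hB 1 0).act hg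
    rw [col_inl1, hA.1, hA.2.1] at h1
    have h2 : (g : M4) (.inl 0) (.inl 1) ≠ 0 ∨ (g : M4) (.inr 0) (.inl 1) ≠ 0 := by
      by_contra hcon
      push Not at hcon
      have c1 := @col_rel F4 _ charF4 (g : M4) g.2 (.inl 1) (.inr 1)
      rw [if_pos (by decide), hA.1, hA.2.1, hcon.1, hcon.2] at c1
      simp at c1
    exact tr_pure ha h1 h2
  refine ⟨hT, fun K hK => ?_⟩
  by_contra hKT
  apply hK.not_ge
  intro k hk
  have ha' : ya ∈ K := hK.le ha
  have hB' : ∀ q s, Tr K (bl 0 q 0 s) := fun q s c => hK.le (hB q s c)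
  rcases stab hKT ha' hB' hk with h | h
  · exact mem_of_SB hB hA' h
  · have h1 : g * k ∈ H := mem_of_SB hB hA' (hA.mul h)
    rwa [Subgroup.mul_mem_cancel_left H hg] at h1

theorem sq_of_four (X : M2) (h : X ^ 4 = 1) : X ^ 2 = 1 := by
  have key : ∀ p q r s : F4, !![p, q; r, s] * !![p, q; r, s] * (!![p, q; r, s] * !![p, q; r, s]) = (1 : M2) →
      !![p, q; r, s] * !![p, q; r, s] = (1 : M2) := by decide +kernel
  have e : X = !![X 0 0, X 0 1; X 1 0, X 1 1] := by
    ext i j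
    fin_cases i <;> fin_cases j <;> rfl
  rw [show (4 : ℕ) = 2 * 2 by norm_num, pow_mul, pow_two, pow_two] at h
  rw [pow_two]
  rw [e] at h ⊢
  exact key _ _ _ _ h

/-- **no elements of order four** -/
theorem no_four (hT : H ≠ ⊤) (hc : ¬ IsCoatom H) (ha : ya ∈ H) (hB : ∀ q s, Tr H (bl 0 q 0 s)) :
    ∀ t ∈ H, orderOf t ≠ 4 := by
  intro t ht h4
  rcases stab hT ha hB ht with h | h
  · obtain ⟨X, Y, hX, hY, h1⟩ := h.dg
    have h2 : t ^ 4 = 1 := by rw [← h4]; exact pow_orderOf_eq_one t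
    have h3 : dg (X ^ 4) (Y ^ 4) = dg 1 1 := by
      rw [← dg_pow, ← h1, dg_one]
      exact congrArg Subtype.val h2
    obtain ⟨h5, h6⟩ := dg_inj h3
    have h7 : t ^ 2 = 1 := by
      apply Subtype.ext
      show (t : M4) ^ 2 = 1
      rw [h1, dg_pow, sq_of_four X h5, sq_of_four Y h6, dg_one]
    have h8 := orderOf_dvd_of_pow_eq_one h7
    rw [h4] at h8
    norm_num at h8
  · exact hc (coatom_of_SA hT ha hB ht h)

end Cfsg.Agent.H916.Der.Four
end

-- part: H916/Der/FourSylA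
section
/-!
# `Sp₄(4)`: Sylow arguments I (helper916, for S3502)
-/

set_option autoImplicit false

namespace Cfsg.Agent.H916.Der.Four

open Subgroup Cfsg Cfsg.Agent.Lib.FieldFour Cfsg.Agent.H547.Der.Four Cfsg.Agent.ClassicalGeometry.SympBasic
  Cfsg.Agent.ClassicalGeometry.Sp4Graph

/-- two commuting elements of order `p` -/
theorem exists_sq {T : Type*} [Group T] {p : ℕ} (hp : p.Prime) {x y : T} (hx : orderOf x = p)
    (hy : orderOf y = p) (hxy : Commute x y) (hne : y ∉ zpowers x) :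
    ∃ P : Subgroup T, Nat.card P = p ^ 2 ∧ x ∈ P ∧ y ∈ P ∧ (∀ z ∈ P, ∃ i j : ℕ, i < p ∧ j < p ∧ z = x ^ i * y ^ j) ∧
      ∀ M : Subgroup T, x ∈ M → y ∈ M → P ≤ M := by
  have hcomm : ∀ (a : zpowers x) (b : zpowers y), Commute ((zpowers x).subtype a) ((zpowers y).subtype b) := by
    rintro ⟨a, ha⟩ ⟨b, hb⟩
    obtain ⟨i, rfl⟩ := mem_zpowers_iff.1 ha
    obtain ⟨j, rfl⟩ := mem_zpowers_iff.1 hb
    exact (hxy.zpow_zpow i j)
  let f : zpowers x × zpowers y →* T := ((zpowers x).subtype).noncommCoprod ((zpowers y).subtype) hcomm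
  have hf : Function.Injective f := by
    rw [← MonoidHom.ker_eq_bot_iff, eq_bot_iff]
    rintro ⟨⟨a, ha⟩, ⟨b, hb⟩⟩ h
    have h1 : a * b = 1 := h
    have h2 : b ∈ zpowers x := by
      rw [← inv_eq_of_mul_eq_one_right h1]
      exact inv_mem ha
    have hb1 : b = 1 := by
      by_contra hb1
      apply hne
      have h3 : orderOf b = p := by
        rcases (Nat.dvd_prime hp).1 (hy ▸ orderOf_dvd_of_mem_zpowers hb : orderOf b ∣ p) with h4 | h4
        · exact absurd (orderOf_eq_one_iff.1 h4) hb1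
        · exact h4
      have h5 : zpowers b = zpowers y := by
        have : Finite (zpowers y) := Nat.finite_of_card_ne_zero (by rw [Nat.card_zpowers, hy]; exact hp.ne_zero)
        refine Subgroup.eq_of_le_of_card_ge (zpowers_le.2 hb) ?_
        rw [Nat.card_zpowers, Nat.card_zpowers, hy, h3]
      have h6 : y ∈ zpowers b := by rw [h5]; exact mem_zpowers y
      exact zpowers_le.2 h2 h6
    have ha1 : a = 1 := by rwa [hb1, mul_one] at h1
    subst hb1 ha1
    rfl
  refine ⟨f.range, ?_, ⟨(⟨x, mem_zpowers x⟩, 1), mul_one x⟩, ⟨(1, ⟨y, mem_zpowers y⟩), one_mul y⟩, ?_, ?_⟩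
  · rw [← Nat.card_congr (MonoidHom.ofInjective hf).toEquiv, Nat.card_prod, Nat.card_zpowers, Nat.card_zpowers, hx, hy,
      pow_two]
  · rintro z ⟨⟨⟨a, ha⟩, ⟨b, hb⟩⟩, rfl⟩
    have hpow : ∀ {c : T}, orderOf c = p → ∀ d ∈ zpowers c, ∃ i < p, d = c ^ i := by
      intro c hc d hd
      have h1 : IsOfFinOrder c := orderOf_pos_iff.1 (by rw [hc]; exact hp.pos)
      obtain ⟨n, hn⟩ := h1.mem_powers_iff_mem_zpowers.2 hd
      refine ⟨n % p, Nat.mod_lt _ hp.pos, ?_⟩
      rw [← hc, pow_mod_orderOf]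
      exact hn.symm
    obtain ⟨i, hi, h1⟩ := hpow hx a ha
    obtain ⟨j, hj, h2⟩ := hpow hy b hb
    exact ⟨i, j, hi, hj, by rw [← h1, ← h2]; rfl⟩
  · rintro M hxM hyM z ⟨⟨⟨a, ha⟩, ⟨b, hb⟩⟩, rfl⟩
    exact M.mul_mem (zpowers_le.2 hxM ha) (zpowers_le.2 hyM hb)

theorem sq_dvd {T : Type*} [Group T] {p : ℕ} (hp : p.Prime) {x y : T} (hx : orderOf x = p)
    (hy : orderOf y = p) (hxy : Commute x y) (hne : y ∉ zpowers x) {M : Subgroup T} (hxM : x ∈ M) (hyM : y ∈ M) :
    p ^ 2 ∣ Nat.card M := by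
  obtain ⟨P, hP, -, -, -, h⟩ := exists_sq hp hx hy hxy hne
  rw [← hP]
  exact Subgroup.card_dvd_of_le (h M hxM hyM)

/-- order 5 -/
def K : M2 := !![0, 1; 1, .w]
/-- order 3 -/
def K3 : M2 := !![0, 1; 1, 1]

theorem K_D1 : D1 K := by decide
theorem K3_D1 : D1 K3 := by decide

theorem K_pow : K ^ 5 = 1 ∧ K ≠ 1 := by decide +kernel
theorem K3_pow : K3 ^ 3 = 1 ∧ K3 ≠ 1 := by decide +kernel

theorem ya_coe : ((ya : G) : M4) = dg K 1 := by decide +kernel

/-- order 5 on `B` -/
def yb : G := ⟨dg 1 K, dg_mem D1_one K_D1⟩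
/-- order 3 on `A` -/
def xA : G := ⟨dg K3 1, dg_mem K3_D1 D1_one⟩
/-- order 3 on `B` -/
def xB : G := ⟨dg 1 K3, dg_mem D1_one K3_D1⟩
/-- order 15 -/
def z15 : G := ⟨dg K K3, dg_mem K_D1 K3_D1⟩

theorem coe_pow_dg {t : G} {X Y : M2} (h : (t : M4) = dg X Y) (n : ℕ) : ((t ^ n : G) : M4) = dg (X ^ n) (Y ^ n) := by
  rw [← dg_pow, ← h]
  rfl

theorem order_dg {t : G} {X Y : M2} (h : (t : M4) = dg X Y) {p : ℕ} (hp : p.Prime) (hX : X ^ p = 1) (hY : Y ^ p = 1)
    (hne : dg X Y ≠ 1) : orderOf t = p := by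
  have := Fact.mk hp
  refine orderOf_eq_prime ?_ ?_
  · apply Subtype.ext
    rw [coe_pow_dg h, hX, hY, dg_one]
    rfl
  · intro h1
    apply hne
    rw [← h, h1]
    rfl

theorem order_ya : orderOf ya = 5 :=
  order_dg ya_coe (by norm_num) K_pow.1 (one_pow 5) (by
    rw [← dg_one]
    exact fun h => K_pow.2 (dg_inj h).1)

theorem order_yb : orderOf yb = 5 :=
  order_dg (X := 1) (Y := K) rfl (by norm_num) (one_pow 5) K_pow.1 (by
    rw [← dg_one]
    exact fun h => K_pow.2 (dg_inj h).2)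

theorem order_xA : orderOf xA = 3 :=
  order_dg (X := K3) (Y := 1) rfl (by norm_num) K3_pow.1 (one_pow 3) (by
    rw [← dg_one]
    exact fun h => K3_pow.2 (dg_inj h).1)

theorem order_xB : orderOf xB = 3 :=
  order_dg (X := 1) (Y := K3) rfl (by norm_num) (one_pow 3) K3_pow.1 (by
    rw [← dg_one]
    exact fun h => K3_pow.2 (dg_inj h).2)

theorem z15_six : z15 ^ 6 = ya := by
  apply Subtype.ext
  rw [coe_pow_dg (X := K) (Y := K3) rfl, ya_coe, pow_succ, K_pow.1, one_mul, show (6 : ℕ) = 3 * 2 by norm_num, pow_mul,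
    K3_pow.1, one_pow]

theorem z15_ten : z15 ^ 10 = xB := by
  apply Subtype.ext
  rw [coe_pow_dg (X := K) (Y := K3) rfl, show (10 : ℕ) = 5 * 2 by norm_num, pow_mul, K_pow.1, one_pow,
    show (5 * 2 : ℕ) = 3 * 3 + 1 by norm_num, pow_succ K3, pow_mul, K3_pow.1, one_pow, one_mul]
  rfl

theorem z15_fifteen : z15 ^ 15 = 1 := by
  rw [show (15 : ℕ) = 6 + (6 + 3) by norm_num]
  apply Subtype.ext
  rw [coe_pow_dg (X := K) (Y := K3) rfl, show (6 + (6 + 3) : ℕ) = 5 * 3 by norm_num, pow_mul, K_pow.1, one_pow,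
    mul_comm 5 3, pow_mul, K3_pow.1, one_pow, dg_one]
  rfl

theorem order_z15 : orderOf z15 = 15 := by
  have h1 : orderOf z15 ∣ 15 := orderOf_dvd_of_pow_eq_one z15_fifteen
  have h3 : 5 ∣ orderOf z15 := by
    rw [← order_ya, ← z15_six]
    exact orderOf_pow_dvd 6
  have h4 : 3 ∣ orderOf z15 := by
    rw [← order_xB, ← z15_ten]
    exact orderOf_pow_dvd 10
  have h5 : 3 * 5 ∣ orderOf z15 := Nat.Coprime.mul_dvd_of_dvd_of_dvd (by norm_num) h4 h3
  exact Nat.dvd_antisymm h1 (by norm_num at h5; exact h5)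

theorem comm_dg {s t : G} {X Y X' Y' : M2} (hs : (s : M4) = dg X Y) (ht : (t : M4) = dg X' Y')
    (h1 : X * X' = X' * X) (h2 : Y * Y' = Y' * Y) : Commute s t := by
  apply Subtype.ext
  rw [Submonoid.coe_mul, Submonoid.coe_mul, hs, ht, dg_mul, dg_mul, h1, h2]

theorem comm_xAB : Commute xA xB := comm_dg (X := K3) (Y := 1) (X' := 1) (Y' := K3) rfl rfl (by simp) (by simp)

theorem comm_yab : Commute ya yb := comm_dg (X := K) (Y := 1) (X' := 1) (Y' := K) ya_coe rfl (by simp) (by simp)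

theorem not_mem_zpowers_dg {s t : G} {X Y : M2} (hs : (s : M4) = dg X 1) (ht : (t : M4) = dg 1 Y) (hY : Y ≠ 1)
    (hfin : IsOfFinOrder s) : t ∉ zpowers s := by
  intro h
  obtain ⟨n, hn⟩ := hfin.mem_powers_iff_mem_zpowers.2 h
  have h1 : ((s ^ n : G) : M4) = (t : M4) := congrArg Subtype.val hn
  rw [coe_pow_dg hs, ht, one_pow] at h1
  exact hY (dg_inj h1).2.symm

theorem nine_dvd {H : Subgroup G} (h1 : xA ∈ H) (h2 : xB ∈ H) : 3 ^ 2 ∣ Nat.card H :=
  sq_dvd (by norm_num) order_xA order_xB comm_xAB (not_mem_zpowers_dg (X := K3) (Y := K3) rfl rfl K3_pow.2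
    (orderOf_pos_iff.1 (by rw [order_xA]; norm_num))) h1 h2

theorem U_mul (c d : F4) : U c * U d = U (c + d) := by
  revert c d
  decide +kernel

theorem U_zero : U 0 = 1 := by decide

/-- the transvections with centres `e₀`, `e₁` -/
def fU : Multiplicative (F4 × F4) →* G where
  toFun x := ⟨dg (U (Multiplicative.toAdd x).1) (U (Multiplicative.toAdd x).2), dg_mem
    (by have : ∀ c : F4, D1 (U c) := by decide
        exact this _) (by have : ∀ c : F4, D1 (U c) := by decide
                          exact this _)⟩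
  map_one' := by
    apply Subtype.ext
    show dg (U 0) (U 0) = 1
    rw [U_zero, dg_one]
  map_mul' x y := by
    apply Subtype.ext
    show dg (U _) (U _) = dg _ _ * dg _ _
    rw [dg_mul, U_mul, U_mul]
    rfl

theorem fU_p : IsPGroup 2 fU.range := by
  have h1 : IsPGroup 2 (Multiplicative (F4 × F4)) := by
    refine IsPGroup.of_card (n := 4) ?_
    rw [Nat.card_congr Multiplicative.toAdd, Nat.card_prod, F4.natCard]
    norm_num
  exact h1.of_surjective fU.rangeRestrict fU.rangeRestrict_surjective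

theorem transv_mem_fU (c : F4) : transv (bl 1 0 0 0) c ∈ fU.range := by
  refine ⟨Multiplicative.ofAdd (c, 0), ?_⟩
  apply Subtype.ext
  rw [transv_f1]
  show dg (U c) (U 0) = _
  rw [U_zero]

theorem transv_mem_fU' (c : F4) : transv (bl 0 1 0 0) c ∈ fU.range := by
  refine ⟨Multiplicative.ofAdd (0, c), ?_⟩
  apply Subtype.ext
  rw [transv_e1]
  show dg (U 0) (U c) = _
  rw [U_zero]

theorem mulVec_inj (g : G) {x y : V4} (h : (g : M4).mulVec x = (g : M4).mulVec y) : x = y := by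
  have h1 : ∀ x : V4, ((g⁻¹ : G) : M4).mulVec ((g : M4).mulVec x) = x := by
    intro x
    rw [← coe_mul_mulVec, inv_mul_cancel]
    exact Matrix.one_mulVec x
  rw [← h1 x, ← h1 y, h]

theorem dep (q s q' s' : F4) (h : q * s' + s * q' = 0) : ∃ l m : F4, (l ≠ 0 ∨ m ≠ 0) ∧ l * q + m * q' = 0 ∧
    l * s + m * s' = 0 := by
  revert q s q' s'
  decide +kernel

/-- a subgroup containing a Sylow 2-subgroup and `z15` has order divisible by 9 -/
theorem nine_of_two (hG : Nat.card G = 979200) {H : Subgroup G} (h256 : 256 ∣ Nat.card H) (hz : z15 ∈ H) :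
    9 ∣ Nat.card H := by
  have hfin : Finite G := Nat.finite_of_card_ne_zero (by rw [hG]; norm_num)
  have hp2 : Fact (Nat.Prime 2) := ⟨Nat.prime_two⟩
  have ha : ya ∈ H := by rw [← z15_six]; exact H.pow_mem hz 6
  have hb : xB ∈ H := by rw [← z15_ten]; exact H.pow_mem hz 10
  -- Sylow
  obtain ⟨Q, hQ⟩ := fU_p.exists_le_sylow
  obtain ⟨Q', hQ'⟩ := Sylow.exists_subgroup_card_pow_prime (G := H) 2 (n := 8) (by norm_num only []; exact h256)
  have hcard : Nat.card (Q'.map H.subtype) = 2 ^ (Nat.card G).factorization 2 := by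
    rw [Nat.card_congr (Subgroup.equivMapOfInjective Q' H.subtype H.subtype_injective).toEquiv.symm, hQ', hG,
      show (979200 : ℕ) = 2 ^ 8 * 3825 by norm_num, Nat.factorization_mul (by norm_num) (by norm_num),
      Finsupp.add_apply, Nat.Prime.factorization_pow Nat.prime_two, Finsupp.single_eq_same,
      Nat.factorization_eq_zero_of_not_dvd (by norm_num)]
  obtain ⟨g, hg⟩ := MulAction.exists_smul_eq G Q (Sylow.ofCard _ hcard)
  have hmem : ∀ t ∈ fU.range, g * t * g⁻¹ ∈ H := by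
    intro t ht
    have h1 : g * t * g⁻¹ ∈ ((g • Q : Sylow 2 G) : Subgroup G) := by
      rw [Sylow.smul_def, Sylow.pointwise_smul_def]
      exact Subgroup.mem_map_of_mem (MulAut.conj g).toMonoidHom (hQ ht)
    rw [hg] at h1
    obtain ⟨x, -, hx⟩ := h1
    rw [← hx]
    exact x.2
  have t1 : Tr H ((g : M4).mulVec (bl 1 0 0 0)) := fun c => by
    rw [← conj_transv]
    exact hmem _ (transv_mem_fU c)
  have t2 : Tr H ((g : M4).mulVec (bl 0 1 0 0)) := fun c => by
    rw [← conj_transv]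
    exact hmem _ (transv_mem_fU' c)
  have hA : ∀ q s, Tr H (bl q 0 s 0) := by
    by_cases h1 : ((g : M4).mulVec (bl 1 0 0 0)) (.inl 0) ≠ 0 ∨ ((g : M4).mulVec (bl 1 0 0 0)) (.inr 0) ≠ 0
    · rw [bl_eta ((g : M4).mulVec (bl 1 0 0 0))] at t1
      exact tr_pure ha t1 h1
    · by_cases h2 : ((g : M4).mulVec (bl 0 1 0 0)) (.inl 0) ≠ 0 ∨ ((g : M4).mulVec (bl 0 1 0 0)) (.inr 0) ≠ 0
      · rw [bl_eta ((g : M4).mulVec (bl 0 1 0 0))] at t2
        exact tr_pure ha t2 h2
      · exfalso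
        push Not at h1 h2
        have h3 : sympForm 2 F4 ((g : M4).mulVec (bl 1 0 0 0)) ((g : M4).mulVec (bl 0 1 0 0)) = 0 := by
          rw [sympForm_mulVec g.2, form_bl]
          decide
        rw [bl_eta ((g : M4).mulVec (bl 1 0 0 0)), bl_eta ((g : M4).mulVec (bl 0 1 0 0)), form_bl, h1.1, h1.2, h2.1,
          h2.2] at h3
        simp only [mul_zero, zero_add] at h3
        obtain ⟨l, m, hlm, h4, h5⟩ := dep _ _ _ _ h3
        have h6 : (g : M4).mulVec (bl l m 0 0) = (g : M4).mulVec (bl 0 0 0 0) := by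
          have e1 : bl l m 0 0 = l • bl 1 0 0 0 + m • bl 0 1 0 0 := by
            rw [bl_smul, bl_smul, bl_add]
            simp
          rw [e1, Matrix.mulVec_add, Matrix.mulVec_smul, Matrix.mulVec_smul, bl_eta ((g : M4).mulVec (bl 1 0 0 0)),
            bl_eta ((g : M4).mulVec (bl 0 1 0 0)), h1.1, h1.2, h2.1, h2.2, bl_smul, bl_smul, bl_add, h4, h5, ← bl_zero,
            Matrix.mulVec_zero]
          simp [bl_zero]
        obtain ⟨h7, h8, -⟩ := bl_inj (mulVec_inj g h6)
        rcases hlm with h | h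
        · exact h h7
        · exact h h8
  exact nine_dvd (mem_of_A (hA 1 0) (hA 0 1) K3_D1 rfl) hb

end Cfsg.Agent.H916.Der.Four
end

-- part: H916/Der/FourSylB
section
/-!
# `Sp₄(4)`: Sylow arguments II (helper916, for S3502)
-/

set_option autoImplicit false

namespace Cfsg.Agent.H916.Der.Four

open Subgroup Cfsg Cfsg.Agent.Lib.FieldFour Cfsg.Agent.H547.Der.Four Cfsg.Agent.ClassicalGeometry.SympBasic
  Cfsg.Agent.ClassicalGeometry.Sp4Graph

theorem M2_eta (X : M2) : X = !![X 0 0, X 0 1; X 1 0, X 1 1] := by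
  ext i j
  fin_cases i <;> fin_cases j <;> rfl

theorem commK (X : M2) (hd : D1 X) (h : X * K = K * X) : ∃ k : Fin 5, X = K ^ (k : ℕ) := by
  have key : ∀ p q r s : F4, D1 !![p, q; r, s] → !![p, q; r, s] * K = K * !![p, q; r, s] →
      ∃ k : Fin 5, !![p, q; r, s] = K ^ (k : ℕ) := by decide +kernel
  rw [M2_eta X] at hd h ⊢
  exact key _ _ _ _ hd h

theorem comm_ya {t : G} (h : Commute t ya) : ∃ (k : Fin 5) (Y : M2), D1 Y ∧ (t : M4) = dg (K ^ (k : ℕ)) Y := by
  have hch := charF4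
  have h0 : (t : M4) * dg K 1 = dg K 1 * (t : M4) := by
    rw [← ya_coe]
    exact congrArg Subtype.val h.eq
  have h1 : ∀ i j, ((t : M4) * dg K 1) i j = (dg K 1 * (t : M4)) i j := fun i j => by rw [h0]
  have e1 := h1 (.inl 0) (.inl 1)
  have e2 := h1 (.inr 0) (.inl 1)
  have e3 := h1 (.inl 0) (.inr 1)
  have e4 := h1 (.inr 0) (.inr 1)
  simp only [mul_eq, dg, Matrix.fromBlocks_apply₁₁, Matrix.fromBlocks_apply₁₂, Matrix.fromBlocks_apply₂₁,
    Matrix.fromBlocks_apply₂₂] at e1 e2 e3 e4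
  simp only [K, _root_.Fin.isValue, _root_.Matrix.of_apply, _root_.Matrix.cons_val', _root_.Matrix.cons_val_zero, _root_.Matrix.cons_val_fin_one, _root_.Matrix.one_apply_eq, _root_.Matrix.cons_val_one, _root_.MulZeroClass.mul_zero, _root_.mul_one, _root_.zero_add, _root_.ne_eq, _root_.one_ne_zero, _root_.not_false_eq_true, _root_.Matrix.one_apply_ne, _root_.add_zero, _root_.MulZeroClass.zero_mul, _root_.zero_ne_one, _root_.one_mul] at e1 e2 e3 e4
  have key : ∀ x y : F4, x = y → y = x + .w * y → x = 0 ∧ y = 0 := by decide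
  obtain ⟨a1, a2⟩ := key _ _ e1 e2
  obtain ⟨a3, a4⟩ := key _ _ e3 e4
  have hs : SB t := ⟨a1, a2, a3, a4⟩
  obtain ⟨X, Y, hX, hY, h2⟩ := hs.dg
  rw [h2, dg_mul, dg_mul] at h0
  obtain ⟨k, hk⟩ := commK X hX (dg_inj h0).1
  exact ⟨k, Y, hY, by rw [h2, hk]⟩

theorem comm_yab' {t : G} (h : Commute t ya) (h' : Commute t yb) :
    ∃ (k l : Fin 5), (t : M4) = dg (K ^ (k : ℕ)) (K ^ (l : ℕ)) := by
  obtain ⟨k, Y, hY, h1⟩ := comm_ya h
  have h0 : (t : M4) * dg 1 K = dg 1 K * (t : M4) := congrArg Subtype.val h'.eq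
  rw [h1, dg_mul, dg_mul] at h0
  obtain ⟨l, hl⟩ := commK Y hY (dg_inj h0).2
  exact ⟨k, l, by rw [h1, hl]⟩

theorem dg_add (X Y X' Y' : M2) : dg X Y + dg X' Y' = dg (X + X') (Y + Y') := by
  ext i j
  rcases i with i | i <;> rcases j with j | j <;> (revert i j; simp only [dg, _root_.Fin.forall_fin_succ, Fin.isValue, _root_.Matrix.add_apply, _root_.Matrix.fromBlocks_apply₁₁, _root_.Matrix.of_apply, _root_.Matrix.cons_val', _root_.Matrix.cons_val_fin_one, _root_.Matrix.cons_val_zero, _root_.Matrix.cons_val_succ, _root_.forall_const, _root_.add_zero, _root_.and_self, _root_.implies_true, _root_.Matrix.fromBlocks_apply₁₂, _root_.Matrix.fromBlocks_apply₂₁, _root_.Matrix.fromBlocks_apply₂₂])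

theorem dg_smul (c : F4) (X Y : M2) : c • dg X Y = dg (c • X) (c • Y) := by
  ext i j
  rcases i with i | i <;> rcases j with j | j <;> (revert i j; simp only [dg, _root_.Fin.forall_fin_succ, Fin.isValue, _root_.Matrix.smul_apply, _root_.Matrix.fromBlocks_apply₁₁, _root_.Matrix.of_apply, _root_.Matrix.cons_val', _root_.Matrix.cons_val_fin_one, _root_.smul_eq_mul, _root_.Matrix.cons_val_zero, _root_.Matrix.cons_val_succ, _root_.forall_const, _root_.MulZeroClass.mul_zero, _root_.and_self, _root_.implies_true, _root_.Matrix.fromBlocks_apply₁₂, _root_.Matrix.fromBlocks_apply₂₁, _root_.Matrix.fromBlocks_apply₂₂])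

theorem comm_E {t d : G} (hd : (d : M4) = dg K (K ^ 2)) (h : Commute t d) :
    ∃ (k l : Fin 5), (t : M4) = dg (K ^ (k : ℕ)) (K ^ (l : ℕ)) := by
  have hch := charF4
  have h0 : (t : M4) * dg K (K ^ 2) = dg K (K ^ 2) * (t : M4) := by
    rw [← hd]
    exact congrArg Subtype.val h.eq
  have hc : Commute (t : M4) (dg K (K ^ 2)) := h0
  have hq : dg K 0 = dg K (K ^ 2) * dg K (K ^ 2) + (F4.v • dg K (K ^ 2) + 1) := by
    rw [dg_mul, ← dg_one, dg_smul, dg_add, dg_add]
    congr 1 <;> decide +kernel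
  have hc0 : Commute (t : M4) (dg K 0) := by
    rw [hq]
    exact (hc.mul_right hc).add_right ((hc.smul_right _).add_right (Commute.one_right _))
  have h1 : ∀ i j, ((t : M4) * dg K 0) i j = (dg K 0 * (t : M4)) i j := fun i j => by rw [hc0.eq]
  have e1 := h1 (.inl 0) (.inl 1)
  have e2 := h1 (.inr 0) (.inl 1)
  have e3 := h1 (.inl 0) (.inr 1)
  have e4 := h1 (.inr 0) (.inr 1)
  simp only [mul_eq, dg, Matrix.fromBlocks_apply₁₁, Matrix.fromBlocks_apply₁₂, Matrix.fromBlocks_apply₂₁,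
    Matrix.fromBlocks_apply₂₂] at e1 e2 e3 e4
  simp only [K, _root_.Fin.isValue, _root_.Matrix.of_apply, _root_.Matrix.cons_val', _root_.Matrix.cons_val_zero, _root_.Matrix.cons_val_fin_one, _root_.Matrix.zero_apply, _root_.Matrix.cons_val_one, _root_.MulZeroClass.mul_zero, _root_.add_zero, _root_.MulZeroClass.zero_mul, _root_.one_mul, _root_.zero_add] at e1 e2 e3 e4
  have key : ∀ x y : F4, 0 = y → 0 = x + .w * y → x = 0 ∧ y = 0 := by decide
  obtain ⟨a1, a2⟩ := key ((t : M4) (.inl 0) (.inl 1)) ((t : M4) (.inr 0) (.inl 1)) (by rw [e1]) (by rw [← e2])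
  obtain ⟨a3, a4⟩ := key ((t : M4) (.inl 0) (.inr 1)) ((t : M4) (.inr 0) (.inr 1)) (by rw [e3]) (by rw [← e4])
  have hs : SB t := ⟨a1, a2, a3, a4⟩
  obtain ⟨X, Y, hX, hY, h2⟩ := hs.dg
  rw [h2, dg_mul, dg_mul] at h0
  obtain ⟨k, hk⟩ := commK X hX (dg_inj h0).1
  have h3 : Commute Y (K ^ 2) := (dg_inj h0).2
  have h4 : Commute Y K := by
    have h5 : K = (K ^ 2) ^ 3 := by rw [← pow_mul, show (2 * 3 : ℕ) = 5 + 1 by norm_num, pow_succ, K_pow.1, one_mul]
    rw [h5]
    exact h3.pow_right 3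
  obtain ⟨l, hl⟩ := commK Y hY h4.eq
  exact ⟨k, l, by rw [h2, hk, hl]⟩

/-- `d` is (up to automorphisms) in `⟨ya⟩` or has an abelian centralizer -/
def PP (d : G) : Prop := (∃ φ : G ≃* G, φ d ∈ zpowers ya) ∨ ∀ x y : G, Commute x d → Commute y d → Commute x y

theorem PP.conj {d g : G} (h : PP (g * d * g⁻¹)) : PP d := by
  rcases h with ⟨φ, hφ⟩ | h
  · exact Or.inl ⟨(MulAut.conj g).trans φ, hφ⟩
  · right
    intro x y hx hy
    have key : ∀ x : G, Commute x d → Commute (MulAut.conj g x) (g * d * g⁻¹) := fun x hx =>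
      Commute.map hx (MulAut.conj g)
    have h1 := h _ _ (key x hx) (key y hy)
    have h2 := Commute.map h1 (MulAut.conj g).symm
    rwa [MulEquiv.symm_apply_apply, MulEquiv.symm_apply_apply] at h2

theorem PP.pow {d : G} (h : PP d) (hd : orderOf d = 5) {n : ℕ} (hn : ¬ 5 ∣ n) : PP (d ^ n) := by
  rcases h with ⟨φ, hφ⟩ | h
  · exact Or.inl ⟨φ, by rw [map_pow]; exact pow_mem hφ n⟩
  · right
    have h1 : d ∈ zpowers (d ^ n) := by
      have hco : Nat.Coprime (orderOf d) n := by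
        rw [hd]; exact (Nat.Prime.coprime_iff_not_dvd (by norm_num)).2 hn
      obtain ⟨m, hm⟩ := exists_pow_eq_self_of_coprime (n := n) (x := d) hco.symm
      rw [mem_zpowers_iff]
      exact ⟨m, by rw [zpow_natCast]; exact hm⟩
    obtain ⟨m, hm⟩ := mem_zpowers_iff.1 h1
    have key : ∀ x : G, Commute x (d ^ n) → Commute x d := fun x hx => by
      rw [← hm]
      exact hx.zpow_right m
    exact fun x y hx hy => h x y (key x hx) (key y hy)

/-- the conjugating matrix -/
def Hi : M4 := Matrix.fromBlocks !![.o, .o; .w, .i] !![.w, .v; .v, .o] !![.v, .o; .w, .i] !![.v, .v; .v, .i]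

set_option maxRecDepth 100000 in
theorem Hi_sp : Hi * Matrix.J (Fin 2) F4 * Hi.transpose = Matrix.J (Fin 2) F4 := by decide +kernel

set_option maxRecDepth 100000 in
theorem Hi_eq : mn (dg K K) * Hi = Hi * dg (K ^ 2) 1 := by decide +kernel

/-- swap -/
def Sw : M4 := Matrix.fromBlocks !![.o, .i; .i, .o] 0 0 !![.o, .i; .i, .o]

set_option maxRecDepth 100000 in
theorem Sw_sp : Sw * Matrix.J (Fin 2) F4 * Sw.transpose = Matrix.J (Fin 2) F4 := by decide +kernel

set_option maxRecDepth 100000 in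
theorem Sw_eq : Sw * dg 1 K = dg K 1 * Sw := by decide +kernel

/-- swap -/
def sw : G := ⟨Sw, SymplecticGroup.mem_iff.2 Sw_sp⟩

/-- inverter -/
def Ci : M2 := !![0, 1; 1, 0]
/-- inverter -/
def ci : G := ⟨dg 1 Ci, dg_mem D1_one (by decide)⟩

theorem Ci_eq : Ci * K = K ^ 4 * Ci ∧ Ci * K ^ 2 = K ^ 3 * Ci := by decide +kernel

theorem coe_ya_yb (i j : ℕ) : ((ya ^ i * yb ^ j : G) : M4) = dg (K ^ i) (K ^ j) := by
  rw [Submonoid.coe_mul, coe_pow_dg ya_coe, coe_pow_dg (X := 1) (Y := K) rfl, dg_mul, one_pow, one_pow, mul_one, one_mul]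

theorem PP_one : PP (ya * yb) := by
  have hch := charF4
  left
  let h : G := ⟨Hi, SymplecticGroup.mem_iff.2 Hi_sp⟩
  refine ⟨(graphEquiv F4).trans (MulAut.conj h⁻¹), ?_⟩
  have h1 : graphEquiv F4 (ya * yb) * h = h * ya ^ 2 := by
    apply Subtype.ext
    rw [Submonoid.coe_mul, Submonoid.coe_mul, graphEquiv_apply, graphHom_coe]
    have e1 := coe_ya_yb 1 1
    rw [pow_one, pow_one, pow_one] at e1
    rw [e1, coe_pow_dg ya_coe, one_pow]
    exact Hi_eq
  have h2 : h⁻¹ * graphEquiv F4 (ya * yb) * h = ya ^ 2 := by rw [mul_assoc, h1, inv_mul_cancel_left]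
  rw [MulEquiv.trans_apply, MulAut.conj_apply, inv_inv, h2]
  exact pow_mem (mem_zpowers ya) 2

theorem PP_two : PP (ya * yb ^ 2) := by
  right
  intro x y hx hy
  have e1 := coe_ya_yb 1 2
  rw [pow_one, pow_one] at e1
  obtain ⟨k, l, h1⟩ := comm_E e1 hx
  obtain ⟨k', l', h2⟩ := comm_E e1 hy
  exact comm_dg h1 h2 (pow_mul_comm K _ _) (pow_mul_comm K _ _)

theorem PP_four : PP (ya * yb ^ 4) := by
  have h1 : ya * yb ^ 4 = ci * (ya * yb) * ci⁻¹ := by
    rw [eq_mul_inv_iff_mul_eq]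
    apply Subtype.ext
    have e1 := coe_ya_yb 1 4
    have e2 := coe_ya_yb 1 1
    rw [pow_one, pow_one] at e1
    rw [pow_one, pow_one, pow_one] at e2
    show ((ya * yb ^ 4 : G) : M4) * (ci : M4) = (ci : M4) * ((ya * yb : G) : M4)
    rw [e1, e2]
    show dg K (K ^ 4) * dg 1 Ci = dg 1 Ci * dg K K
    rw [dg_mul, dg_mul, Ci_eq.1, one_mul, mul_one]
  apply PP.conj (g := ci⁻¹)
  rw [h1]
  have : ci⁻¹ * (ci * (ya * yb) * ci⁻¹) * ci⁻¹⁻¹ = ya * yb := by group
  rw [this]
  exact PP_one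

theorem PP_three : PP (ya * yb ^ 3) := by
  have h1 : ya * yb ^ 3 = ci * (ya * yb ^ 2) * ci⁻¹ := by
    rw [eq_mul_inv_iff_mul_eq]
    apply Subtype.ext
    have e1 := coe_ya_yb 1 3
    have e2 := coe_ya_yb 1 2
    rw [pow_one, pow_one] at e1 e2
    show ((ya * yb ^ 3 : G) : M4) * (ci : M4) = (ci : M4) * ((ya * yb ^ 2 : G) : M4)
    rw [e1, e2]
    show dg K (K ^ 3) * dg 1 Ci = dg 1 Ci * dg K (K ^ 2)
    rw [dg_mul, dg_mul, Ci_eq.2, one_mul, mul_one]
  apply PP.conj (g := ci⁻¹)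
  rw [h1]
  have : ci⁻¹ * (ci * (ya * yb ^ 2) * ci⁻¹) * ci⁻¹⁻¹ = ya * yb ^ 2 := by group
  rw [this]
  exact PP_two

theorem order_e (m : ℕ) : orderOf (ya * yb ^ m) = 5 := by
  have e1 := coe_ya_yb 1 m
  rw [pow_one, pow_one] at e1
  refine order_dg e1 (by norm_num) K_pow.1 ?_ ?_
  · rw [← pow_mul, mul_comm, pow_mul, K_pow.1, one_pow]
  · rw [← dg_one]
    exact fun h => K_pow.2 (dg_inj h).1

theorem PP_e (m : ℕ) (hm : m < 5) : PP (ya * yb ^ m) := by
  interval_cases m
  · rw [pow_zero, mul_one]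
    exact Or.inl ⟨MulEquiv.refl _, mem_zpowers ya⟩
  · rw [pow_one]; exact PP_one
  · exact PP_two
  · exact PP_three
  · exact PP_four

theorem PP_P0 (i j : ℕ) (hi : i < 5) (hj : j < 5) (hne : i ≠ 0 ∨ j ≠ 0) : PP (ya ^ i * yb ^ j) := by
  by_cases h0 : i = 0
  · subst h0
    rw [pow_zero, one_mul]
    have hj0 : j ≠ 0 := hne.resolve_left (fun h => h rfl)
    have h1 : sw * yb ^ j * sw⁻¹ = ya ^ j := by
      have h2 : sw * yb * sw⁻¹ = ya := by
        rw [mul_inv_eq_iff_eq_mul]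
        apply Subtype.ext
        rw [Submonoid.coe_mul, Submonoid.coe_mul, ya_coe]
        exact Sw_eq
      rw [← conj_pow, h2]
    apply PP.conj (g := sw)
    rw [h1]
    exact Or.inl ⟨MulEquiv.refl _, pow_mem (mem_zpowers ya) j⟩
  · have key : ∀ i j : Fin 5, (i : ℕ) ≠ 0 → ∃ m : Fin 5, (m * i : ℕ) % 5 = j := by decide
    obtain ⟨m, hm⟩ := key ⟨i, hi⟩ ⟨j, hj⟩ h0
    have h1 : ya ^ i * yb ^ j = (ya * yb ^ (m : ℕ)) ^ i := by
      apply Subtype.ext
      have e1 := coe_ya_yb 1 m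
      rw [pow_one, pow_one] at e1
      rw [coe_ya_yb, coe_pow_dg e1, ← pow_mul]
      congr 1
      have h2 : ∀ n : ℕ, K ^ n = K ^ (n % 5) := fun n => by
        conv_lhs => rw [← Nat.div_add_mod n 5, pow_add, pow_mul, K_pow.1, one_pow, one_mul]
      rw [h2 ((m : ℕ) * i), hm]
    rw [h1]
    refine (PP_e m m.2).pow (order_e m) ?_
    intro h2
    have := Nat.le_of_dvd (by omega) h2
    omega

/-- the Sylow 5-subgroup -/
theorem exists_P0 (hG : Nat.card G = 979200) : ∃ P : Sylow 5 G, ya ∈ P ∧ yb ∈ P ∧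
    ∀ z ∈ P, ∃ i j : ℕ, i < 5 ∧ j < 5 ∧ z = ya ^ i * yb ^ j := by
  have hfin : Finite G := Nat.finite_of_card_ne_zero (by rw [hG]; norm_num)
  have hp : Fact (Nat.Prime 5) := ⟨by norm_num⟩
  obtain ⟨P, h1, h2, h3, h4, -⟩ := exists_sq hp.out order_ya order_yb comm_yab
    (not_mem_zpowers_dg (X := K) (Y := K) ya_coe rfl K_pow.2 (orderOf_pos_iff.1 (by rw [order_ya]; norm_num)))
  have hcard : Nat.card P = 5 ^ (Nat.card G).factorization 5 := by
    rw [h1, hG, show (979200 : ℕ) = 5 ^ 2 * 39168 by norm_num, Nat.factorization_mul (by norm_num) (by norm_num),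
      Finsupp.add_apply, Nat.Prime.factorization_pow hp.out, Finsupp.single_eq_same,
      Nat.factorization_eq_zero_of_not_dvd (by norm_num)]
  exact ⟨Sylow.ofCard P hcard, h2, h3, h4⟩

/-- **all elements of order 5** -/
theorem PP_all (hG : Nat.card G = 979200) {d : G} (hd : orderOf d = 5) : PP d := by
  have hfin : Finite G := Nat.finite_of_card_ne_zero (by rw [hG]; norm_num)
  have hp : Fact (Nat.Prime 5) := ⟨by norm_num⟩
  obtain ⟨P, h1, h2, h3⟩ := exists_P0 hG
  have h4 : IsPGroup 5 (zpowers d) := IsPGroup.of_card (n := 1) (by rw [Nat.card_zpowers, hd, pow_one])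
  obtain ⟨Q, hQ⟩ := h4.exists_le_sylow
  obtain ⟨g, hg⟩ := MulAction.exists_smul_eq G Q P
  have h5 : g * d * g⁻¹ ∈ P := by
    rw [← hg]
    show g * d * g⁻¹ ∈ ((g • Q : Sylow 5 G) : Subgroup G)
    rw [Sylow.smul_def, Sylow.pointwise_smul_def]
    exact Subgroup.mem_map_of_mem (MulAut.conj g).toMonoidHom (hQ (mem_zpowers d))
  obtain ⟨i, j, hi, hj, h6⟩ := h3 _ h5
  apply PP.conj (g := g)
  rw [h6]
  refine PP_P0 i j hi hj ?_
  by_contra hcon
  push Not at hcon
  rw [hcon.1, hcon.2, pow_zero, pow_zero, mul_one] at h6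
  rw [mul_inv_eq_iff_eq_mul, one_mul, mul_eq_left] at h6
  rw [h6, orderOf_one] at hd
  norm_num at hd

end Cfsg.Agent.H916.Der.Four
end

-- part: H916/Der/FourSylC
section
/-!
# `Sp₄(4)`: Sylow arguments III (helper916, for S3502)
-/

set_option autoImplicit false

namespace Cfsg.Agent.H916.Der.Four

open Subgroup Cfsg Cfsg.Agent.Lib.FieldFour Cfsg.Agent.H547.Der.Four Cfsg.Agent.ClassicalGeometry.SympBasic
  Cfsg.Agent.ClassicalGeometry.Sp4Graph

/-- `SL₂(4)` -/
abbrev SL := Matrix.SpecialLinearGroup (Fin 2) F4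

theorem det_iff (A : M2) : A.det = 1 ↔ D1 A := by
  have := charF4
  rw [Matrix.det_fin_two, sub_eq_add_neg, CharTwo.neg_eq]
  rfl

/-- `SL₂(4)` on `B` -/
def iB : SL →* G where
  toFun A := ⟨dg 1 A.1, dg_mem D1_one ((det_iff _).1 A.2)⟩
  map_one' := Subtype.ext dg_one
  map_mul' A B := Subtype.ext (by
    show dg 1 (A.1 * B.1) = dg 1 A.1 * dg 1 B.1
    rw [dg_mul, one_mul])

theorem iB_inj : Function.Injective iB := by
  intro A B h
  exact Subtype.ext (dg_inj (congrArg Subtype.val h)).2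

theorem card_SL : Nat.card SL = 60 := by
  let e : SL ≃ {x : F4 × F4 × F4 × F4 // x.1 * x.2.2.2 + x.2.1 * x.2.2.1 = 1} :=
    { toFun A := ⟨(A.1 0 0, A.1 0 1, A.1 1 0, A.1 1 1), (det_iff _).1 A.2⟩
      invFun x := ⟨!![x.1.1, x.1.2.1; x.1.2.2.1, x.1.2.2.2], (det_iff _).2 x.2⟩
      left_inv A := Subtype.ext (M2_eta A.1).symm
      right_inv x := rfl }
  rw [Nat.card_congr e, Nat.card_eq_fintype_card]
  decide +kernel

theorem sq_mem_gen {S : Type*} [Group S] (hS : Nat.card S = 60) {X : Subgroup S} {x y : S} (hx : orderOf x = 5)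
    (hy : orderOf y = 5) (hne : y ∉ zpowers x) (hxX : x ∈ X) (hyX : y ∈ X) (s : S) : s ^ 2 ∈ X := by
  have hfin : Finite S := Nat.finite_of_card_ne_zero (by rw [hS]; norm_num)
  have hp : Fact (Nat.Prime 5) := ⟨by norm_num⟩
  have hXd : Nat.card X ∣ 60 := hS ▸ Subgroup.card_subgroup_dvd_card X
  have h5 : 5 ∣ Nat.card X := by
    have h1 := Subgroup.card_dvd_of_le (zpowers_le.2 hxX)
    rwa [Nat.card_zpowers, hx] at h1
  have hfac : (Nat.card X).factorization 5 = 1 := by
    have h1 : 1 ≤ (Nat.card X).factorization 5 := (hp.out.dvd_iff_one_le_factorization (Nat.card_pos).ne').1 h5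
    have h2 : ¬ 2 ≤ (Nat.card X).factorization 5 := fun h => by
      have h3 := (hp.out.pow_dvd_iff_le_factorization (Nat.card_pos).ne').2 h
      have h4 := h3.trans hXd
      norm_num at h4
    omega
  have hsyl : ∀ {z : S} (hz : z ∈ X), orderOf z = 5 → Nat.card (zpowers (⟨z, hz⟩ : X)) = 5 ^ (Nat.card X).factorization 5 := by
    intro z hz h1
    rw [Nat.card_zpowers, hfac, pow_one, ← h1]
    exact Subgroup.orderOf_mk z hz
  let P1 : Sylow 5 X := Sylow.ofCard _ (hsyl hxX hx)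
  let P2 : Sylow 5 X := Sylow.ofCard _ (hsyl hyX hy)
  have hn1 : Nat.card (Sylow 5 X) ≠ 1 := by
    intro h1
    obtain ⟨h2, -⟩ := Nat.card_eq_one_iff_unique.1 h1
    have h3 : P2 = P1 := Subsingleton.elim _ _
    have h4 : (⟨y, hyX⟩ : X) ∈ (P1 : Subgroup X) := by
      rw [← h3]
      exact mem_zpowers _
    have h5 : (⟨y, hyX⟩ : X) ∈ zpowers (⟨x, hxX⟩ : X) := h4
    obtain ⟨n, hn⟩ := mem_zpowers_iff.1 h5
    exact hne (mem_zpowers_iff.2 ⟨n, congrArg Subtype.val hn⟩)
  have hmod := card_sylow_modEq_one 5 X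
  have hdvd := P1.card_dvd_index
  have hP1 : Nat.card (P1 : Subgroup X) = 5 := by
    rw [P1.card_eq_multiplicity, hfac, pow_one]
  have hmul : Nat.card (P1 : Subgroup X) * (P1 : Subgroup X).index = Nat.card X := Subgroup.card_mul_index _
  rw [hP1] at hmul
  have h12 : (P1 : Subgroup X).index ∣ 12 := by
    have h1 : 5 * (P1 : Subgroup X).index ∣ 5 * 12 := by rw [hmul]; exact hXd
    exact Nat.dvd_of_mul_dvd_mul_left (by norm_num) h1
  have h6 : Nat.card (Sylow 5 X) = 6 := by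
    have h1 := hdvd.trans h12
    have h2 : ∀ n : ℕ, n < 13 → n ∣ 12 → n % 5 = 1 → n ≠ 1 → n = 6 := by decide
    exact h2 _ (Nat.lt_succ_of_le (Nat.le_of_dvd (by norm_num) h1)) h1 (by simpa [Nat.ModEq] using hmod) hn1
  have h30 : 30 ∣ Nat.card X := by
    rw [← hmul]
    rw [h6] at hdvd
    exact Nat.mul_dvd_mul_left 5 hdvd
  have hidx : X.index = 1 ∨ X.index = 2 := by
    have h1 : X.index * Nat.card X = 60 := by rw [← hS]; exact X.index_mul_card
    obtain ⟨k, hk⟩ := h30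
    rw [hk] at h1
    have h2 : X.index * k = 2 := by
      have : 30 * (X.index * k) = 30 * 2 := by rw [← mul_assoc, mul_comm 30, mul_assoc, h1]
      exact Nat.eq_of_mul_eq_mul_left (by norm_num) this
    have h3 : X.index ∣ 2 := ⟨k, h2.symm⟩
    exact (Nat.dvd_prime Nat.prime_two).1 h3
  rcases hidx with h | h
  · rw [Subgroup.index_eq_one.1 h]
    exact Subgroup.mem_top _
  · exact Subgroup.sq_mem_of_index_two h s

theorem U_sq (c : F4) : (!![.v, .o; .o, .w] : M2) ^ 2 * (U (.v * c) * !![.w, .o; .o, .v] * U (.v * c)) ^ 2 = U c := by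
  revert c
  decide +kernel

theorem L_sq (c : F4) : (!![.w, .o; .o, .v] : M2) ^ 2 * (L (.v * c) * !![.v, .o; .o, .w] * L (.v * c)) ^ 2 = L c := by
  revert c
  decide +kernel

/-- an element of `SL₂(4)` -/
def toSL (X : M2) (h : D1 X) : SL := ⟨X, (det_iff X).2 h⟩

theorem coe_iB (X : M2) (h : D1 X) : ((iB (toSL X h) : G) : M4) = dg 1 X := rfl

theorem coe_sq {X Y : M2} (hX : D1 X) (hY : D1 Y) :
    ((iB (toSL X hX ^ 2 * toSL Y hY ^ 2) : G) : M4) = dg 1 (X ^ 2 * Y ^ 2) := by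
  rw [map_mul, map_pow, map_pow, Submonoid.coe_mul, coe_pow_dg (coe_iB X hX), coe_pow_dg (coe_iB Y hY), dg_mul, one_pow,
    one_mul]

theorem tr_of_sq {H : Subgroup G} (h : ∀ s : SL, s ^ 2 ∈ H.comap iB) : ∀ q s, Tr H (bl 0 q 0 s) := by
  have key : ∀ {X Y : M2} (_ : D1 X) (_ : D1 Y) (t : G), (t : M4) = dg 1 (X ^ 2 * Y ^ 2) → t ∈ H := by
    intro X Y hX hY t ht
    have h1 : iB (toSL X hX ^ 2 * toSL Y hY ^ 2) ∈ H := (H.comap iB).mul_mem (h _) (h _)
    have h2 : t = iB (toSL X hX ^ 2 * toSL Y hY ^ 2) := Subtype.ext (by rw [ht, coe_sq])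
    rwa [h2]
  have d1 : D1 !![.v, .o; .o, .w] := by decide
  have d2 : D1 !![.w, .o; .o, .v] := by decide
  have d3 : ∀ c : F4, D1 (U (.v * c) * !![.w, .o; .o, .v] * U (.v * c)) := by decide +kernel
  have d4 : ∀ c : F4, D1 (L (.v * c) * !![.v, .o; .o, .w] * L (.v * c)) := by decide +kernel
  refine tr_B (fun c => ?_) (fun c => ?_)
  · refine key d1 (d3 c) _ ?_
    rw [transv_e1, U_sq]
  · refine key d2 (d4 c) _ ?_
    rw [transv_e2, L_sq]

theorem comm_of_card {Q : Subgroup G} (h : Nat.card Q = 25) {x y : G} (hx : x ∈ Q) (hy : y ∈ Q) : Commute x y := by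
  have hp : Fact (Nat.Prime 5) := ⟨by norm_num⟩
  have h1 := IsPGroup.commutative_of_card_eq_prime_sq (p := 5) (G := Q) (by rw [h]; norm_num) ⟨x, hx⟩ ⟨y, hy⟩
  exact congrArg Subtype.val h1

/-- two subgroups of order 25 containing `ya` -/
theorem two_syl {H Q1 Q2 : Subgroup G} (h1 : Q1 ≤ H) (h2 : Q2 ≤ H) (c1 : Nat.card Q1 = 25) (c2 : Nat.card Q2 = 25)
    (hne : Q1 ≠ Q2) (a1 : ya ∈ Q1) (a2 : ya ∈ Q2) : ∀ q s, Tr H (bl 0 q 0 s) := by
  have key : ∀ {Q Q' : Subgroup G}, Q ≤ H → Nat.card Q = 25 → Nat.card Q' = 25 → Q ≠ Q' → ya ∈ Q → ya ∈ Q' →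
      ∃ s : SL, iB s ∈ Q ∧ iB s ∉ Q' ∧ orderOf s = 5 := by
    intro Q Q' hQH c c' hne a a'
    have hfin : Finite Q' := Nat.finite_of_card_ne_zero (by rw [c']; norm_num)
    have h3 : ∃ z ∈ Q, z ∉ Q' := by
      by_contra hcon
      push Not at hcon
      exact hne (Subgroup.eq_of_le_of_card_ge hcon (by rw [c, c']))
    obtain ⟨z, hz, hz'⟩ := h3
    obtain ⟨k, Y, hY, h4⟩ := comm_ya (comm_of_card c hz a)
    have h5 : z = ya ^ (k : ℕ) * iB (toSL Y hY) := by
      apply Subtype.ext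
      rw [Submonoid.coe_mul, coe_pow_dg ya_coe, h4, coe_iB, dg_mul, one_pow, one_mul, mul_one]
    have h6 : iB (toSL Y hY) = (ya ^ (k : ℕ))⁻¹ * z := by rw [h5, inv_mul_cancel_left]
    have h7 : iB (toSL Y hY) ∈ Q := by rw [h6]; exact Q.mul_mem (Q.inv_mem (Q.pow_mem a _)) hz
    have h8 : iB (toSL Y hY) ∉ Q' := fun h => hz' (by
      rw [h5]; exact Q'.mul_mem (Q'.pow_mem a' _) h)
    refine ⟨_, h7, h8, ?_⟩
    generalize toSL Y hY = s at h7 h8
    have h9 : orderOf s ∣ 25 := by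
      rw [← orderOf_injective iB iB_inj, ← c]
      exact Subgroup.orderOf_dvd_natCard _ h7
    have h10 : orderOf s ∣ 60 := by
      rw [← card_SL]
      exact _root_.orderOf_dvd_natCard s
    have h11 : orderOf s ∣ 5 := by
      have := Nat.dvd_gcd h9 h10
      norm_num at this
      exact this
    rcases (Nat.dvd_prime (by norm_num)).1 h11 with h | h
    · exfalso
      apply h8
      rw [orderOf_eq_one_iff.1 h, map_one]
      exact Q'.one_mem
    · exact h
  obtain ⟨s1, m1, n1, o1⟩ := key h1 c1 c2 hne a1 a2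
  obtain ⟨s2, m2, n2, o2⟩ := key h2 c2 c1 hne.symm a2 a1
  refine tr_of_sq (sq_mem_gen card_SL (x := s1) (y := s2) o1 o2 ?_ (h1 m1) (h2 m2))
  intro h
  apply n2
  have h3 : iB s2 ∈ (zpowers s1).map iB := Subgroup.mem_map_of_mem iB h
  rw [MonoidHom.map_zpowers] at h3
  exact zpowers_le.2 m1 h3

theorem not_isCoatom_map {H : Subgroup G} (φ : G ≃* G) (h : ¬ IsCoatom H) : ¬ IsCoatom (H.map φ.toMonoidHom) := by
  intro h1
  apply h
  refine ⟨fun h2 => h1.1 ?_, fun M hM => ?_⟩
  · rw [h2]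
    exact Subgroup.map_top_of_surjective _ φ.surjective
  · have h3 : H.map φ.toMonoidHom < M.map φ.toMonoidHom :=
      Subgroup.map_lt_map_iff_of_injective (f := φ.toMonoidHom) φ.injective |>.2 hM
    have h4 := h1.2 _ h3
    rw [eq_top_iff]
    intro x _
    have h5 : φ x ∈ M.map φ.toMonoidHom := by rw [h4]; exact Subgroup.mem_top _
    obtain ⟨y, hy, h6⟩ := h5
    rwa [← φ.injective h6]

/-- **no elements of order four in a non-maximal proper subgroup with two Sylow 5-subgroups meeting nontrivially** -/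
theorem main_syl (hG : Nat.card G = 979200) {H : Subgroup G} (hT : H ≠ ⊤) (hc : ¬ IsCoatom H) (h25 : 25 ∣ Nat.card H)
    (hn : ¬ Nat.card (Sylow 5 H) ≡ 1 [MOD 5 ^ 2]) : ∀ t ∈ H, orderOf t ≠ 4 := by
  have hfin : Finite G := Nat.finite_of_card_ne_zero (by rw [hG]; norm_num)
  have hp : Fact (Nat.Prime 5) := ⟨by norm_num⟩
  have hHd : Nat.card H ∣ 979200 := hG ▸ Subgroup.card_subgroup_dvd_card H
  have hfac : (Nat.card H).factorization 5 = 2 := by
    have h1 : 2 ≤ (Nat.card H).factorization 5 := (hp.out.pow_dvd_iff_le_factorization (Nat.card_pos).ne').1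
      (by norm_num only []; exact h25)
    have h2 : ¬ 3 ≤ (Nat.card H).factorization 5 := fun h => by
      have h3 := (hp.out.pow_dvd_iff_le_factorization (Nat.card_pos).ne').2 h
      have h4 := h3.trans hHd
      norm_num at h4
    omega
  obtain ⟨P, R, hPR, hidx⟩ := Cfsg.Agent.S0985.result 5 2 hn
  have hcP : ∀ P : Sylow 5 H, Nat.card (P : Subgroup H) = 25 := fun P => by
    rw [P.card_eq_multiplicity, hfac]
    norm_num
  have hd : ∃ d : H, d ∈ (P : Subgroup H) ∧ d ∈ (R : Subgroup H) ∧ orderOf d = 5 := by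
    have h1 : Nat.card ((R : Subgroup H).subgroupOf (P : Subgroup H)) *
        ((R : Subgroup H).subgroupOf (P : Subgroup H)).index = 25 := by
      rw [Subgroup.card_mul_index, hcP]
    have h2 : 5 ∣ Nat.card ((R : Subgroup H).subgroupOf (P : Subgroup H)) := by
      have h3 : Nat.card ((R : Subgroup H).subgroupOf (P : Subgroup H)) ∣ 5 ^ 2 := ⟨_, by rw [h1]; norm_num⟩
      obtain ⟨k, hk, h4⟩ := (Nat.dvd_prime_pow hp.out).1 h3
      rcases Nat.eq_zero_or_pos k with h5 | h5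
      · subst h5
        rw [h4, pow_zero, one_mul] at h1
        norm_num at hidx
        omega
      · rw [h4]
        exact dvd_pow_self 5 (by omega)
    obtain ⟨⟨⟨d, hdP⟩, hdR⟩, hd⟩ := exists_prime_orderOf_dvd_card' 5 h2
    refine ⟨d, hdP, hdR, ?_⟩
    have e1 := Subgroup.orderOf_coe (⟨d, hdP⟩ : (P : Subgroup H))
    have e2 := Subgroup.orderOf_coe (⟨⟨d, hdP⟩, hdR⟩ : ((R : Subgroup H).subgroupOf (P : Subgroup H)))
    exact e1.trans (e2.trans hd)
  obtain ⟨d, hdP, hdR, hd5⟩ := hd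
  have hcG : ∀ P : Sylow 5 H, Nat.card ((P : Subgroup H).map H.subtype) = 25 := fun P => by
    rw [Nat.card_congr (Subgroup.equivMapOfInjective _ H.subtype H.subtype_injective).toEquiv.symm, hcP]
  have hd5' : orderOf (d : G) = 5 := by rw [Subgroup.orderOf_coe, hd5]
  rcases PP_all hG hd5' with ⟨φ, hφ⟩ | hab
  · -- up to automorphisms in `⟨ya⟩`
    have h1 : ya ∈ zpowers (φ (d : G)) := by
      have h2 : zpowers (φ (d : G)) = zpowers ya := by
        refine Subgroup.eq_of_le_of_card_ge (zpowers_le.2 hφ) ?_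
        rw [Nat.card_zpowers, Nat.card_zpowers, MulEquiv.orderOf_eq, hd5', order_ya]
      rw [h2]
      exact mem_zpowers ya
    have key : ∀ P : Sylow 5 H, d ∈ (P : Subgroup H) → ya ∈ ((P : Subgroup H).map H.subtype).map φ.toMonoidHom := by
      intro P hdP
      refine zpowers_le.2 ?_ h1
      exact Subgroup.mem_map_of_mem φ.toMonoidHom (Subgroup.mem_map_of_mem H.subtype hdP)
    have hle : ∀ P : Sylow 5 H, ((P : Subgroup H).map H.subtype).map φ.toMonoidHom ≤ H.map φ.toMonoidHom := by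
      intro P
      refine Subgroup.map_mono ?_
      rintro _ ⟨x, -, rfl⟩
      exact x.2
    have hcard : ∀ P : Sylow 5 H, Nat.card (((P : Subgroup H).map H.subtype).map φ.toMonoidHom) = 25 := fun P => by
      rw [Nat.card_congr (Subgroup.equivMapOfInjective _ φ.toMonoidHom φ.injective).toEquiv.symm, hcG]
    have hB := two_syl (hle P) (hle R) (hcard P) (hcard R) (fun h => by
      apply hPR
      have h2 := Subgroup.map_injective φ.injective h
      exact Sylow.ext (Subgroup.map_injective H.subtype_injective h2)) (key P hdP) (key R hdR)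
    intro t ht h4
    refine no_four (H := H.map φ.toMonoidHom) ?_ (not_isCoatom_map φ hc) (hle P (key P hdP)) hB (φ t)
      (Subgroup.mem_map_of_mem φ.toMonoidHom ht) (by rw [MulEquiv.orderOf_eq, h4])
    intro h2
    apply hT
    rw [eq_top_iff]
    intro x _
    have h3 : φ x ∈ H.map φ.toMonoidHom := by rw [h2]; exact Subgroup.mem_top _
    obtain ⟨y, hy, h5⟩ := h3
    rwa [← φ.injective h5]
  · exfalso
    apply hPR
    have h1 : ∀ x ∈ (R : Subgroup H), ∀ y ∈ (P : Subgroup H), x * y = y * x := by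
      intro x hx y hy
      have h2 := hab x y (comm_of_card (hcG R) (Subgroup.mem_map_of_mem H.subtype hx)
        (Subgroup.mem_map_of_mem H.subtype hdR)) (comm_of_card (hcG P) (Subgroup.mem_map_of_mem H.subtype hy)
        (Subgroup.mem_map_of_mem H.subtype hdP))
      exact Subtype.ext h2.eq
    have h2 : (R : Subgroup H) ≤ normalizer ((P : Subgroup H) : Set H) := by
      intro x hx
      rw [Subgroup.mem_normalizer_iff]
      intro y
      constructor
      · intro hy
        rwa [h1 x hx y hy, mul_inv_cancel_right]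
      · intro hy
        have h3 := h1 x hx _ hy
        have h4 : y = x * y * x⁻¹ := by
          have h5 : x * (x * y * x⁻¹) * x⁻¹ = x * y * x⁻¹ := by rw [h3, mul_inv_cancel_right]
          have h6 := mul_right_cancel h5
          exact (mul_left_cancel h6).symm
        rwa [h4]
    have h3 : (R : Subgroup H) ≤ P := by
      have h4 := (R.isPGroup').inf_normalizer_sylow P
      have h5 : (R : Subgroup H) ≤ (R : Subgroup H) ⊓ (P : Subgroup H) := by
        rw [← h4]
        exact le_inf le_rfl h2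
      exact h5.trans inf_le_right
    exact (Sylow.ext (Subgroup.eq_of_le_of_card_ge h3 (by rw [hcP, hcP]))).symm

theorem trace_conj (g x : G) : ((g * x * g⁻¹ : G) : M4).trace = (x : M4).trace := by
  rw [Submonoid.coe_mul, Matrix.trace_mul_comm, ← Submonoid.coe_mul, inv_mul_cancel_left]

theorem trace_P0 (i j : ℕ) (hi : i < 5) (hj : j < 5) (h : ((ya ^ i * yb ^ j : G) : M4).trace = .w) :
    (i = 1 ∧ j = 0) ∨ (i = 4 ∧ j = 0) ∨ (i = 0 ∧ j = 1) ∨ (i = 0 ∧ j = 4) := by
  rw [coe_ya_yb] at h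
  have key : ∀ i j : Fin 5, (dg (K ^ (i : ℕ)) (K ^ (j : ℕ))).trace = .w →
    ((i : ℕ) = 1 ∧ (j : ℕ) = 0) ∨ ((i : ℕ) = 4 ∧ (j : ℕ) = 0) ∨ ((i : ℕ) = 0 ∧ (j : ℕ) = 1) ∨
      ((i : ℕ) = 0 ∧ (j : ℕ) = 4) := by decide +kernel
  exact key ⟨i, hi⟩ ⟨j, hj⟩ h

/-- an element of order 3 does not normalize the Sylow 5-subgroup -/
theorem not_norm {P : Subgroup G} (ha : ya ∈ P) (hb : yb ∈ P)
    (hP : ∀ z ∈ P, ∃ i j : ℕ, i < 5 ∧ j < 5 ∧ z = ya ^ i * yb ^ j) {t : G} (ht : orderOf t = 3)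
    (hn : ∀ x ∈ P, t * x * t⁻¹ ∈ P) : False := by
  have ea : ((ya : G) : M4).trace = .w := by rw [ya_coe]; decide +kernel
  have eb : ((yb : G) : M4).trace = .w := by show (dg 1 K).trace = _; decide +kernel
  have p5a : ya ^ 4 = ya⁻¹ := by
    have h1 := pow_orderOf_eq_one ya
    rw [order_ya] at h1
    rw [eq_inv_iff_mul_eq_one, ← pow_succ]
    exact h1
  have p5b : yb ^ 4 = yb⁻¹ := by
    have h1 := pow_orderOf_eq_one yb
    rw [order_yb] at h1
    rw [eq_inv_iff_mul_eq_one, ← pow_succ]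
    exact h1
  have key : ∀ x ∈ P, (x : M4).trace = .w → t * x * t⁻¹ = ya ∨ t * x * t⁻¹ = ya⁻¹ ∨ t * x * t⁻¹ = yb ∨ t * x * t⁻¹ = yb⁻¹ := by
    intro x hx hw
    obtain ⟨i, j, hi, hj, h1⟩ := hP _ (hn x hx)
    have h2 : ((ya ^ i * yb ^ j : G) : M4).trace = .w := by rw [← h1, trace_conj, hw]
    rcases trace_P0 i j hi hj h2 with ⟨rfl, rfl⟩ | ⟨rfl, rfl⟩ | ⟨rfl, rfl⟩ | ⟨rfl, rfl⟩
    · left; rw [h1, pow_one, pow_zero, mul_one]
    · right; left; rw [h1, p5a, pow_zero, mul_one]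
    · right; right; left; rw [h1, pow_one, pow_zero, one_mul]
    · right; right; right; rw [h1, p5b, pow_zero, one_mul]
  have hab : ya ≠ yb := by
    intro h
    have := congrArg (fun x : G => (x : M4)) h
    simp only [ya_coe] at this
    exact K_pow.2 (dg_inj (this : dg K 1 = dg 1 K)).1
  have hab' : ya ≠ yb⁻¹ := by
    intro h
    rw [← p5b] at h
    have := congrArg (fun x : G => (x : M4)) h
    simp only [ya_coe, coe_pow_dg (X := 1) (Y := K) (t := yb) rfl, one_pow] at this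
    exact K_pow.2 (dg_inj this).1
  have hab'' : ya⁻¹ ≠ yb := fun h => hab' (by rw [← h, inv_inv])
  have haa : ya⁻¹ ≠ ya := by
    intro h
    have h1 : ya ^ 2 = 1 := by rw [pow_two]; nth_rewrite 1 [← h]; exact inv_mul_cancel ya
    have h2 := orderOf_dvd_of_pow_eq_one h1
    rw [order_ya] at h2
    norm_num at h2
  have hbb : yb⁻¹ ≠ yb := by
    intro h
    have h1 : yb ^ 2 = 1 := by rw [pow_two]; nth_rewrite 1 [← h]; exact inv_mul_cancel yb
    have h2 := orderOf_dvd_of_pow_eq_one h1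
    rw [order_yb] at h2
    norm_num at h2
  have h3 : ∀ x : G, t * (t * (t * x * t⁻¹) * t⁻¹) * t⁻¹ = x := by
    intro x
    have h4 : t * (t * (t * x * t⁻¹) * t⁻¹) * t⁻¹ = t ^ 3 * x * (t ^ 3)⁻¹ := by
      simp only [pow_succ, pow_zero, one_mul, mul_inv_rev, mul_assoc]
    have h5 : t ^ 3 = 1 := by rw [← ht, pow_orderOf_eq_one]
    rw [h4, h5]
    group
  have hinv : ∀ x : G, t * x⁻¹ * t⁻¹ = (t * x * t⁻¹)⁻¹ := fun x => by group
  have hinj : ∀ {x y : G}, t * x * t⁻¹ = t * y * t⁻¹ → x = y := fun h => mul_left_cancel (mul_right_cancel h)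
  -- the two conjugation equations
  have hfa : t * ya * t⁻¹ = ya := by
    rcases key ya ha ea with h | h | h | h
    · exact h
    · exfalso
      have h4 := h3 ya
      rw [h, hinv, h, inv_inv, h] at h4
      exact haa h4
    · exfalso
      have h4 := h3 ya
      rw [h] at h4
      rcases key yb hb eb with h5 | h5 | h5 | h5
      · rw [h5, h] at h4
        exact hab h4.symm
      · rw [h5, hinv, h] at h4
        exact hab' h4.symm
      · exact hab (hinj (h.trans h5.symm))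
      · apply hab'
        apply hinj
        rw [h, hinv, h5, inv_inv]
    · exfalso
      have h4 := h3 ya
      rw [h] at h4
      rcases key yb hb eb with h5 | h5 | h5 | h5
      · rw [hinv, h5, hinv, h, inv_inv] at h4
        exact hab h4.symm
      · rw [hinv, h5, inv_inv, h] at h4
        exact hab' h4.symm
      · apply hab'
        apply hinj
        rw [h, hinv, h5]
      · exact hab (hinj (h.trans h5.symm))
  have hfb : t * yb * t⁻¹ = yb := by
    rcases key yb hb eb with h | h | h | h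
    · exact absurd (hinj (hfa.trans h.symm)) hab
    · exfalso
      apply hab''
      apply hinj
      rw [hinv, hfa, h]
    · exact h
    · exfalso
      have h4 := h3 yb
      rw [h, hinv, h, inv_inv, h] at h4
      exact hbb h4
  have c1 : Commute t ya := by
    rw [mul_inv_eq_iff_eq_mul] at hfa
    exact hfa
  have c2 : Commute t yb := by
    rw [mul_inv_eq_iff_eq_mul] at hfb
    exact hfb
  obtain ⟨k, l, h5⟩ := comm_yab' c1 c2
  have h6 : t ^ 5 = 1 := by
    apply Subtype.ext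
    rw [coe_pow_dg h5, ← pow_mul, ← pow_mul, mul_comm, pow_mul, K_pow.1, one_pow, mul_comm, pow_mul, K_pow.1, one_pow,
      dg_one]
    rfl
  have h7 := orderOf_dvd_of_pow_eq_one h6
  rw [ht] at h7
  norm_num at h7

theorem num_syl (m n : ℕ) (h1 : 25 * n ∣ m) (h2 : m ∣ 57600) (h3 : m ≤ 11520) (h4 : 3 ∣ n) (h5 : n % 25 = 1) : False := by
  have h6 : 25 * n ∣ 25 * 2304 := h1.trans h2
  have h7 : n ∣ 2304 := Nat.dvd_of_mul_dvd_mul_left (by norm_num) h6
  have hm : 0 < m := Nat.pos_of_dvd_of_pos h2 (by norm_num)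
  have h8 : 25 * n ≤ 11520 := (Nat.le_of_dvd hm h1).trans h3
  have h9 : n < 461 := by (clear * - h8; omega)
  have key : ∀ n < 461, n ∣ 2304 → 3 ∣ n → n % 25 = 1 → False := by decide +kernel
  exact key n h9 h7 h4 h5

/-- the Sylow 5-subgroups have nontrivial intersections -/
theorem syl_ne (hG : Nat.card G = 979200) {H : Subgroup G} (h25 : 25 ∣ Nat.card H) (h3 : 3 ∣ Nat.card H)
    (hd : Nat.card H ∣ 57600) (hle : Nat.card H ≤ 11520) : ¬ Nat.card (Sylow 5 H) ≡ 1 [MOD 5 ^ 2] := by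
  intro hmod
  have hfin : Finite G := Nat.finite_of_card_ne_zero (by rw [hG]; norm_num)
  have hp : Fact (Nat.Prime 5) := ⟨by norm_num⟩
  have hp3 : Fact (Nat.Prime 3) := ⟨by norm_num⟩
  have hfac : (Nat.card H).factorization 5 = 2 := by
    have h1 : 2 ≤ (Nat.card H).factorization 5 := (hp.out.pow_dvd_iff_le_factorization (Nat.card_pos).ne').1
      (by norm_num only []; exact h25)
    have h2 : ¬ 3 ≤ (Nat.card H).factorization 5 := fun h => by
      have h3 := (hp.out.pow_dvd_iff_le_factorization (Nat.card_pos).ne').2 h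
      have h4 := h3.trans hd
      norm_num at h4
    omega
  obtain ⟨Q, hQ⟩ : ∃ Q : Sylow 5 H, True := ⟨default, trivial⟩
  have hcQ : Nat.card (Q : Subgroup H) = 25 := by
    rw [Q.card_eq_multiplicity, hfac]
    norm_num
  have hn := Q.card_eq_index_normalizer
  set N := normalizer ((Q : Subgroup H) : Set H) with hN
  have hn' : Nat.card (Sylow 5 H) = N.index := hn
  have hmul : Nat.card N * N.index = Nat.card H := Subgroup.card_mul_index N
  -- `3 ∤ |N|`
  have h3N : ¬ 3 ∣ Nat.card N := by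
    intro h
    obtain ⟨⟨⟨t, htH⟩, htN⟩, ht⟩ := exists_prime_orderOf_dvd_card' 3 h
    have ht3 : orderOf t = 3 := by
      have e1 := Subgroup.orderOf_coe (⟨t, htH⟩ : H)
      have e2 := Subgroup.orderOf_coe (⟨⟨t, htH⟩, htN⟩ : N)
      exact e1.trans (e2.trans ht)
    obtain ⟨P, h1, h2, h4⟩ := exists_P0 hG
    have hcard : Nat.card ((Q : Subgroup H).map H.subtype) = 5 ^ (Nat.card G).factorization 5 := by
      rw [Nat.card_congr (Subgroup.equivMapOfInjective _ H.subtype H.subtype_injective).toEquiv.symm, hcQ, hG,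
        show (979200 : ℕ) = 5 ^ 2 * 39168 by norm_num, Nat.factorization_mul (by norm_num) (by norm_num),
        Finsupp.add_apply, Nat.Prime.factorization_pow hp.out, Finsupp.single_eq_same,
        Nat.factorization_eq_zero_of_not_dvd (by norm_num)]
      norm_num
    obtain ⟨g, hg⟩ := MulAction.exists_smul_eq G (Sylow.ofCard _ hcard) P
    have hmem : ∀ x : G, x ∈ (Q : Subgroup H).map H.subtype ↔ g * x * g⁻¹ ∈ (P : Subgroup G) := by
      intro x
      rw [← hg, Sylow.smul_def, Sylow.pointwise_smul_def]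
      constructor
      · intro hx
        exact Subgroup.mem_map_of_mem (MulAut.conj g).toMonoidHom hx
      · rintro ⟨y, hy, h5⟩
        have h6 : y = x := (MulAut.conj g).injective h5
        rw [← h6]
        exact hy
    refine not_norm h1 h2 h4 (t := g * t * g⁻¹) (by rw [Cfsg.Agent.H439.Der.orderOf_conj, ht3]) ?_
    intro x hx
    have h5 : g⁻¹ * x * g ∈ (Q : Subgroup H).map H.subtype := by
      rw [hmem]
      have : g * (g⁻¹ * x * g) * g⁻¹ = x := by group
      rwa [this]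
    obtain ⟨⟨y, hyH⟩, hyQ, hy⟩ := h5
    have h6 : (⟨t, htH⟩ : H) * ⟨y, hyH⟩ * (⟨t, htH⟩ : H)⁻¹ ∈ (Q : Subgroup H) :=
      (Subgroup.mem_normalizer_iff.1 htN ⟨y, hyH⟩).1 hyQ
    have h7 := (hmem _).1 (Subgroup.mem_map_of_mem H.subtype h6)
    have h8 : g * (H.subtype ((⟨t, htH⟩ : H) * ⟨y, hyH⟩ * (⟨t, htH⟩ : H)⁻¹)) * g⁻¹ = g * t * g⁻¹ * x * (g * t * g⁻¹)⁻¹ := by
      have h9 : y = g⁻¹ * x * g := hy
      show g * (t * y * t⁻¹) * g⁻¹ = _
      rw [h9]
      group
    rwa [h8] at h7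
  have h3i : 3 ∣ N.index := by
    rw [← hmul] at h3
    exact (hp3.out.dvd_mul.1 h3).resolve_left h3N
  have h25N : 25 ∣ Nat.card N := by
    rw [← hcQ]
    exact Subgroup.card_dvd_of_le Subgroup.le_normalizer
  refine num_syl (Nat.card H) N.index ?_ hd hle h3i ?_
  · rw [← hmul]
    exact Nat.mul_dvd_mul_right h25N _
  · rw [hn'] at hmod
    simpa [Nat.ModEq] using hmod

end Cfsg.Agent.H916.Der.Four
end

-- part: H916/Der/FourWA
section
/-!
# `Sp₄(4)`: auxiliary results for the row (helper916, for S3502)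
-/

set_option autoImplicit false

namespace Cfsg.Agent.H916.Der.Four

open Subgroup Cfsg Cfsg.Agent.H439.Der Cfsg.Agent.H938.Sax

/-- no elements of order 4 in `PSL₂(2ᵐ)` -/
theorem psl_no_four {F : Type*} [Field F] [CharP F 2] (x : Matrix.ProjectiveSpecialLinearGroup (Fin 2) F) :
    orderOf x ≠ 4 := by
  intro h4
  obtain ⟨A, rfl⟩ := QuotientGroup.mk_surjective x
  have h1 : A ^ 4 ∈ center (Matrix.SpecialLinearGroup (Fin 2) F) := by
    rw [← QuotientGroup.eq_one_iff, QuotientGroup.mk_pow, ← h4]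
    exact pow_orderOf_eq_one _
  have h20 : (2 : F) = 0 := CharTwo.two_eq_zero
  obtain ⟨r, hr, h2⟩ := Matrix.SpecialLinearGroup.mem_center_iff.1 h1
  have hr1 : r = 1 := by
    rw [Fintype.card_fin] at hr
    exact CharTwo.sq_injective (by simpa only [_root_.one_pow, _root_.sq_eq_one_iff] using hr)
  obtain ⟨M, hM⟩ : ∃ M : Matrix (Fin 2) (Fin 2) F, M = (A : Matrix (Fin 2) (Fin 2) F) := ⟨_, rfl⟩
  have hdet : M 0 0 * M 1 1 + M 0 1 * M 1 0 = 1 := by
    have := A.2
    rw [← hM, Matrix.det_fin_two, sub_eq_add_neg, CharTwo.neg_eq] at this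
    exact this
  have hM4 : M ^ 4 = 1 := by
    have h3 : ((A ^ 4 : Matrix.SpecialLinearGroup (Fin 2) F) : Matrix (Fin 2) (Fin 2) F) = M ^ 4 := by
      rw [Matrix.SpecialLinearGroup.coe_pow, hM]
    rw [← h3, ← h2, hr1]
    simp
  obtain ⟨t, ht⟩ : ∃ t, t = M 0 0 + M 1 1 := ⟨_, rfl⟩
  have hsq : M * M = t • M + 1 := by
    ext i j
    fin_cases i <;> fin_cases j <;> simp only [Matrix.mul_apply, Fin.sum_univ_two, ht, _root_.Fin.zero_eta, _root_.Fin.isValue, _root_.Matrix.add_apply, _root_.Matrix.smul_apply, _root_.smul_eq_mul, _root_.Matrix.one_apply_eq, _root_.Fin.mk_one, _root_.Nat.reduceAdd, _root_.ne_eq, _root_.zero_ne_one, _root_.not_false_eq_true, _root_.Matrix.one_apply_ne, _root_.add_zero, _root_.one_ne_zero]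
    · linear_combination hdet - M 0 0 * M 1 1 * h20
    · ring
    · ring
    · linear_combination hdet - M 0 0 * M 1 1 * h20
  have h5 : (t • M + 1) * (t • M + 1) = 1 := by
    rw [← hsq, ← hM4, pow_succ, pow_succ, pow_succ, pow_one]
    simp only [mul_assoc]
  have e00 := congrFun (congrFun h5 0) 0
  have e11 := congrFun (congrFun h5 1) 1
  simp only [Matrix.mul_apply, Fin.sum_univ_two, _root_.Fin.isValue, _root_.Matrix.add_apply, _root_.Matrix.smul_apply, _root_.smul_eq_mul, _root_.Matrix.one_apply_eq, _root_.ne_eq, _root_.zero_ne_one, _root_.not_false_eq_true, _root_.Matrix.one_apply_ne, _root_.add_zero, _root_.one_ne_zero] at e00 e11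
  have ht0 : t = 0 := by
    by_contra htn
    have f00 : t ^ 2 * (t * M 0 0 + 1) = 0 := by
      rw [ht] at e00 ⊢
      linear_combination e00 - (M 0 0 + M 1 1) ^ 2 * hdet - ((M 0 0 + M 1 1) * M 0 0 - (M 0 0 + M 1 1) ^ 2) * h20 +
        ((M 0 0 + M 1 1) ^ 2 * M 0 0 * M 1 1 - (M 0 0 + M 1 1) ^ 2) * h20
    have f11 : t ^ 2 * (t * M 1 1 + 1) = 0 := by
      rw [ht] at e11 ⊢
      linear_combination e11 - (M 0 0 + M 1 1) ^ 2 * hdet - ((M 0 0 + M 1 1) * M 1 1 - (M 0 0 + M 1 1) ^ 2) * h20 +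
        ((M 0 0 + M 1 1) ^ 2 * M 0 0 * M 1 1 - (M 0 0 + M 1 1) ^ 2) * h20
    have g00 := (mul_eq_zero.1 f00).resolve_left (pow_ne_zero 2 htn)
    have g11 := (mul_eq_zero.1 f11).resolve_left (pow_ne_zero 2 htn)
    have g : t * (M 0 0 + M 1 1) = 0 := by linear_combination g00 + g11 - h20
    rw [← ht] at g
    exact htn (mul_self_eq_zero.1 g)
  have h6 : A ^ 2 = 1 := by
    apply Subtype.ext
    show ((A ^ 2 : Matrix.SpecialLinearGroup (Fin 2) F) : Matrix (Fin 2) (Fin 2) F) = 1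
    rw [Matrix.SpecialLinearGroup.coe_pow, ← hM, pow_two, hsq, ht0, zero_smul, zero_add]
  have h7 : (QuotientGroup.mk A : Matrix.ProjectiveSpecialLinearGroup (Fin 2) F) ^ 2 = 1 := by
    rw [← QuotientGroup.mk_pow, h6]
    rfl
  have h8 := orderOf_dvd_of_pow_eq_one h7
  rw [h4] at h8
  norm_num at h8

/-- three classes of elements of prime order (after helper788) -/
theorem threeT_of_le {T : Type*} [Group T] [Finite T] {v n : ℕ} (hv : v.Prime) (hT : v ∣ Nat.card T)
    (h1 : ∀ y : T, orderOf y = v → Nat.card (conjPow y) ≤ n) (hn : 2 * n < v - 1) {M : Subgroup T}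
    (hM : ¬ v ∣ Nat.card M) : ThreeT T M := by
  classical
  have := Fact.mk hv
  obtain ⟨x, hx⟩ := exists_prime_orderOf_dvd_card' v hT
  have hP : Nat.card ({y | y ∈ zpowers x ∧ y ≠ 1} : Set T) = v - 1 := by
    have := Fintype.ofFinite T
    have h2 : ({y | y ∈ zpowers x ∧ y ≠ 1} : Set T) = ↑(((Finset.univ.filter fun y => y ∈ zpowers x).erase 1)) := by
      ext y
      simp only [Set.mem_ofPred_eq, Finset.coe_erase, Finset.coe_filter, Finset.mem_univ, true_and, Set.mem_sdiff,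
        Set.mem_singleton_iff]
    rw [h2, Nat.card_coe_set_eq, Set.ncard_coe_finset, Finset.card_erase_of_mem (by simp), ← hx, ← Nat.card_zpowers,
      Nat.card_eq_fintype_card, Fintype.card_subtype]
  have hord : ∀ y, y ∈ zpowers x → y ≠ 1 → orderOf y = v := by
    intro y hy hy1
    have h2 : orderOf y ∣ v := by rw [← hx]; exact orderOf_dvd_of_mem_zpowers hy
    rcases (Nat.dvd_prime hv).1 h2 with h3 | h3
    · exact absurd (orderOf_eq_one_iff.1 h3) hy1
    · exact h3
  have hzp : ∀ y, y ∈ zpowers x → y ≠ 1 → zpowers y = zpowers x := by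
    intro y hy hy1
    refine Subgroup.eq_of_le_of_card_ge (zpowers_le.2 hy) ?_
    rw [Nat.card_zpowers, Nat.card_zpowers, hx, hord y hy hy1]
  have key : ∀ y : T, orderOf y = v → ∃ z, z ∈ ({y | y ∈ zpowers x ∧ y ≠ 1} : Set T) ∧ z ∉ conjPow x ∧ z ∉ conjPow y := by
    intro y hy
    by_contra hcon
    push Not at hcon
    have h2 : ({y | y ∈ zpowers x ∧ y ≠ 1} : Set T) ⊆ conjPow x ∪ conjPow y := by
      intro z hz
      by_cases h3 : z ∈ conjPow x
      · exact Or.inl h3
      · exact Or.inr (hcon z hz h3)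
    have h3 := Nat.card_mono (Set.toFinite (conjPow x ∪ conjPow y)) h2
    have h4 := Set.ncard_union_le (conjPow x) (conjPow y)
    rw [← Nat.card_coe_set_eq, ← Nat.card_coe_set_eq (conjPow x), ← Nat.card_coe_set_eq (conjPow y)] at h4
    have h5 := h1 x hx
    have h6 := h1 y hy
    rw [hP] at h3
    omega
  obtain ⟨y, ⟨hy, hy1⟩, hyx, -⟩ := key x hx
  obtain ⟨z, ⟨hz, hz1⟩, hzx, hzy⟩ := key y (hord y hy hy1)
  refine ⟨x, y, z, fun g => ?_, fun g => ?_, fun g => ?_, fun g hg => hyx ⟨hy, g, hg⟩, fun g hg => hzx ⟨hz, g, hg⟩,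
    fun g hg => hzy ⟨by rw [hzp y hy hy1]; exact hz, g, hg⟩⟩
  · exact not_mem_of_dvd hM (by rw [hx]) (MulAut.conj g)
  · exact not_mem_of_dvd hM (by rw [hord y hy hy1]) (MulAut.conj g)
  · exact not_mem_of_dvd hM (by rw [hord z hz hz1]) (MulAut.conj g)

/-- a group of order 4080 with the given local data is simple -/
theorem iso_of_4080 {H : Type} [Group H] [Finite H] (h : Nat.card H = 4080)
    (hC : ∀ P : Subgroup H, Nat.card P = 17 → Nat.card (centralizer (P : Set H)) ∣ 17 ∧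
      Nat.card (normalizer (P : Set H)) ∣ 68)
    (tbl : ∀ (K : Type) [Group K] [Finite K], IsSimpleGroup K → (¬ ∀ x y : K, x * y = y * x) →
      Nat.card K ∣ 979200 → Nat.card K ∈ [60, 360, 4080, 2448, 979200]) :
    ∃ (K : Type) (_ : Group K) (_ : Finite K), IsSimpleGroup K ∧ (¬ ∀ x y : K, x * y = y * x) ∧
      Nat.card K = 4080 ∧ Nonempty (H ≃* K) := by
  have hp : Fact (Nat.Prime 17) := ⟨by norm_num⟩
  obtain ⟨x, hx⟩ := exists_prime_orderOf_dvd_card' (G := H) 17 (by rw [h]; norm_num)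
  have hP : Nat.card (zpowers x) = 17 := by rw [Nat.card_zpowers, hx]
  obtain ⟨hc, hn⟩ := hC _ hP
  obtain ⟨a, s, c, m, D, h1, h2, h3, h4, h5, h6⟩ := Cfsg.Agent.H970.StabK.exists_struct hP (by rw [h]; norm_num)
  rw [h] at h1
  rw [h3] at hn
  have hcDm : c * D * m ∣ 4 := by
    have e : c * D * (17 * m) = 17 * (c * D * m) := by ring
    rw [e, show (68 : ℕ) = 17 * 4 by norm_num] at hn
    exact Nat.dvd_of_mul_dvd_mul_left (by norm_num) hn
  rcases h6 with ⟨rfl, rfl⟩ | ⟨K, _, _, hK, hna, hKs, h17, -, -, -, hiso⟩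
  · exfalso
    have hac : a * c = 240 := by
      have : 17 * (a * c) = 17 * 240 := by
        rw [show a * 17 * c = 17 * (a * c) by ring] at h1
        omega
      exact Nat.eq_of_mul_eq_mul_left (by norm_num) this
    have hD4 : D ∣ 4 := (Dvd.intro_left c rfl).trans ((Dvd.intro _ rfl).trans hcDm)
    have hD : D = 1 := by
      have h7 : D ∣ 17 := h4.trans hc
      have := Nat.dvd_gcd hD4 h7
      norm_num at this
      exact this
    obtain ⟨j, hj, h7⟩ := h5 3 (by norm_num)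
    have hj0 : j = 0 := by
      rw [hD] at hj
      by_contra hj0
      have h8 := (dvd_pow_self 3 hj0).trans hj
      norm_num at h8
    rw [hj0, pow_zero] at h7
    have ha0 : a ≠ 0 := by
      rintro rfl
      norm_num at hac
    have ha2 : ¬ 2 ≤ a.factorization 3 := fun h8 => by
      have h9 := ((Nat.Prime.pow_dvd_iff_le_factorization (by norm_num) ha0).2 h8).trans (Dvd.intro c hac)
      norm_num at h9
    have ha1 : a.factorization 3 ≠ 1 := fun h8 => by
      rw [h8] at h7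
      exact absurd h7 (by decide)
    have ha3 : ¬ 3 ∣ a := fun h8 => by
      have := (Nat.Prime.dvd_iff_one_le_factorization (by norm_num) ha0).1 h8
      omega
    have h8 : 3 ∣ a * c := by rw [hac]; norm_num
    have h9 : 3 ∣ c := ((Nat.Prime.dvd_mul (by norm_num)).1 h8).resolve_left ha3
    have h10 : 3 ∣ 4 := h9.trans (((Dvd.intro _ rfl : c ∣ c * D)).trans ((Dvd.intro _ rfl).trans hcDm))
    norm_num at h10
  · have hsd : s ∣ 4080 := by rw [h1]; exact ⟨a * c, by ring⟩
    have h7 := tbl K hK hna (by rw [hKs]; exact hsd.trans (by norm_num))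
    rw [hKs] at h7
    have hs : s = 4080 := by
      simp only [List.mem_cons, List.not_mem_nil, or_false] at h7
      rcases h7 with rfl | rfl | rfl | rfl | rfl
      · norm_num at h17
      · norm_num at h17
      · rfl
      · norm_num at hsd
      · norm_num at hsd
    have hac : a * c = 1 := by
      have : 4080 * (a * c) = 4080 * 1 := by
        rw [hs, show a * 4080 * c = 4080 * (a * c) by ring] at h1
        omega
      exact Nat.eq_of_mul_eq_mul_left (by norm_num) this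
    exact ⟨K, inferInstance, inferInstance, hK, hna, by rw [hKs, hs],
      hiso (Nat.eq_one_of_mul_eq_one_right hac) (Nat.eq_one_of_mul_eq_one_left hac)⟩

set_option maxRecDepth 100000 in
open Cfsg.Agent.OrdDiv in
theorem no_four_simple (OT : OrderTable.{0}) {K : Type} [Group K] [Finite K] (hK : IsKnownSimple' K)
    (hna : ¬ ∀ a b : K, a * b = b * a) (hc : Nat.card K = 4080) (x : K) : orderOf x ≠ 4 := by
  obtain ⟨g, hg, hreal, hcard⟩ := exists_good OT hK hna (l := [(2, 8), (3, 2), (5, 2), (17, 1)]) (N := 979200)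
    (by decide +kernel) (by rw [hc]; norm_num)
  have hj : (cands [(2, 8), (3, 2), (5, 2), (17, 1)] 979200).all (fun g => match g with
      | .psl n q => !(Nat.beq (ordN g) 4080) || (Nat.beq n 2 && Nat.beq q 16)
      | _ => !(Nat.beq (ordN g) 4080)) = true := by decide +kernel
  rw [List.all_eq_true] at hj
  have hj' := hj g hg
  have h70 : Nat.beq (ordN g) 4080 = true := by
    rw [Nat.beq_eq, ← hcard, hc]
  cases g with
  | psl n q =>
    simp only [h70, Bool.not_true, Bool.false_or, Bool.and_eq_true, Nat.beq_eq] at hj'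
    obtain ⟨rfl, rfl⟩ := hj'
    obtain ⟨F, _, _, hF, ⟨e⟩⟩ := hreal
    have hch : CharP F 2 := by
      obtain ⟨p, hp⟩ := CharP.exists F
      obtain ⟨n, hpp, h1⟩ := FiniteField.card F p
      have h2 : p ∣ 2 ^ 4 := by
        rw [show (2 : ℕ) ^ 4 = 16 by norm_num, ← hF, h1]
        exact dvd_pow_self p n.ne_zero
      have h3 := (Nat.prime_dvd_prime_iff_eq hpp Nat.prime_two).1 (hpp.dvd_of_dvd_pow h2)
      rwa [h3] at hp
    intro h4
    exact psl_no_four (e x) (by rw [MulEquiv.orderOf_eq, h4])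
  | _ => simp [h70] at hj'

end Cfsg.Agent.H916.Der.Four
end

private theorem dce_4bdad7da7593 : _root_.True := by
  try have : _root_.True := by simp only [_root_.Cfsg.Agent.H916.Der.Four.K.eq_1]
  try have : _root_.True := by simp only [_root_.Cfsg.Agent.H916.Der.Four.L.eq_1]
  try have : _root_.True := by simp only [_root_.Cfsg.Agent.H916.Der.Four.U.eq_1]
  try have : _root_.True := by simp only [_root_.Cfsg.Agent.H916.Der.Four.bl.eq_1]
  try have : _root_.True := by simp only [_root_.Cfsg.Agent.H916.Der.Four.dg.eq_1]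
  exact _root_.True.intro
end

-- part: H188/Der/Str
section
set_option linter.all false
open scoped Cfsg.Agent.FastGrp

/-!
# Groups whose Sylow `p`-subgroups have order `p`: the nonabelian chief factor (helper188, S3502)

* `layer` : the minimal normal subgroup of a group with trivial `O_{p'}`
* `exists_factor` : `K = O_{p'}(R)`, the simple socle of `R / K`, if some prime `r` is not joined to `p`
* `exists_cent` : elements of order `p` centralizing a given element of prime order `t` of `K`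
-/

set_option autoImplicit false

namespace Cfsg.Agent.H188.Der

open Cfsg Subgroup

theorem eqConj_of_sq {G : Type*} [Group G] [Finite G] {p : ℕ} (hp : p.Prime) (hpp : ¬ p ^ 2 ∣ Nat.card G) :
    Cfsg.Agent.H501.EqConj p G := by
  intro H K hH hK hc
  have hf : Fact p.Prime := ⟨hp⟩
  obtain ⟨n, hn⟩ := IsPGroup.iff_card.1 hH
  have hn2 : n < 2 := by
    by_contra h
    apply hpp
    refine (pow_dvd_pow p (not_lt.1 h)).trans ?_
    rw [← hn]
    exact card_subgroup_dvd_card _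
  interval_cases n
  · rw [pow_zero] at hn
    have h1 := Subgroup.eq_bot_of_card_eq H hn
    have h2 := Subgroup.eq_bot_of_card_eq K (hc.symm.trans hn)
    exact ⟨1, by rw [h1, h2, Subgroup.map_bot]⟩
  · rw [pow_one] at hn
    obtain ⟨g, hg⟩ := Cfsg.Agent.H843.Syl.exists_conj hp hpp H K hn (hc.symm.trans hn)
    exact ⟨g, hg.symm⟩

theorem layer {G : Type*} [Group G] [Finite G] {p : ℕ} (hp : p.Prime) (hpG : p ∣ Nat.card G)
    (hpp : ¬ p ^ 2 ∣ Nat.card G) (hc : pPrimeCore p G = ⊥) :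
    ∃ L : Subgroup G, L.Normal ∧ p ∣ Nat.card L ∧
      (Nat.card L = p ∨ (IsSimpleGroup L ∧ ¬ IsMulCommutative L ∧ centralizer (L : Set G) = ⊥)) := by
  have hf : Fact p.Prime := ⟨hp⟩
  have hdvd : ∀ K : Subgroup G, K.Normal → K ≠ ⊥ → p ∣ Nat.card K := by
    intro K hK hK1
    by_contra h
    apply hK1
    rw [eq_bot_iff, ← hc]
    exact Lib.Cores.le_pPrimeCore hK ((Nat.Prime.coprime_iff_not_dvd hp).2 h).symm
  have htop : (⊤ : Subgroup G) ≠ ⊥ := by
    intro h
    have h1 : Nat.card (⊤ : Subgroup G) = 1 := by rw [h, Subgroup.card_bot]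
    rw [Subgroup.card_top] at h1
    rw [h1] at hpG
    exact hp.one_lt.ne' (Nat.dvd_one.1 hpG)
  obtain ⟨L, hLn, hL1, -, hLmin⟩ := Cfsg.Agent.H500.exists_minimal_normal (⊤ : Subgroup G) inferInstance htop
  have hpL : p ∣ Nat.card L := hdvd L hLn hL1
  refine ⟨L, hLn, hpL, ?_⟩
  have hppL : ¬ p ^ 2 ∣ Nat.card L := fun h => hpp (h.trans (card_subgroup_dvd_card L))
  by_cases hab : ∀ y ∈ L, ∀ z ∈ L, Commute y z
  · left
    obtain ⟨q, hq, hqg, -⟩ := Lib.MinNormalNonabelian.abelian_structure L hL1 hLmin hab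
    have hqf : Fact q.Prime := ⟨hq⟩
    obtain ⟨n, hn⟩ := IsPGroup.iff_card.mp hqg
    have hqp : q = p := by
      rw [hn] at hpL
      exact ((Nat.prime_dvd_prime_iff_eq hp hq).mp (hp.dvd_of_dvd_pow hpL)).symm
    subst hqp
    have hn1 : n = 1 := by
      have hn0 : n ≠ 0 := by
        rintro rfl
        rw [hn, pow_zero] at hpL
        exact hq.one_lt.ne' (Nat.dvd_one.mp hpL)
      by_contra hne
      exact hppL (by rw [hn]; exact pow_dvd_pow q (by omega))
    rw [hn, hn1, pow_one]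
  · right
    have hs : IsSimpleGroup L :=
      Cfsg.Agent.H500.isSimpleGroup_of_minimal (eqConj_of_sq hp hpp) L hLmin hab hpL
    refine ⟨hs, ?_, ?_⟩
    · intro hcomm
      apply hab
      intro y hy z hz
      exact congrArg Subtype.val (hcomm.is_comm.comm ⟨y, hy⟩ ⟨z, hz⟩)
    · by_contra hne
      have hCn : (centralizer (L : Set G)).Normal := inferInstance
      have h1 := hdvd _ hCn hne
      -- the centre of `L` is trivial
      have hdis : L ⊓ centralizer (L : Set G) = ⊥ := by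
        rcases hLmin _ (inferInstance : (L ⊓ centralizer (L : Set G)).Normal) inf_le_left with h2 | h2
        · exact h2
        · exfalso
          apply hab
          intro y hy z hz
          have h3 : z ∈ L ⊓ centralizer (L : Set G) := by rw [h2]; exact hz
          exact mem_centralizer_iff.1 h3.2 y hy
      apply hpp
      have h2 : Nat.card L * Nat.card (centralizer (L : Set G)) ∣ Nat.card G := by
        have h3 : Nat.card (L ⊔ centralizer (L : Set G) : Subgroup G) = Nat.card L * Nat.card (centralizer (L : Set G)) := by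
          have h4 := Subgroup.card_mul_index (L.subgroupOf (L ⊔ centralizer (L : Set G)))
          rw [Nat.card_congr (Subgroup.subgroupOfEquivOfLe (le_sup_left : L ≤ L ⊔ centralizer (L : Set G))).toEquiv] at h4
          rw [← h4]
          congr 1
          show L.relIndex (L ⊔ centralizer (L : Set G)) = _
          rw [Subgroup.relIndex_sup_left, ← Subgroup.inf_relIndex_right, hdis, Subgroup.relIndex_bot_left]
        rw [← h3]
        exact card_subgroup_dvd_card _
      rw [pow_two]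
      exact (Nat.mul_dvd_mul hpL h1).trans h2

/-- **Frattini.** An element of order `p` centralizing a given `t`-element of a normal `p'`-subgroup -/
theorem exists_cent {R : Type*} [Group R] [Finite R] {p t N : ℕ} (hp : p.Prime) (ht : t.Prime)
    (hpR : p ∣ Nat.card R) {K : Subgroup R} (hK : K.Normal) (hpK : ¬ p ∣ Nat.card K) (hN : ¬ t ^ (N + 1) ∣ Nat.card K)
    (hnum : ∀ k ≤ N, ∀ j ≤ k, t ^ k ≡ t ^ j [MOD p] → j = k) {y : R} (hyK : y ∈ K) {n : ℕ} (hy : y ^ t ^ n = 1) :
    ∃ s : R, orderOf s = p ∧ Commute s y := by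
  have hpf : Fact p.Prime := ⟨hp⟩
  have htf : Fact t.Prime := ⟨ht⟩
  have hz : IsPGroup t (zpowers (⟨y, hyK⟩ : K)) := by
    rintro ⟨x, hx⟩
    obtain ⟨m, rfl⟩ := mem_zpowers_iff.1 hx
    refine ⟨n, Subtype.ext ?_⟩
    have h1 : (⟨y, hyK⟩ : K) ^ t ^ n = 1 := Subtype.ext hy
    show ((⟨y, hyK⟩ : K) ^ m) ^ t ^ n = 1
    rw [← zpow_natCast, ← zpow_mul, mul_comm, zpow_mul, zpow_natCast, h1, one_zpow]
  obtain ⟨Q, hQ⟩ := hz.exists_le_sylow
  have hfr := Sylow.normalizer_sup_eq_top Q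
  set Q' : Subgroup R := (Q : Subgroup K).map K.subtype with hQ'
  have hyQ : y ∈ Q' := ⟨⟨y, hyK⟩, hQ (mem_zpowers _), rfl⟩
  -- `p` divides the order of the normalizer
  have h1 : p ∣ Nat.card (normalizer (Q' : Set R)) := by
    have h2 : Nat.card (normalizer (Q' : Set R) ⊔ K : Subgroup R) ∣ Nat.card K * Nat.card (normalizer (Q' : Set R)) := by
      rw [sup_comm]
      exact Lib.Cores.card_sup_dvd K _ hK
    rw [hfr, Subgroup.card_top] at h2
    exact ((Nat.Prime.dvd_mul hp).1 (hpR.trans h2)).resolve_left hpK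
  obtain ⟨s, hs⟩ := exists_prime_orderOf_dvd_card' p h1
  refine ⟨s, by rw [Subgroup.orderOf_coe, hs], ?_⟩
  obtain ⟨k, hk⟩ := IsPGroup.iff_card.1 (Q.2.map K.subtype)
  have hkN : k ≤ N := by
    by_contra hlt
    apply hN
    refine (pow_dvd_pow t (show N + 1 ≤ k by omega)).trans ?_
    rw [← hk, Subgroup.card_map_of_injective (Subgroup.subtype_injective _)]
    exact card_subgroup_dvd_card _
  have h3 := card_modEq_fix (r := p) (y := (s : R)) (by rw [← hs, ← Subgroup.orderOf_coe, pow_orderOf_eq_one]) Q'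
    (fun x hx => (Subgroup.mem_normalizer_iff.1 s.2 x).1 hx)
  obtain ⟨j, hjk, hj⟩ : ∃ j ≤ k, Nat.card (Q' ⊓ centralizer ({(s : R)} : Set R) : Subgroup R) = t ^ j := by
    have h4 : Nat.card (Q' ⊓ centralizer ({(s : R)} : Set R) : Subgroup R) ∣ t ^ k := by
      rw [← hk]
      exact Subgroup.card_dvd_of_le inf_le_left
    exact (Nat.dvd_prime_pow ht).1 h4
  have hk' : Nat.card Q' = t ^ k := hk
  rw [hk', hj] at h3
  have h5 := hnum k hkN j hjk h3
  have h6 : Q' ⊓ centralizer ({(s : R)} : Set R) = Q' := by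
    refine Subgroup.eq_of_le_of_card_ge inf_le_left ?_
    rw [hj, hk', h5]
  have h7 : y ∈ Q' ⊓ centralizer ({(s : R)} : Set R) := by rw [h6]; exact hyQ
  have h8 := mem_centralizer_singleton_iff.1 h7.2
  exact h8.symm

/-- a prime `r` not joined to `p` does not divide `|O_{p'}|` -/
theorem not_dvd_core {R : Type*} [Group R] [Finite R] {p r : ℕ} (hp : p.Prime) (hr : r.Prime) (hpr : p ≠ r)
    (hpR : p ∣ Nat.card R) (hr2 : ¬ r ^ 2 ∣ Nat.card R) (hpr1 : ¬ p ∣ r - 1) (hno : ∀ x : R, orderOf x ≠ p * r)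
    {K : Subgroup R} (hK : K.Normal) (hpK : ¬ p ∣ Nat.card K) : ¬ r ∣ Nat.card K := by
  intro hrK
  have hrf : Fact r.Prime := ⟨hr⟩
  obtain ⟨y, hy⟩ := exists_prime_orderOf_dvd_card' r hrK
  obtain ⟨s, hs, hc⟩ := exists_cent (N := 1) hp hr hpR hK hpK
    (fun h => hr2 (h.trans (card_subgroup_dvd_card K))) (by
      intro k hk j hj h
      have h1 : k = 0 ∨ k = 1 := by omega
      rcases h1 with rfl | rfl
      · omega
      · by_contra hne
        have hj0 : j = 0 := by omega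
        subst hj0
        rw [pow_one, pow_zero] at h
        exact hpr1 ((Nat.modEq_iff_dvd' hr.one_lt.le).1 h.symm)) y.2 (n := 1) (by
      rw [pow_one, ← hy, ← Subgroup.orderOf_coe, pow_orderOf_eq_one])
  apply hno (s * y)
  rw [hc.orderOf_mul_eq_mul_orderOf_of_coprime, hs, Subgroup.orderOf_coe, hy]
  rw [hs, Subgroup.orderOf_coe, hy]
  exact (Nat.coprime_primes hp hr).2 hpr

theorem not_sq_quot {R : Type*} [Group R] [Finite R] {p : ℕ} {K : Subgroup R} [K.Normal]
    (h : ¬ p ^ 2 ∣ Nat.card R) : ¬ p ^ 2 ∣ Nat.card (R ⧸ K) := fun h1 =>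
  h (h1.trans (by rw [Subgroup.card_eq_card_quotient_mul_card_subgroup K]; exact dvd_mul_right _ _))

/-- **The nonabelian factor.** -/
theorem exists_factor {R : Type*} [Group R] [Finite R] {p r : ℕ} (hp : p.Prime) (hr : r.Prime) (hpr : p ≠ r)
    (hpR : p ∣ Nat.card R) (hp2 : ¬ p ^ 2 ∣ Nat.card R) (hrR : r ∣ Nat.card R) (hr2 : ¬ r ^ 2 ∣ Nat.card R)
    (hpr1 : ¬ p ∣ r - 1) (hrp1 : ¬ r ∣ p - 1) (hno : ∀ x : R, orderOf x ≠ p * r) :
    ∃ (K : Subgroup R) (_ : K.Normal), ¬ p ∣ Nat.card K ∧ ¬ r ∣ Nat.card K ∧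
      ∃ L : Subgroup (R ⧸ K), L.Normal ∧ p ∣ Nat.card L ∧ IsSimpleGroup L ∧ ¬ IsMulCommutative L ∧
        centralizer (L : Set (R ⧸ K)) = ⊥ := by
  have hpf : Fact p.Prime := ⟨hp⟩
  have hrf : Fact r.Prime := ⟨hr⟩
  have hK : (pPrimeCore p R).Normal := Lib.Cores.pPrimeCore_normal p
  have hpK : ¬ p ∣ Nat.card (pPrimeCore p R) := (Nat.Prime.coprime_iff_not_dvd hp).1 (Lib.Cores.pPrimeCore_coprime p).symm
  have hrK := not_dvd_core hp hr hpr hpR hr2 hpr1 hno hK hpK
  have hcard := Subgroup.card_eq_card_quotient_mul_card_subgroup (pPrimeCore p R)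
  have hpQ : p ∣ Nat.card (R ⧸ pPrimeCore p R) := by
    rw [hcard] at hpR
    exact ((Nat.Prime.dvd_mul hp).1 hpR).resolve_right hpK
  have hrQ : r ∣ Nat.card (R ⧸ pPrimeCore p R) := by
    rw [hcard] at hrR
    exact ((Nat.Prime.dvd_mul hr).1 hrR).resolve_right hrK
  obtain ⟨L, hLn, hpL, hL⟩ := layer hp hpQ (not_sq_quot hp2) (Lib.Cores.pPrimeCore_quotient_pPrimeCore p)
  refine ⟨pPrimeCore p R, hK, hpK, hrK, L, hLn, hpL, ?_⟩
  rcases hL with hL | hL
  · exfalso
    -- `R / C(L)` embeds in the automorphism group of a group of order `p`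
    have hdiv : Nat.card (R ⧸ pPrimeCore p R) ∣ Nat.card (centralizer (L : Set (R ⧸ pPrimeCore p R))) * (p - 1) := by
      have hcyc : IsCyclic L := isCyclic_of_prime_card hL
      set f : (R ⧸ pPrimeCore p R) →* MulAut L := MulAut.conjNormal with hf
      have hker : f.ker = centralizer (L : Set (R ⧸ pPrimeCore p R)) := by
        ext g
        rw [MonoidHom.mem_ker, mem_centralizer_iff]
        constructor
        · intro h l hl
          have h2 : (f g ⟨l, hl⟩ : R ⧸ pPrimeCore p R) = l := by rw [h]; rfl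
          rw [hf, MulAut.conjNormal_apply] at h2
          calc l * g = (g * l * g⁻¹) * g := by rw [h2]
            _ = g * l := by group
        · intro h
          apply MulEquiv.ext
          intro l
          apply Subtype.ext
          rw [hf, MulAut.conjNormal_apply]
          show g * (l : R ⧸ pPrimeCore p R) * g⁻¹ = l
          rw [← h l l.2, mul_inv_cancel_right]
      have h1 := f.ker.card_mul_index
      rw [Subgroup.index_ker, hker] at h1
      rw [← h1]
      refine Nat.mul_dvd_mul_left _ ?_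
      have h2 : Nat.card f.range ∣ Nat.card (MulAut L) := Subgroup.card_subgroup_dvd_card _
      rwa [IsCyclic.card_mulAut, hL, Nat.totient_prime hp] at h2
    have hrC : r ∣ Nat.card (centralizer (L : Set (R ⧸ pPrimeCore p R))) :=
      ((Nat.Prime.dvd_mul hr).1 (hrQ.trans hdiv)).resolve_right hrp1
    obtain ⟨y, hy⟩ := exists_prime_orderOf_dvd_card' r hrC
    obtain ⟨x, hx⟩ := exists_prime_orderOf_dvd_card' (G := L) p (by rw [hL])
    have hc : Commute (x : R ⧸ pPrimeCore p R) y := mem_centralizer_iff.1 y.2 x x.2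
    have ho : orderOf ((x : R ⧸ pPrimeCore p R) * y) = p * r := by
      rw [hc.orderOf_mul_eq_mul_orderOf_of_coprime, Subgroup.orderOf_coe, hx, Subgroup.orderOf_coe, hy]
      rw [Subgroup.orderOf_coe, hx, Subgroup.orderOf_coe, hy]
      exact (Nat.coprime_primes hp hr).2 hpr
    obtain ⟨g, hg⟩ := QuotientGroup.mk'_surjective (pPrimeCore p R) ((x : R ⧸ pPrimeCore p R) * y)
    rw [← hg] at ho
    have h1 : p * r ∣ orderOf g := by
      rw [← ho]
      exact orderOf_map_dvd _ g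
    exact hno _ (orderOf_pow_orderOf_div (orderOf_pos g).ne' h1)
  · exact hL

end Cfsg.Agent.H188.Der
end

-- part: H221/Der/CosSFour
section
set_option linter.all false
open scoped Cfsg.Agent.FastGrp

/-!
# `Cos (PSp₄(4))`: every outer coset contains elements of two different orders
-/

set_option autoImplicit false

namespace Cfsg.Agent.H221.Der.CosSFour

open Subgroup Cfsg Cfsg.Agent Matrix
open Cfsg.Agent.ClassicalGeometry.SympBasic Cfsg.Agent.ClassicalGeometry.SympAutSemi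
open Cfsg.Agent.ClassicalGeometry.SympGamma
open Cfsg.Agent.H374.P4.SemiSp Cfsg.Agent.H374.P4.OutSp
open Cfsg.Agent.ClassicalGeometry.Sp4GraphAut Cfsg.Agent.ClassicalGeometry.Sp4Graph

variable {F : Type} [Field F] [Fintype F]

local notation "Sp" => Matrix.symplecticGroup (Fin 2) F

/-- every automorphism is an inner one times a power of `gamma` -/
theorem exists_rep [CharP F 2] (ht : ∃ t : F, t ≠ 0 ∧ t ≠ 1) (α : MulAut (PSp 2 F)) :
    ∃ (a : PSp 2 F) (k : ℕ), α = MulAut.conj a * gamma F ^ k := by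
  classical
  have hidx2 : (Psi 2 F).range.index = 2 := by
    refine ClassicalGeometry.SympAutTwo.index_two ht ?_
    intro α hα
    obtain ⟨g, hg⟩ := ClassicalGeometry.SympAutExists.exists_semi le_rfl α hα
    exact ⟨g, hg⟩
  have hsq : ∀ l : F, l ≠ 0 → ∃ s : Fˣ, l = (s : F) ^ 2 := by
    intro l hl
    obtain ⟨s, hs⟩ := FiniteField.isSquare_of_char_two (ringChar.eq F 2) l
    have hs0 : s ≠ 0 := by
      rintro rfl
      rw [mul_zero] at hs
      exact hl hs
    exact ⟨Units.mk0 s hs0, by rw [hs, Units.val_mk0, pow_two]⟩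
  have hrep : ∀ α ∈ (Psi 2 F).range, ∃ (a : PSp 2 F) (k : ℕ), α = MulAut.conj a * gamma F ^ k := by
    rintro _ ⟨g, rfl⟩
    obtain ⟨φ, l, hl, hsem⟩ := id g.2
    obtain ⟨s, hs⟩ := hsq l hl
    rw [hs] at hsem
    obtain ⟨A, hA⟩ := exists_inner hsem
    obtain ⟨k, hk⟩ := exists_gamma_pow φ
    exact ⟨pr A, 2 * k, by rw [hA, hk]⟩
  by_cases hα : α ∈ (Psi 2 F).range
  · exact hrep α hα
  · have h1 : α * (gamma F)⁻¹ ∈ (Psi 2 F).range := by
      rw [Subgroup.mul_mem_iff_of_index_two hidx2, inv_mem_iff]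
      exact iff_of_false hα gamma_not_mem
    obtain ⟨a, k, hk⟩ := hrep _ h1
    exact ⟨a, k + 1, by rw [pow_succ, ← mul_assoc, ← hk, inv_mul_cancel_right]⟩

/-- the entries of an element of order `5` of `Sz(2)` -/
def c0 (R : Type*) [Zero R] [One R] : I4 → I4 → R
  | .inl _, .inl _ => 0
  | .inl i, .inr j => if i = j then 1 else 0
  | .inr i, .inl j => if i = j then 1 else 0
  | .inr i, .inr j => if i = 0 then 1 else if j = 0 then 1 else 0

/-- the matrix -/
def cM (R : Type*) [Zero R] [One R] : Matrix I4 I4 R := Matrix.of (c0 R)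

omit [Fintype F] in
theorem cM_mem [CharP F 2] : cM F ∈ Matrix.symplecticGroup (Fin 2) F := by
  have hadd : ∀ z : F, z + z = 0 := CharTwo.add_self_eq_zero
  apply mem_of_row_rel
  intro i j
  rcases i with i | i <;> rcases j with j | j <;> (revert i j; simp only [cM, c0, hadd, _root_.Fin.forall_fin_succ, Fin.isValue, _root_.Matrix.of_apply, ↓reduceIte, _root_.ite_self, _root_.mul_one, _root_.mul_ite, _root_.MulZeroClass.mul_zero, _root_.zero_add, _root_.one_ne_zero, _root_.add_zero, _root_.Sum.swap_inr, _root_.Sum.inl.injEq, _root_.zero_ne_one, _root_.Fin.succ_ne_zero, _root_.Fin.succ_zero_eq_one, _root_.IsEmpty.forall_iff, _root_.and_self, _root_.implies_true, _root_.Sum.swap_inl, _root_.Sum.inr.injEq, reduceCtorEq, _root_.and_true])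

omit [Fintype F] in
theorem mn_cM [CharP F 2] : mn (cM F) = cM F := by
  have hadd : ∀ z : F, z + z = 0 := CharTwo.add_self_eq_zero
  ext i j
  rw [mn_apply]
  rcases i with i | i <;> rcases j with j | j <;> (revert i j; simp only [cM, c0, pa, pb, hadd, _root_.Fin.forall_fin_succ, Fin.isValue, _root_.Matrix.of_apply, _root_.MulZeroClass.zero_mul, _root_.zero_add, _root_.mul_eq_zero, ↓reduceIte, _root_.true_or, _root_.Fin.succ_ne_zero, _root_.zero_ne_one, _root_.implies_true, _root_.and_self, _root_.one_mul, _root_.add_zero, _root_.Fin.succ_zero_eq_one, _root_.IsEmpty.forall_iff, _root_.and_true, _root_.one_ne_zero, _root_.left_eq_ite_iff, _root_.imp_false, _root_.Decidable.not_not, _root_.true_and, _root_.ite_self, _root_.forall_const])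

/-- the element of `Sp₄` -/
def c1 (F : Type) [Field F] [CharP F 2] : Matrix.symplecticGroup (Fin 2) F := ⟨cM F, cM_mem⟩

omit [Fintype F] in
theorem c1_pow [CharP F 2] : c1 F ^ 4 ≠ 1 := by
  intro h
  have hadd : ∀ z : F, z + z = 0 := CharTwo.add_self_eq_zero
  have h1 : (c1 F : Matrix I4 I4 F) * c1 F * (c1 F * c1 F) = 1 := by
    have : c1 F * c1 F * (c1 F * c1 F) = 1 := by rw [← h, ← pow_two, ← pow_two, ← pow_mul]
    exact congrArg Subtype.val this
  have h2 := congrFun (congrFun h1 (.inl 0)) (.inl 1)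
  rw [mul_eq] at h2
  simp only [mul_eq] at h2
  simp only [c1, cM, c0, hadd, _root_.Cfsg.Agent.H221.Der.CosSFour.c1, _root_.Cfsg.Agent.H221.Der.CosSFour.cM, _root_.Fin.isValue, _root_.Matrix.of_apply, _root_.Cfsg.Agent.H221.Der.CosSFour.c0, _root_.MulZeroClass.mul_zero, ↓ _root_.reduceIte, _root_.mul_one, _root_.zero_add, _root_.zero_ne_one, _root_.one_ne_zero, _root_.add_zero, _root_.ne_eq, _root_.Sum.inl.injEq, _root_.not_false_eq_true, _root_.Matrix.one_apply_ne] at h2

/-- **Main theorem.** -/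
theorem cos_s44 (hF : Fintype.card F = 4) : Cfsg.Agent.H439.Der.Cos (Cfsg.PSp 2 F) := by
  classical
  have hch : CharP F 2 := by
    refine Cfsg.Agent.H374.P4.charP_of_card (n := 2) Nat.prime_two (by rw [hF]; norm_num)
  have ht : ∃ t : F, t ≠ 0 ∧ t ≠ 1 := by
    by_contra hcon
    push Not at hcon
    have h3 : Fintype.card F ≤ 2 := by
      have : (Finset.univ : Finset F) ⊆ {0, 1} := by
        intro t _
        by_cases h0 : t = 0
        · simp only [h0, _root_.Finset.mem_insert, _root_.Finset.mem_singleton, _root_.zero_ne_one, _root_.or_false]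
        · simp only [hcon t h0, _root_.Finset.mem_insert, _root_.one_ne_zero, _root_.Finset.mem_singleton, _root_.or_true]
      exact (Finset.card_le_card this).trans (Finset.card_le_two)
    omega
  have hg4 : gamma F ^ 4 = 1 := by
    have h1 : gamma F ^ 4 = fr ((frobeniusEquiv F 2) ^ 2) := by
      rw [map_pow, ← gamma_sq, ← pow_two, ← pow_mul]
    rw [h1]
    have h2 : (frobeniusEquiv F 2) ^ 2 = 1 := by
      apply RingEquiv.ext
      intro x
      rw [frob_pow]
      have := FiniteField.pow_card x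
      rw [hF] at this
      exact this
    rw [h2, map_one]
  have hfix : gamma F (QuotientGroup.mk (c1 F)) = QuotientGroup.mk (c1 F) := by
    rw [gamma_mk]
    congr 1
    exact Subtype.ext mn_cM
  have hc4 : (QuotientGroup.mk (c1 F) : PSp 2 F) ^ 4 ≠ 1 := by
    intro h
    rw [← QuotientGroup.mk_pow] at h
    exact c1_pow (mk_injective (by norm_num) (h.trans (QuotientGroup.mk_one _).symm))
  intro φ hφ
  by_contra hcon
  push Not at hcon
  obtain ⟨a, k, rfl⟩ := exists_rep ht φ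
  have h1 := hcon a⁻¹
  have h2 := hcon (QuotientGroup.mk (c1 F) * a⁻¹)
  rw [← mul_assoc, ← map_mul, inv_mul_cancel, map_one, one_mul] at h1
  rw [← mul_assoc, ← map_mul, inv_mul_cancel_right, ← h1] at h2
  have h3 : orderOf (gamma F ^ k) ∣ 4 := by
    rw [orderOf_dvd_iff_pow_eq_one, ← pow_mul, mul_comm, pow_mul, hg4, one_pow]
  rw [← h2, orderOf_dvd_iff_pow_eq_one] at h3
  have hcomm : Commute (MulAut.conj (QuotientGroup.mk (c1 F) : PSp 2 F)) (gamma F) := by
    apply MulEquiv.ext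
    intro x
    rw [MulAut.mul_apply, MulAut.mul_apply, MulAut.conj_apply, MulAut.conj_apply, map_mul, map_mul, map_inv, hfix]
  rw [(hcomm.pow_right k).mul_pow, ← pow_mul, mul_comm k 4, pow_mul, hg4, one_pow, mul_one, ← map_pow] at h3
  have h4 : ∀ x : PSp 2 F, (QuotientGroup.mk (c1 F) : PSp 2 F) ^ 4 * x = x * (QuotientGroup.mk (c1 F) : PSp 2 F) ^ 4 := by
    intro x
    have := MulEquiv.congr_fun h3 x
    rw [MulAut.conj_apply, MulAut.one_apply, mul_inv_eq_iff_eq_mul] at this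
    exact this
  have h5 : c1 F ^ 4 ∈ Subgroup.center (Matrix.symplecticGroup (Fin 2) F) := by
    rw [Subgroup.mem_center_iff]
    intro A
    have h6 := h4 (QuotientGroup.mk A)
    rw [← QuotientGroup.mk_pow, ← QuotientGroup.mk_mul, ← QuotientGroup.mk_mul] at h6
    exact (mk_injective (by norm_num) h6).symm
  rw [center_eq_bot (by norm_num), Subgroup.mem_bot] at h5
  exact c1_pow h5

end Cfsg.Agent.H221.Der.CosSFour

private theorem dce_a3b21f1be2c2 : _root_.True := by
  try have : _root_.True := by simp only [_root_.Cfsg.Agent.H221.Der.CosSFour.c1.congr_simp]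
  try have : _root_.True := by simp only [_root_.Cfsg.Agent.H221.Der.CosSFour.c0.eq_3]
  try have : _root_.True := by simp only [_root_.Cfsg.Agent.H221.Der.CosSFour.c1.eq_1]
  try have : _root_.True := by simp only [_root_.Cfsg.Agent.H221.Der.CosSFour.cM.eq_1]
  try have : _root_.True := by simp only [_root_.Cfsg.Agent.H221.Der.CosSFour.c0.eq_1]
  try have : _root_.True := by simp only [_root_.Cfsg.Agent.H221.Der.CosSFour.c0.eq_2]
  try have : _root_.True := by simp only [_root_.Cfsg.Agent.H221.Der.CosSFour.c0.eq_4]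
  exact _root_.True.intro
end

-- part: H149/Der/CosThree
section
prune_inst 0xe5302044184002000018859251202004540005b200600001d9600d420006d362208169414ca01d12183aaa0100050068110000f002000000000004000005002080aa5604b348010ca6001f803087180c00000000000000000000000000041004000000000
set_option linter.all false
open scoped Cfsg.Agent.FastGrp

/-!
# S3502: a third alternative for the rows (helper149)

* `Cos3 T` : every outer coset of `Inn T` contains elements of three different orders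
* `RowC T` : `Cos3 T`, and `Fin3 T R` for the proper non-maximal subgroups `R`
* `Sit3.final_c` : the conclusion of S3502 from `RowC`
* `AT T x` : the `Aut T`-class of `x` is one `T`-class; then `OutBadN T R` if `x` has no conjugate in `R`
* `Cos3.of_at` : `Cos3` from two self-contained primes
-/

set_option autoImplicit false

namespace Cfsg.Agent.H149.Der

open Subgroup MulAction Cfsg.Agent.H938.Sax Cfsg.Agent.H439.Der

/-- every outer coset of `Inn T` contains elements of three different orders -/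
def Cos3 (T : Type*) [Group T] : Prop :=
  ∀ φ : MulAut T, (∀ t : T, φ ≠ MulAut.conj t) → ∃ s t u : T,
    orderOf (MulAut.conj s * φ) ≠ orderOf (MulAut.conj t * φ) ∧
    orderOf (MulAut.conj s * φ) ≠ orderOf (MulAut.conj u * φ) ∧
    orderOf (MulAut.conj t * φ) ≠ orderOf (MulAut.conj u * φ)

/-- the row with `Cos3` -/
def RowC (T : Type*) [Group T] : Prop :=
  Cos3 T ∧ ∀ R : Subgroup T, R ≠ ⊤ → ¬ IsCoatom R → Fin3 T R

theorem Cos3.congr {T S : Type*} [Group T] [Group S] (e : T ≃* S) (h : Cos3 T) : Cos3 S := by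
  intro φ hφ
  obtain ⟨s, t, u, h1, h2, h3⟩ := h ((MulAut.congr e).symm φ) (fun t h2 => hφ (e t) (by
      rw [MulEquiv.symm_apply_eq] at h2
      rw [h2]
      ext s
      simp only [MulAut.congr, _root_.MulEquiv.coe_mk, _root_.Equiv.coe_fn_mk, _root_.MulEquiv.trans_apply, _root_.MulAut.conj_apply, _root_.map_mul, _root_.MulEquiv.apply_symm_apply, _root_.map_inv]))
  have key : ∀ t : T, orderOf (MulAut.conj (e t) * φ) = orderOf (MulAut.conj t * (MulAut.congr e).symm φ) := by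
    intro t
    have h2 : MulAut.conj (e t) = MulAut.congr e (MulAut.conj t) := by
      ext s
      simp only [MulAut.congr, _root_.MulAut.conj_apply, _root_.MulEquiv.coe_mk, _root_.Equiv.coe_fn_mk, _root_.MulEquiv.trans_apply, _root_.map_mul, _root_.MulEquiv.apply_symm_apply, _root_.map_inv]
    have h3 : MulAut.conj t * (MulAut.congr e).symm φ = (MulAut.congr e).symm (MulAut.conj (e t) * φ) := by
      rw [map_mul, h2, MulEquiv.symm_apply_apply]
    rw [h3]
    exact (orderOf_injective (MulAut.congr e).symm.toMonoidHom (MulAut.congr e).symm.injective _).symm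
  refine ⟨e s, e t, e u, ?_, ?_, ?_⟩
  · rwa [key, key]
  · rwa [key, key]
  · rwa [key, key]

theorem RowC.congr {T S : Type*} [Group T] [Group S] (e : T ≃* S) (h : RowC T) : RowC S :=
  ⟨h.1.congr e, fun R hR hR' => (h.2 _ (comap_ne_top e hR) (not_isCoatom_comap e hR')).congr e⟩

section sit

variable {G : Type*} [Group G] [Finite G] {Ω : Type*} [Finite Ω] [MulAction G Ω] {T : Subgroup G}

end sit

section at_

variable {T : Type*} [Group T]

/-- the `Aut T`-class of `x` is one `T`-class -/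
def AT (T : Type*) [Group T] (x : T) : Prop := ∀ φ : MulAut T, ∃ t : T, t * φ x * t⁻¹ = x

/-- an element without conjugates in `R` whose `Aut T`-class is one `T`-class: outer automorphisms leaving `R` invariant have,
up to `R`, a second fixed coset -/
theorem OutBadN.of_at [Finite T] {R : Subgroup T} {x : T} (h : AT T x) (hx : ∀ g : T, g * x * g⁻¹ ∉ R) : OutBadN T R := by
  intro φ _ hR _
  by_contra hcon
  push Not at hcon
  -- `hcon : ∀ r ∈ R, ∀ t ∉ R, t⁻¹ * (r * φ t * r⁻¹) ∉ R`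
  obtain ⟨s, hs⟩ := h φ
  have hφR : ∀ r ∈ R, φ r ∈ R := fun r hr => by
    rw [← hR]
    exact ⟨r, hr, rfl⟩
  -- the map `t R ↦ s φ(t) R` has at least one fixed coset
  -- the elements of the coset `T φ` with a fixed coset: `g` such that `t⁻¹ g φ(t) ∈ R` for some `t`
  -- for each such `g` the coset `t R` is unique
  have huniq : ∀ g t u : T, t⁻¹ * (g * φ t) ∈ R → u⁻¹ * (g * φ u) ∈ R → t⁻¹ * u ∈ R := by
    intro g t u ht hu
    by_contra h1
    refine hcon _ ht (t⁻¹ * u) h1 ?_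
    have h2 : (t⁻¹ * u)⁻¹ * (t⁻¹ * (g * φ t) * φ (t⁻¹ * u) * (t⁻¹ * (g * φ t))⁻¹) =
        u⁻¹ * (g * φ u) * (t⁻¹ * (g * φ t))⁻¹ := by
      rw [map_mul, map_inv]
      group
    rw [h2]
    exact mul_mem hu (inv_mem ht)
  -- every `g` has a fixed coset, by counting
  have hall : ∀ g : T, ∃ t : T, t⁻¹ * (g * φ t) ∈ R := by
    classical
    have : Fintype T := Fintype.ofFinite T
    -- the map `(t R, r) ↦ t r φ(t)⁻¹`
    let f : (T ⧸ R) × R → T := fun p => p.1.out * (p.2 : T) * (φ p.1.out)⁻¹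
    have hf : Function.Injective f := by
      rintro ⟨c, r⟩ ⟨d, r'⟩ hcd
      have h1 : (c.out)⁻¹ * (f (c, r) * φ c.out) ∈ R := by
        have : (c.out)⁻¹ * (f (c, r) * φ c.out) = r := by
          show (c.out)⁻¹ * (c.out * (r : T) * (φ c.out)⁻¹ * φ c.out) = r
          group
        rw [this]
        exact r.2
      have h2 : (d.out)⁻¹ * (f (c, r) * φ d.out) ∈ R := by
        have : (d.out)⁻¹ * (f (c, r) * φ d.out) = r' := by
          rw [hcd]
          show (d.out)⁻¹ * (d.out * (r' : T) * (φ d.out)⁻¹ * φ d.out) = r'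
          group
        rw [this]
        exact r'.2
      have h3 := huniq _ _ _ h1 h2
      have h4 : c = d := by
        rw [← QuotientGroup.out_eq' c, ← QuotientGroup.out_eq' d, QuotientGroup.eq]
        exact h3
      subst h4
      have h5 : c.out * (r : T) * (φ c.out)⁻¹ = c.out * (r' : T) * (φ c.out)⁻¹ := hcd
      rw [mul_left_inj, mul_right_inj] at h5
      exact Prod.ext rfl (Subtype.ext h5)
    have hcard : Nat.card ((T ⧸ R) × R) = Nat.card T := by
      rw [Nat.card_prod]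
      exact (Subgroup.card_eq_card_quotient_mul_card_subgroup R).symm
    have hsurj : Function.Surjective f := by
      have : Finite ((T ⧸ R) × R) := inferInstance
      exact ((Nat.bijective_iff_injective_and_card f).2 ⟨hf, hcard⟩).2
    intro g
    obtain ⟨⟨c, r⟩, hcr⟩ := hsurj g
    refine ⟨c.out, ?_⟩
    rw [← hcr]
    have : (c.out)⁻¹ * (c.out * (r : T) * (φ c.out)⁻¹ * φ c.out) = r := by group
    show (c.out)⁻¹ * (c.out * (r : T) * (φ c.out)⁻¹ * φ c.out) ∈ R
    rw [this]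
    exact r.2
  obtain ⟨t, ht⟩ := hall s
  -- `x t R` is fixed, too
  have h1 : (x * t)⁻¹ * (s * φ (x * t)) ∈ R := by
    have h2 : (x * t)⁻¹ * (s * φ (x * t)) = t⁻¹ * (x⁻¹ * (s * φ x * s⁻¹)) * (s * φ t) := by
      rw [map_mul]
      group
    rw [h2, hs, inv_mul_cancel, mul_one]
    exact ht
  have h2 := huniq s t (x * t) ht h1
  apply hx t⁻¹
  rw [inv_inv]
  have h3 : t⁻¹ * (x * t) = t⁻¹ * x * t := by group
  rwa [h3] at h2

theorem mul_conj (ψ : MulAut T) (w : T) : ψ * MulAut.conj w = MulAut.conj (ψ w) * ψ := by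
  ext y
  simp only [MulAut.mul_apply, MulAut.conj_apply, map_mul, map_inv]

theorem AT.exists_comm {x : T} (h : AT T x) (φ : MulAut T) : ∃ t : T, Commute (MulAut.conj t * φ) (MulAut.conj x) := by
  obtain ⟨t, ht⟩ := h φ
  refine ⟨t, ?_⟩
  have h1 : (MulAut.conj t * φ) x = x := ht
  have h2 := mul_conj (MulAut.conj t * φ) x
  rw [h1] at h2
  exact h2

/-- every coset of `Inn T` contains two elements of orders `a` and `a r`, `r ∤ a` -/
theorem AT.orders [Finite T] {x : T} (h : AT T x) {r : ℕ} (hr : r.Prime) (hx : orderOf x = r)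
    (hinj : Function.Injective (MulAut.conj : T →* MulAut T)) (hout : ¬ r ∣ Nat.card (Cfsg.Out T)) (φ : MulAut T) :
    ∃ s t : T, ¬ r ∣ orderOf (MulAut.conj s * φ) ∧
      orderOf (MulAut.conj t * φ) = r * orderOf (MulAut.conj s * φ) := by
  have hfin : Finite (MulAut T) := Finite.of_injective (fun f : MulAut T => (f : T → T)) DFunLike.coe_injective
  obtain ⟨t0, ht0⟩ := h.exists_comm φ
  set ψ : MulAut T := MulAut.conj t0 * φ with hψ
  have hX : orderOf (MulAut.conj x : MulAut T) = r := by rw [orderOf_injective _ hinj, hx]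
  obtain ⟨k, m, hm, hkm⟩ := Nat.exists_eq_pow_mul_and_not_dvd (orderOf_pos ψ).ne' r hr.ne_one
  set o := orderOf ((ψ : MulAut T) : Cfsg.Out T) with ho
  have hor : ¬ r ∣ o := fun h1 => hout (h1.trans (_root_.orderOf_dvd_natCard _))
  have hcop : Nat.Coprime o (r ^ k) := Nat.Coprime.pow_right _ ((Nat.Prime.coprime_iff_not_dvd hr).2 hor).symm
  obtain ⟨N, hN1, hN2⟩ := Nat.chineseRemainder hcop 1 0
  have hN2' : r ^ k ∣ N := (Nat.modEq_zero_iff_dvd).1 hN2
  -- `ψ ^ N`
  have hmk : ((ψ ^ N : MulAut T) : Cfsg.Out T) = (ψ : Cfsg.Out T) := by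
    rw [QuotientGroup.mk_pow]
    have h1 : ((ψ : MulAut T) : Cfsg.Out T) ^ N = ((ψ : MulAut T) : Cfsg.Out T) ^ 1 := pow_eq_pow_iff_modEq.2 hN1
    rwa [pow_one] at h1
  obtain ⟨w, hw⟩ : ∃ w : T, MulAut.conj w = (ψ⁻¹ * ψ ^ N : MulAut T) := by
    have h1 := QuotientGroup.eq.1 hmk.symm
    exact h1
  have hψN : ψ ^ N = MulAut.conj (ψ w * t0) * φ := by
    have h1 : ψ ^ N = ψ * MulAut.conj w := by rw [hw, mul_inv_cancel_left]
    rw [h1, mul_conj, map_mul, hψ]
    exact (mul_assoc _ _ _).symm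
  have hdm : orderOf (ψ ^ N) ∣ m := by
    rw [orderOf_dvd_iff_pow_eq_one, ← pow_mul, ← orderOf_dvd_iff_pow_eq_one, hkm]
    exact Nat.mul_dvd_mul_right hN2' m
  have hrm : ¬ r ∣ orderOf (ψ ^ N) := fun h1 => hm (h1.trans hdm)
  have hcomm : Commute (MulAut.conj x : MulAut T) (ψ ^ N) := (ht0.symm).pow_right N
  refine ⟨ψ w * t0, x * (ψ w * t0), by rwa [← hψN], ?_⟩
  rw [map_mul, mul_assoc, ← hψN, hcomm.orderOf_mul_eq_mul_orderOf_of_coprime, hX]
  rw [hX]
  exact (Nat.Prime.coprime_iff_not_dvd hr).2 hrm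

/-- `Cos` from one prime -/
theorem Cos.of_at [Finite T] {x : T} (h : AT T x) {r : ℕ} (hr : r.Prime) (hx : orderOf x = r)
    (hinj : Function.Injective (MulAut.conj : T →* MulAut T)) (hout : ¬ r ∣ Nat.card (Cfsg.Out T)) : Cos T := by
  have hfin : Finite (MulAut T) := Finite.of_injective (fun f : MulAut T => (f : T → T)) DFunLike.coe_injective
  intro φ _
  obtain ⟨s, t, h1, h2⟩ := h.orders hr hx hinj hout φ
  by_cases h3 : orderOf (MulAut.conj s * φ) = orderOf φ
  · refine ⟨t, fun h4 => ?_⟩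
    rw [h2, ← h3] at h4
    have h5 := orderOf_pos (MulAut.conj s * φ)
    have h6 := hr.two_le
    nlinarith only [h4, h5, h6]
  · exact ⟨s, h3⟩

/-- `Cos3` from two primes -/
theorem Cos3.of_at [Finite T] {x y : T} (h : AT T x) (h' : AT T y) {r r' : ℕ} (hr : r.Prime) (hr' : r'.Prime)
    (hne : r ≠ r') (hx : orderOf x = r) (hy : orderOf y = r')
    (hinj : Function.Injective (MulAut.conj : T →* MulAut T)) (hout : ¬ r ∣ Nat.card (Cfsg.Out T))
    (hout' : ¬ r' ∣ Nat.card (Cfsg.Out T)) : Cos3 T := by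
  have hfin : Finite (MulAut T) := Finite.of_injective (fun f : MulAut T => (f : T → T)) DFunLike.coe_injective
  intro φ _
  obtain ⟨s, t, h1, h2⟩ := h.orders hr hx hinj hout φ
  obtain ⟨u, v, h3, h4⟩ := h'.orders hr' hy hinj hout' φ
  have hst : orderOf (MulAut.conj s * φ) ≠ orderOf (MulAut.conj t * φ) := by
    intro h5
    apply h1
    rw [h5, h2]
    exact dvd_mul_right _ _
  by_cases h5 : r' ∣ orderOf (MulAut.conj s * φ)
  · refine ⟨s, t, u, hst, fun h6 => h3 (h6 ▸ h5), fun h6 => h3 ?_⟩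
    rw [← h6, h2]
    exact h5.mul_left r
  · refine ⟨s, t, v, hst, fun h6 => h5 ?_, fun h6 => h5 ?_⟩
    · rw [h6, h4]
      exact dvd_mul_right _ _
    · have h7 : r' ∣ r * orderOf (MulAut.conj s * φ) := by
        rw [← h2, h6, h4]
        exact dvd_mul_right _ _
      rcases hr'.dvd_mul.1 h7 with h8 | h8
      · exact absurd ((Nat.prime_dvd_prime_iff_eq hr' hr).1 h8).symm hne
      · exact h8

end at_

end Cfsg.Agent.H149.Der
end

-- part: H221/Der/Ree
section
prune_inst 0xf53065442c4002000000859251203c26f60005b0002b0001f96009420d87df2380806f60feb01b0019eaa2a550394068111000f9420000002a000600411d00a080a95606b37cad0cb6001f809087100000000000000000000000000000041004000000000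
set_option linter.all false
open scoped Cfsg.Agent.FastGrp

/-!
# Three classes of derangements: the Ree groups (S3502, helper221)

`rowS_ree`.
-/

set_option autoImplicit false

namespace Cfsg.Agent.H221.Der

open MulAction Subgroup Cfsg Cfsg.Agent.H947.El Cfsg.Agent.H439.Der Cfsg.Agent.H768.Der

/-- `19` for `q = 27` -/
theorem reeN_19 : ReeN 1 27 9 19 := by
  have hord : orderOf ((3 : ℕ) : ZMod 19) = 18 := by
    rw [orderOf_eq_iff (by norm_num)]
    refine ⟨by decide, ?_⟩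
    decide
  exact ⟨by norm_num, by norm_num, by norm_num, by norm_num, by norm_num, by norm_num, by norm_num, by norm_num,
    by norm_num,
    fun j => by rw [Cfsg.Agent.Lib.Zsigmondy.dvd_pow_sub_one_iff (by norm_num), hord], by norm_num, by norm_num,
    by norm_num, by norm_num, by norm_num, by norm_num, by norm_num, by norm_num⟩

variable {K : Type} [Field K] [Fintype K] {m : ℕ}

/-- the tori of order `q ± r + 1` -/
theorem ree_torus (hm : 1 ≤ m) (hK : Fintype.card K = 3 ^ (2 * m + 1)) {a : ℕ}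
    (ha : a = 3 ^ (2 * m + 1) - 3 ^ (m + 1) + 1 ∨ a = 3 ^ (2 * m + 1) + 3 ^ (m + 1) + 1) :
    ∃ y : ↥(Cfsg.Lie.twistedG2 K (3 ^ m)), orderOf y = a ∧ ∀ z ∈ zpowers y, z ≠ 1 →
      Nat.card (normalizer (zpowers z : Set ↥(Cfsg.Lie.twistedG2 K (3 ^ m)))) ≤
        6 * Nat.card (centralizer ({z} : Set ↥(Cfsg.Lie.twistedG2 K (3 ^ m)))) := by
  have hfin : Finite ↥(Cfsg.Lie.twistedG2 K (3 ^ m)) := inferInstance
  have h1158 := Cfsg.Agent.S1158.result hm hK
  obtain ⟨A, hAc, hAk, hAn, hA0⟩ := h1158 (a, 6 * a) (by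
    rcases ha with rfl | rfl <;> simp only [_root_.Set.mem_insert_iff, _root_.Prod.mk.injEq, _root_.mul_eq_mul_left_iff, _root_.Nat.add_right_cancel_iff, _root_.OfNat.ofNat_ne_zero, _root_.or_false, _root_.Set.mem_singleton_iff, _root_.and_self, _root_.true_or, _root_.or_true, _root_.Nat.add_eq_left, _root_.Nat.pow_eq_zero, _root_.ne_eq, _root_.Nat.add_eq_zero_iff, _root_.one_ne_zero, _root_.and_false, _root_.not_false_eq_true, _root_.and_true, _root_.or_self])
  simp only at hAk hAn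
  obtain ⟨g, hg⟩ := hAc.exists_generator
  have hzp : zpowers (g : ↥(Cfsg.Lie.twistedG2 K (3 ^ m))) = A := by
    refine le_antisymm (zpowers_le.2 g.2) fun x hx => ?_
    obtain ⟨j, hj⟩ := mem_zpowers_iff.1 (hg ⟨x, hx⟩)
    exact ⟨j, congrArg Subtype.val hj⟩
  refine ⟨g, by rw [← Nat.card_zpowers, hzp, hAk], fun z hz hz1 => ?_⟩
  have h1 := hA0 (zpowers z) (by rw [← hzp, zpowers_le]; exact hz) (by rwa [Ne, zpowers_eq_bot])
  rw [h1, hAn, ← hAk]
  refine Nat.mul_le_mul_left 6 (Subgroup.card_le_of_le fun x hx => ?_)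
  rw [Subgroup.mem_centralizer_singleton_iff]
  rw [hzp] at hz
  exact congrArg Subtype.val (hAc.commGroup.mul_comm (⟨x, hx⟩ : A) ⟨z, hz⟩)

/-- classes of elements of order divisible by a prime divisor `ρ` of `q ± r + 1` -/
theorem ree_exists_P (hm : 1 ≤ m) (hK : Fintype.card K = 3 ^ (2 * m + 1)) {a : ℕ}
    (ha : a = 3 ^ (2 * m + 1) - 3 ^ (m + 1) + 1 ∨ a = 3 ^ (2 * m + 1) + 3 ^ (m + 1) + 1) {ρ : ℕ} (hρ : ρ.Prime)
    (hρa : ρ ∣ a) : ∃ P : Finset ↥(Cfsg.Lie.twistedG2 K (3 ^ m)), (∀ z ∈ P, ρ ∣ orderOf z) ∧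
      (∀ z ∈ P, Nat.card {w : ↥(Cfsg.Lie.twistedG2 K (3 ^ m)) // w ∈ P ∧ ∃ g : ↥(Cfsg.Lie.twistedG2 K (3 ^ m)),
        g * z * g⁻¹ = w} ≤ 6) ∧ a - a / ρ ≤ P.card := by
  classical
  have hfin : Finite ↥(Cfsg.Lie.twistedG2 K (3 ^ m)) := inferInstance
  have := Fintype.ofFinite ↥(Cfsg.Lie.twistedG2 K (3 ^ m))
  obtain ⟨y, hy, hN⟩ := ree_torus hm hK ha
  refine ⟨Finset.univ.filter fun z => z ∈ zpowers y ∧ ρ ∣ orderOf z, fun z hz => (Finset.mem_filter.1 hz).2.2,
    conj_card_le (y := y) (fun z hz => (Finset.mem_filter.1 hz).2.1) (fun z hz => ?_), ?_⟩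
  · obtain ⟨-, h1, h2⟩ := Finset.mem_filter.1 hz
    refine hN z h1 ?_
    rintro rfl
    rw [orderOf_one] at h2
    exact hρ.one_lt.ne' (Nat.dvd_one.1 h2)
  · have := card_filter_ge (y := y) hρ (by rw [hy]; exact hρa)
    rwa [hy] at this

theorem num_le27 (m : ℕ) (hm : 2 ≤ m) : 27 * (2 * m + 1) < 3 ^ (2 * m + 1) := by
  induction m, hm using Nat.le_induction with
  | base => norm_num
  | succ k hk ih =>
    have : 3 ^ (2 * (k + 1) + 1) = 9 * 3 ^ (2 * k + 1) := by ring
    rw [this]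
    omega

theorem num_le4 (m : ℕ) (hm : 1 ≤ m) : 4 * (2 * m + 1) + 3 < 3 ^ (2 * m + 1) := by
  induction m, hm using Nat.le_induction with
  | base => norm_num
  | succ k hk ih =>
    have : 3 ^ (2 * (k + 1) + 1) = 9 * 3 ^ (2 * k + 1) := by ring
    rw [this]
    omega

theorem ree_not_SCC_rho (hm : 2 ≤ m) (hK : Fintype.card K = 3 ^ (2 * m + 1)) {ρ : ℕ}
    (n : ReeN m (3 ^ (2 * m + 1)) (3 ^ (m + 1)) ρ) : ¬ SCC ↥(Cfsg.Lie.twistedG2 K (3 ^ m)) ρ := by
  have hfin : Finite ↥(Cfsg.Lie.twistedG2 K (3 ^ m)) := inferInstance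
  have hρd := n.dvd
  rw [n.fac] at hρd
  obtain ⟨a, ha, hρa⟩ : ∃ a, (a = 3 ^ (2 * m + 1) - 3 ^ (m + 1) + 1 ∨ a = 3 ^ (2 * m + 1) + 3 ^ (m + 1) + 1) ∧ ρ ∣ a := by
    rcases n.pr.dvd_mul.1 hρd with h2 | h2
    · exact ⟨_, Or.inl rfl, h2⟩
    · exact ⟨_, Or.inr rfl, h2⟩
  obtain ⟨P, hP1, hP2, hP3⟩ := ree_exists_P (by omega) hK ha n.pr hρa
  refine not_SCC_of_card hP1 hP2 (Cfsg.Agent.S2127.result (by omega) hK).le (lt_of_lt_of_le ?_ hP3)
  have h1 := num_le27 m hm
  have h2 : 9 * 3 ^ (m + 1) ≤ 3 ^ (2 * m + 1) := by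
    calc 9 * 3 ^ (m + 1) = 3 ^ (m + 3) := by ring
      _ ≤ _ := Nat.pow_le_pow_right (by norm_num) (by omega)
  have h3 : a / ρ ≤ a / 2 := Nat.div_le_div_left n.pr.two_le (by norm_num)
  rcases ha with ha | ha <;> omega

theorem ree_not_SC_37 (hK : Fintype.card K = 3 ^ (2 * 1 + 1)) : ¬ SC ↥(Cfsg.Lie.twistedG2 K (3 ^ 1)) 37 := by
  have hfin : Finite ↥(Cfsg.Lie.twistedG2 K (3 ^ 1)) := inferInstance
  obtain ⟨P, hP1, hP2, hP3⟩ := ree_exists_P le_rfl hK (a := 37) (Or.inr (by norm_num)) (ρ := 37) (by norm_num) dvd_rfl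
  refine not_SC_of_card hP1 hP2 (Cfsg.Agent.S2127.result le_rfl hK).le (lt_of_lt_of_le ?_ hP3)
  norm_num

/-- the prime divisors of `(q - 1) / 2` -/
theorem ree_not_SCC_s (hm : 1 ≤ m) (hK : Fintype.card K = 3 ^ (2 * m + 1)) {ρ : ℕ}
    (n : ReeN m (3 ^ (2 * m + 1)) (3 ^ (m + 1)) ρ) {s : ℕ} (hs : s.Prime) (hsd : s ∣ (3 ^ (2 * m + 1) - 1) / 2) :
    ¬ SCC ↥(Cfsg.Lie.twistedG2 K (3 ^ m)) s := by
  classical
  have hfin : Finite ↥(Cfsg.Lie.twistedG2 K (3 ^ m)) := inferInstance
  have hft := Fintype.ofFinite ↥(Cfsg.Lie.twistedG2 K (3 ^ m))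
  have F := reeF hm hK n
  have hord := Cfsg.Agent.S1159.result hm hK
  have hq4 := n.q4
  have hq27 := n.q27
  have hq3 := n.q3
  have hnum := num_le4 m hm
  obtain ⟨q, hq⟩ : ∃ q, q = 3 ^ (2 * m + 1) := ⟨_, rfl⟩
  obtain ⟨y, hy⟩ := (hord (3 ^ (2 * m + 1) - 1)).2 (Or.inr (Or.inr (Or.inl dvd_rfl)))
  obtain ⟨x, hx⟩ := (hord ((3 ^ (2 * m + 1) - 1) / 2)).2 (Or.inr (Or.inr (Or.inl (Nat.div_dvd_of_dvd (by omega)))))
  have hsq : s ∣ 3 ^ (2 * m + 1) - 1 := hsd.trans (Nat.div_dvd_of_dvd (by omega))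
  obtain ⟨z, hz⟩ := (hord s).2 (Or.inr (Or.inr (Or.inl hsq)))
  have hs2 : s ≠ 2 := by
    rintro rfl
    omega
  have hs3 : s ≠ 3 := by
    rintro rfl
    (clear * - hq27 hsq; omega)
  by_cases hsq' : s = (3 ^ (2 * m + 1) - 1) / 2
  · -- `(q - 1) / 2` is a prime
    have hw : orderOf (y ^ 2) = s := by
      rw [orderOf_pow_of_dvd (by norm_num) (by rw [hy]; (clear * - hq4; omega)), hy, hsq']
    have h3 : 3 < s := by
      have := hs.two_le
      omega
    have hyC : ∀ z ∈ zpowers (y ^ 2), Nat.card (zpowers y) ≤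
        Nat.card (centralizer ({z} : Set ↥(Cfsg.Lie.twistedG2 K (3 ^ m)))) := by
      intro z hz
      refine Subgroup.card_le_of_le ?_
      rw [zpowers_le, Subgroup.mem_centralizer_singleton_iff]
      obtain ⟨j, rfl⟩ := hz
      show y * (y ^ 2) ^ j = (y ^ 2) ^ j * y
      rw [← zpow_natCast, ← zpow_mul]
      exact ((Commute.refl y).zpow_right _)
    have hN : ∀ z ∈ zpowers (y ^ 2), s ∣ orderOf z →
        Nat.card (normalizer (zpowers z : Set ↥(Cfsg.Lie.twistedG2 K (3 ^ m)))) ≤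
          2 * Nat.card (centralizer ({z} : Set ↥(Cfsg.Lie.twistedG2 K (3 ^ m)))) := by
      intro z hz hsz
      have hzo : orderOf z = s := Nat.dvd_antisymm (hw ▸ orderOf_dvd_of_mem_zpowers hz) hsz
      obtain ⟨A, hAc, hEA, hA⟩ := F.norm s hs h3 (zpowers z) (by rw [Nat.card_zpowers, hzo])
      have hsA : s ∣ Nat.card A := by
        have := Subgroup.card_dvd_of_le hEA
        rwa [Nat.card_zpowers, hzo] at this
      have hC := hyC z hz
      rw [Nat.card_zpowers, hy] at hC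
      have hno : ∀ b, s ∣ b → b ∣ 3 ^ (2 * m + 1) + 1 → False := by
        intro b h1 h2
        have h4 : s ∣ 3 ^ (2 * m + 1) + 1 - (3 ^ (2 * m + 1) - 1) := Nat.dvd_sub (h1.trans h2) hsq
        rw [show 3 ^ (2 * m + 1) + 1 - (3 ^ (2 * m + 1) - 1) = 2 by (clear * - hq27; omega)] at h4
        exact hs2 ((Nat.prime_dvd_prime_iff_eq hs Nat.prime_two).1 h4)
      rcases hA with ⟨hA1, hA2⟩ | ⟨hA1, -⟩ | ⟨hA1, -⟩
      · rw [hA2]
        omega
      · exact (hno _ hsA ⟨4, by omega⟩).elim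
      · exfalso
        have h4 : s ∣ (3 ^ (2 * m + 1)) ^ 2 - 3 ^ (2 * m + 1) + 1 := by
          rw [n.fac]
          rcases hA1 with hA1 | hA1
          · rw [hA1] at hsA
            exact hsA.mul_right _
          · rw [hA1] at hsA
            exact hsA.mul_left _
        rw [← hq] at h4 hsq
        have h5 : q ^ 2 - q = (q - 1) * q := by rw [Nat.sub_mul, one_mul, pow_two]
        rw [h5] at h4
        exact hs.one_lt.ne' (Nat.dvd_one.1 ((Nat.dvd_add_right (hsq.mul_right _)).1 h4))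
    let P : Finset ↥(Cfsg.Lie.twistedG2 K (3 ^ m)) := Finset.univ.filter fun z => z ∈ zpowers (y ^ 2) ∧ s ∣ orderOf z
    have hPc : s - s / s ≤ P.card := by
      have := card_filter_ge (y := y ^ 2) hs (by rw [hw])
      rwa [hw] at this
    rw [Nat.div_self hs.pos] at hPc
    obtain ⟨u, hu, hxu⟩ := exists_ne_of_card (P := P) (n := 2) (o := 2 * m + 1)
      (conj_card_le (y := y ^ 2) (fun z hz => (Finset.mem_filter.1 hz).2.1)
        (fun z hz => hN z (Finset.mem_filter.1 hz).2.1 (Finset.mem_filter.1 hz).2.2))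
      (Cfsg.Agent.S2127.result hm hK).le (by omega) (y ^ 2)
    have huo : orderOf u = s := Nat.dvd_antisymm (hw ▸ orderOf_dvd_of_mem_zpowers (Finset.mem_filter.1 hu).2.1)
      (Finset.mem_filter.1 hu).2.2
    refine not_SCC_of_three (x := y ^ 2) (y := u) (z := y) (by rw [hw]) (by rw [huo]) (by rw [hy]; exact hsq) hxu
      (fun φ hφ => ?_) (fun φ hφ => ?_)
    · have h5 := Cfsg.Agent.H938.Sax.orderOf_mulEquiv φ (y ^ 2)
      rw [hφ, hw, hy] at h5
      omega
    · have h5 := Cfsg.Agent.H938.Sax.orderOf_mulEquiv φ u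
      rw [hφ, huo, hy] at h5
      omega
  · refine not_SCC_of_orders (x := y) (y := x) (z := z) (by rw [hy]; exact hsq) (by rw [hx]; exact hsd) (by rw [hz])
      (by rw [hy, hx]; (clear * - hq27; omega)) (by
        rw [hy, hz]
        intro h
        have h1 : 2 ∣ s := by (clear * - hq4 h; omega)
        exact hs2 ((Nat.prime_dvd_prime_iff_eq Nat.prime_two hs).1 h1).symm) (by
        rw [hx, hz]
        exact fun h => hsq' h.symm)

theorem three_ree_aux (hm : 1 ≤ m) (hK : Fintype.card K = 3 ^ (2 * m + 1))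
    (M : Subgroup ↥(Cfsg.Lie.twistedG2 K (3 ^ m))) (hM : M ≠ ⊤) : Three ↥(Cfsg.Lie.twistedG2 K (3 ^ m)) M := by
  have hfin : Finite ↥(Cfsg.Lie.twistedG2 K (3 ^ m)) := inferInstance
  obtain ⟨ρ, n, -⟩ := exists_rho m hm
  have hq4 := n.q4
  have hq27 := n.q27
  have hord := Cfsg.Agent.S1159.result hm hK
  obtain ⟨s, hs, hsd⟩ := Nat.exists_prime_and_dvd (n := (3 ^ (2 * m + 1) - 1) / 2) (by omega)
  have hsq : s ∣ 3 ^ (2 * m + 1) - 1 := hsd.trans (Nat.div_dvd_of_dvd (by omega))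
  have hS : ¬ s ∣ Nat.card M → Three ↥(Cfsg.Lie.twistedG2 K (3 ^ m)) M := fun h =>
    Three.of_not_dvd h (ree_not_SCC_s hm hK n hs hsd)
      (((hord s).2 (Or.inr (Or.inr (Or.inl hsq)))).imp fun x hx => by rw [hx])
  by_cases hsM : s ∣ Nat.card M
  · rcases Nat.lt_or_ge 1 m with hm2 | hm1
    · have hρM : ¬ ρ ∣ Nat.card M := fun h => hM (eq_top (reeF hm hK n) n M h hs hsd hsM)
      refine Three.of_not_dvd hρM (ree_not_SCC_rho hm2 hK n) ?_
      have hρR : ρ ∣ Nat.card ↥(Cfsg.Lie.twistedG2 K (3 ^ m)) := by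
        rw [(reeF hm hK n).card, n.cube]; exact (n.dvd.mul_left _).mul_left _
      have := Fact.mk n.pr
      obtain ⟨x, hx⟩ := exists_prime_orderOf_dvd_card' ρ hρR
      exact ⟨x, by rw [hx]⟩
    · have hm1' : m = 1 := by omega
      subst hm1'
      have n19 : ReeN 1 (3 ^ (2 * 1 + 1)) (3 ^ (1 + 1)) 19 := reeN_19
      have n37 : ReeN 1 (3 ^ (2 * 1 + 1)) (3 ^ (1 + 1)) 37 := reeN_37
      have h37 : ¬ 37 ∣ Nat.card M := fun h => hM (eq_top (reeF hm hK n37) n37 M h hs hsd hsM)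
      have h19 : ¬ 19 ∣ Nat.card M := fun h => hM (eq_top (reeF hm hK n19) n19 M h hs hsd hsM)
      refine Three.of_two_primes (v := 37) (w := 19) (by norm_num) (by norm_num) (by norm_num) ?_ h37 h19
        (ree_not_SC_37 hK)
      rw [(reeF hm hK n19).card, n19.cube]
      exact (n19.dvd.mul_left _).mul_left _
  · exact hS hsM

theorem three_ree {T : Type*} [Group T] (h : Cfsg.Lie.IsoRee T) (M : Subgroup T) (hM : M ≠ ⊤) : Three T M := by
  obtain ⟨K, iK, iK', m, hm, hK, ⟨e⟩⟩ := h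
  refine Three.congr e.symm (three_ree_aux hm hK _ fun ht => hM ?_)
  rw [eq_top_iff]
  intro x _
  have : e x ∈ M.comap e.symm.toMonoidHom := by rw [ht]; trivial
  simpa using this

/-- **the Ree groups** -/
theorem rowS_ree {T : Type*} [Group T] (h : Cfsg.Lie.IsoRee T) : RowS T :=
  ⟨fun M hM => (three_ree h M hM.1).two, fun R hR _ => three_ree h R hR⟩

end Cfsg.Agent.H221.Der
end

-- part: H188/Der/U34
section
set_option linter.all false
open scoped Cfsg.Agent.FastGrp

/-!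
# `RowS (PSU₃(4))` (helper188, task 2988)
-/

set_option autoImplicit false

namespace Cfsg.Agent.H188.Der

open Cfsg Cfsg.Geo Cfsg.Agent.H439.Der Cfsg.Agent.H918 Module Subgroup Cfsg.Agent.H322.Der
  Cfsg.Agent.ClassicalGeometry.PSUAutBasic Cfsg.Agent.LieClassical.HermSiegel
  Cfsg.Agent.LieClassical.HermBasic Cfsg.Agent.LieClassical.SUBasic
open scoped MatrixGroups Matrix

/-- no proper subgroups of `5 × A₅` with elements of order `15`, involutions and `5²` -/
theorem fin34 {T : Type*} [Group T] [Finite T] {B U : Subgroup T} {c w : T} (h : RO T 2 4 15 B U c w)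
    {R : Subgroup T} (hcR : c ∈ R) (h25 : 25 ∣ Nat.card R) (h2 : 2 ∣ Nat.card R)
    (hR' : Nat.card R < 300) : False := by
  set y : R := ⟨c ^ 5, R.pow_mem hcR 5⟩ with hy
  set c' : R := ⟨c, hcR⟩ with hc'
  have hyc : y = c' ^ 5 := rfl
  have hc'o : orderOf c' = 15 := by rw [hc', Subgroup.orderOf_mk, h.oc]
  have hyo : orderOf y = 3 := by rw [hyc, orderOf_pow, hc'o]; rfl
  have h15 : 15 ∣ Nat.card R := by rw [← hc'o]; exact _root_.orderOf_dvd_natCard c'
  have h150 : Nat.card R = 150 := by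
    have h75 : 75 ∣ Nat.card R := Nat.lcm_dvd h15 h25
    have h150 : 150 ∣ Nat.card R := Nat.lcm_dvd h75 h2
    obtain ⟨k, hk⟩ := h150
    have hpos : 0 < Nat.card R := Nat.card_pos
    (clear * - hR' hk hpos; omega)
  have hcent : ∀ g : R, Commute g y → g ∈ zpowers c' := by
    intro g hg
    have h1 : Commute (g : T) (c ^ 5) := congrArg Subtype.val hg.eq
    have h2 := h.cent (k := 5) (by norm_num) (by
      intro h3
      have h4 := orderOf_dvd_of_pow_eq_one h3
      rw [h.oc] at h4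
      revert h4; norm_num) h1
    obtain ⟨n, hn⟩ := mem_zpowers_iff.1 h2
    exact mem_zpowers_iff.2 ⟨n, Subtype.ext hn⟩
  have hC : Nat.card (centralizer ({y} : Set R)) = 15 := by
    have h1 : centralizer ({y} : Set R) = zpowers c' := by
      apply le_antisymm
      · intro g hg
        exact hcent g (Subgroup.mem_centralizer_singleton_iff.1 hg)
      · rw [zpowers_le]
        refine Subgroup.mem_centralizer_singleton_iff.2 ?_
        rw [hyc]
        exact ((Commute.refl c').pow_right 5).eq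
    rw [h1, Nat.card_zpowers, hc'o]
  exact no_150 h150 (z := c' ^ 3) (y := y) (by rw [orderOf_pow, hc'o]; rfl)
    (by rw [hyc]; exact ((Commute.refl c').pow_left 3).pow_right 5) hyo hC

theorem rowS_u34 {F : Type*} [Field F] [Fintype F] (hF : Fintype.card F = 4 ^ 2) : RowS (PSU 3 F 4) := by
  have hfin : Finite (PSU 3 F 4) := Quotient.finite _
  apply RowS.of_coatoms
  intro M hM
  obtain ⟨p, n, r, h, hchar⟩ := Cfsg.Agent.H947.El.exists_PN hF (by norm_num)
  have hp2 : p = 2 := char_two_of_pow (F := F) h.pp h.n0 (k := 2) h.qp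
  subst hp2
  have hf2 : Fact (Nat.Prime 2) := ⟨Nat.prime_two⟩
  have hn2 : n = 2 := by
    have h1 : 2 ^ 2 = 2 ^ n := h.qp
    exact (Nat.pow_right_injective le_rfl h1).symm
  have hr12 : 12 < r := by
    have := h.ge
    omega
  have hrf : Fact r.Prime := ⟨h.pr⟩
  have hrT := (Cfsg.Agent.H947.El.psu3_orders hF h).1
  have hcT : Nat.card (PSU 3 F 4) = 62400 := by
    have hcard := Cfsg.Agent.H394.SqPsu3.card_psu3 hF
    norm_num at hcard
    omega
  -- the elements
  obtain ⟨xr, hxr⟩ := exists_prime_orderOf_dvd_card' r hrT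
  obtain ⟨x4, hx4⟩ : ∃ x : PSU 3 F 4, orderOf x = 4 := by
    obtain ⟨R, hR, a, ha, b, hb, hab⟩ := Cfsg.Agent.H794.PsuNotAb.exists_pair (p := 2) (n := 3) hF le_rfl
    exact exists_orderOf_four hR ha hb hab
  obtain ⟨x2, hx2⟩ := exists_prime_orderOf_dvd_card' 2 (Cfsg.Agent.H947.El.psu3_orders hF h).2.1
  obtain ⟨a, ha, hgen⟩ := exists_gen hF (by norm_num)
  have hao := orderOf_gen ha hgen
  obtain ⟨e1, e2, e3⟩ := reg_of_order (a := a) (by rw [hao]; norm_num)
  obtain ⟨f5, hf5⟩ : ∃ f, f = pr 3 F 4 (tor 4 a ha) := ⟨_, rfl⟩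
  have hf5o : orderOf f5 = 5 := by rw [hf5, orderOf_tor hF, hao]
  have hf5c : ∀ g : PSU 3 F 4, orderOf g = 2 → ¬ Commute g f5 := by
    intro g hg hc
    rw [hf5] at hc
    exact no_commute_tor (p := 2) hF ha e1 e2 e3 hg hc
  obtain ⟨B, U, c, w, hro⟩ := exists_ro (p := 2) hF (by norm_num)
  have hN : (4 ^ 2 - 1) / Nat.gcd 3 (4 + 1) = 15 := by decide
  rw [hN] at hro
  have hrp := h.pr
  have hr15 : r ≠ 15 := by rintro rfl; revert hrp; norm_num
  -- the regular unipotent element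
  obtain ⟨u, huU, ⟨v, hvU, huv⟩, hu, hu4⟩ := hro.reg
  have huo := hu4 rfl
  have hcB : Nat.card B = 960 := by
    have := hro.card_B
    rw [hcT] at this
    norm_num only [] at this
    omega
  have hcU : Nat.card U = 64 := by rw [hro.cardU]; norm_num
  rcases Cfsg.Agent.S5778.result 4 hF (by norm_num) (pre M) (pre_max hM) with ⟨W, hW0, hWs, he⟩ |
    ⟨W, hW0, hWn, hW3, he⟩ | ⟨-, D, hD, he⟩ | ⟨-, -, K, hK, -, he⟩ | ⟨F₀, l, P, hl, hlo, hc, -, he⟩ |
    ⟨hodd, -⟩ | ⟨p', R, hp', hqp, -, h11, -⟩ | hres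
  · right
    have hW3 : 2 * finrank F W < 3 := by
      rw [finrank_one_of_iso hF hW0 hWs]; norm_num
    have hrM := r_point h hW0 hW3 (he.trans_le inf_le_left)
    have hmiss : ∀ φ : PSU 3 F 4 ≃* PSU 3 F 4, φ f5 ∉ M := by
      rw [hf5]; exact borel_miss 2 hF hW0 hWs he ha e1 e2 e3
    refine ⟨two_of_prime_and h.pr hrT hrM (y := f5) ?_ hmiss, fun R hR => ?_⟩
    · rw [hf5o]
      intro hd
      have := Nat.le_of_dvd (by norm_num) hd
      omega
    have hx : ∀ φ : PSU 3 F 4 ≃* PSU 3 F 4, φ xr ∉ R := fun φ hφ => not_mem_of_dvd hrM (by rw [hxr]) φ (hR.le hφ)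
    have hy : ∀ φ : PSU 3 F 4 ≃* PSU 3 F 4, φ f5 ∉ R := fun φ hφ => hmiss φ (hR.le hφ)
    by_cases h15 : ∀ φ : PSU 3 F 4 ≃* PSU 3 F 4, φ c ∉ R
    · exact three_of hx hy h15 (by rw [hxr, hf5o]; omega) (by rw [hxr, hro.oc]; exact hr15)
        (by rw [hf5o, hro.oc]; norm_num)
    by_cases h4 : ∀ φ : PSU 3 F 4 ≃* PSU 3 F 4, φ u ∉ R
    · exact three_of hx hy h4 (by rw [hxr, hf5o]; omega) (by rw [hxr, huo]; omega) (by rw [hf5o, huo]; norm_num)
    exfalso
    push Not at h15 h4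
    obtain ⟨y, hy2, hy1, hyc⟩ := borel_comm 2 hF hW0 hWs he
    obtain ⟨g, hg⟩ := hro.eq_conj_B (k := 6) (by norm_num) (by rw [hcT]; norm_num) hM hy2 hy1 hyc
    set R' : Subgroup (PSU 3 F 4) := R.comap (MulAut.conj g).toMonoidHom with hR'
    have hR'B : R' < B := by rw [← hg]; exact comap_lt_comap (MulAut.conj g) hR
    -- the images of `c` and `u` in `R'`
    obtain ⟨ψ, hψ⟩ := h15
    obtain ⟨χ, hχ⟩ := h4
    have hc'R : (ψ.trans (MulAut.conj g).symm) c ∈ R' := by
      show (MulAut.conj g) ((MulAut.conj g).symm (ψ c)) ∈ R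
      rw [MulEquiv.apply_symm_apply]; exact hψ
    have hu'R : (χ.trans (MulAut.conj g).symm) u ∈ R' := by
      show (MulAut.conj g) ((MulAut.conj g).symm (χ u)) ∈ R
      rw [MulEquiv.apply_symm_apply]; exact hχ
    generalize ψ.trans (MulAut.conj g).symm = ψ' at hc'R
    generalize χ.trans (MulAut.conj g).symm = χ' at hu'R
    have hc'o : orderOf (ψ' c) = 15 := by rw [MulEquiv.orderOf_eq, hro.oc]
    have hu'o : orderOf (χ' u) = 4 := by rw [MulEquiv.orderOf_eq, huo]
    have hnorm : ∀ b ∈ B, ∀ x ∈ U, b * x * b⁻¹ ∈ U := hro.data.norm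
    have hu'U : χ' u ∈ U := mem_of_coprime hro.data.le hnorm (k := 15) (by rw [hcB, hcU]) (hR'B.le hu'R)
      (by rw [hu'o]; decide)
    have hUR : U ≤ R' := le_of_64 hcU (fun b hb => hnorm b (hR'B.le hb)) hc'o hc'R hu'R hu'U hu'o
      (hro.reg_transport hu χ') (cent_transport ψ' fun g hg => hro.cent (k := 5) (by norm_num) (by
        intro h3
        have h4 := orderOf_dvd_of_pow_eq_one h3
        rw [hro.oc] at h4
        revert h4; norm_num) hg)
    have h1 : 64 ∣ Nat.card R' := by rw [← hcU]; exact Subgroup.card_dvd_of_le hUR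
    have h2 : 15 ∣ Nat.card R' := by rw [← hc'o]; exact orderOf_dvd_card_of_mem hc'R
    have h3 : 960 ∣ Nat.card R' := Nat.lcm_dvd h1 h2
    refine hR'B.ne (Subgroup.eq_of_le_of_card_ge hR'B.le ?_)
    rw [hcB]
    exact Nat.le_of_dvd Nat.card_pos h3
  · right
    have hrM := r_point h hW0 hW3 (he.trans_le inf_le_left)
    have h4M : ∀ g ∈ M, orderOf g ≠ 4 := fun g hg => point_no_four hF hW0 hWn hW3 he hg
    refine ⟨two_even hF h hrM h4M, fun R hR => ?_⟩
    have hMc := point_card' hF (by norm_num) (by norm_num) hW0 hWn hW3 he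
    have hM300 : Nat.card M ∣ 300 := by
      have h1 : 1 * Nat.card M ∣ 300 := by simpa only [_root_.one_mul, _root_.Nat.reduceAdd, _root_.Nat.reduceGcd, _root_.Nat.reducePow, _root_.Nat.add_one_sub_one, _root_.Nat.reduceMul] using hMc
      rwa [one_mul] at h1
    obtain ⟨k, hk⟩ := point_center hF (by norm_num) hW0 hWn hW3 (he.trans_le inf_le_left) ha
    set z := k * pr 3 F 4 (zel 4 a ha) * k⁻¹ with hz
    have hzo : orderOf z = 5 := by
      rw [hz, orderOf_conj, orderOf_zel hF ha hgen]; decide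
    have hx : ∀ φ : PSU 3 F 4 ≃* PSU 3 F 4, φ xr ∉ R := fun φ hφ => not_mem_of_dvd hrM (by rw [hxr]) φ (hR.le hφ)
    have hy : ∀ φ : PSU 3 F 4 ≃* PSU 3 F 4, φ x4 ∉ R := fun φ hφ =>
      miss_of_order (x := x4) (fun g hg => by rw [hx4]; exact h4M g hg) φ (hR.le hφ)
    by_cases h5 : ∀ φ : PSU 3 F 4 ≃* PSU 3 F 4, φ f5 ∉ R
    · exact three_of hx hy h5 (by rw [hxr, hx4]; omega) (by rw [hxr, hf5o]; omega) (by rw [hx4, hf5o]; norm_num)
    by_cases h15 : ∀ φ : PSU 3 F 4 ≃* PSU 3 F 4, φ c ∉ R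
    · exact three_of hx hy h15 (by rw [hxr, hx4]; omega) (by rw [hxr, hro.oc]; exact hr15)
        (by rw [hx4, hro.oc]; norm_num)
    by_cases h2 : ∀ φ : PSU 3 F 4 ≃* PSU 3 F 4, φ x2 ∉ R
    · exact three_of hx hy h2 (by rw [hxr, hx4]; omega) (by rw [hxr, hx2]; omega) (by rw [hx4, hx2]; norm_num)
    exfalso
    push Not at h5 h15 h2
    obtain ⟨φ, hφ⟩ := h5
    obtain ⟨ψ, hψ⟩ := h15
    obtain ⟨χ, hχ⟩ := h2
    have hzR : z ∈ R := by
      have h1 := cent_transport ψ (k := 5) (fun g hg => hro.cent (k := 5) (by norm_num) (by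
        intro h3
        have h4 := orderOf_dvd_of_pow_eq_one h3
        rw [hro.oc] at h4
        revert h4; norm_num) hg) z ((hk _ (hR.le hψ)).symm.pow_right 5)
      exact (zpowers_le.2 hψ) h1
    have hf'z : φ f5 ∉ zpowers z := by
      intro hmem
      obtain ⟨n, hn⟩ := mem_zpowers_iff.1 hmem
      have h1 : Commute (χ x2) (φ f5) := by
        rw [← hn]
        exact (hk _ (hR.le hχ)).zpow_right n
      have h2 := h1.map φ.symm
      rw [MulEquiv.symm_apply_apply] at h2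
      exact hf5c _ (by rw [MulEquiv.orderOf_eq, MulEquiv.orderOf_eq, hx2]) h2
    have h25 : 25 ∣ Nat.card R := by
      by_contra h25
      have h5f : Fact (Nat.Prime 5) := ⟨by norm_num⟩
      obtain ⟨g, hg⟩ := exists_conj_mem (T := R) (p := 5) (U := zpowers (⟨z, hzR⟩ : R)) (k := 1)
        (by rw [Nat.card_zpowers, Subgroup.orderOf_mk, hzo]; norm_num) (by norm_num only []; exact h25)
        (y := (⟨φ f5, hφ⟩ : R)) (n := 1) (by
          apply Subtype.ext
          show (φ f5) ^ 5 ^ 1 = 1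
          rw [pow_one, ← map_pow, ← hf5o, pow_orderOf_eq_one, map_one])
      obtain ⟨n, hn⟩ := mem_zpowers_iff.1 hg
      apply hf'z
      have h1 : z ^ n = (g : PSU 3 F 4)⁻¹ * φ f5 * g := congrArg Subtype.val hn
      have h2 : φ f5 = z ^ n := by
        have h3 := ((hk _ (hR.le g.2)).zpow_right n).eq
        calc φ f5 = g * ((g : PSU 3 F 4)⁻¹ * φ f5 * g) * (g : PSU 3 F 4)⁻¹ := by group
          _ = g * z ^ n * (g : PSU 3 F 4)⁻¹ := by rw [← h1]
          _ = z ^ n := by rw [h3, mul_inv_cancel_right]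
      rw [h2]
      exact Subgroup.zpow_mem _ (mem_zpowers z) n
    have hRc : Nat.card (R.comap ψ.toMonoidHom) = Nat.card R := Cfsg.Agent.H938.Sax.card_comap ψ R
    refine fin34 hro (R := R.comap ψ.toMonoidHom) hψ (by rw [hRc]; exact h25) ?_ ?_
    · rw [hRc]
      have h1 := orderOf_dvd_card_of_mem hχ
      rwa [MulEquiv.orderOf_eq, hx2] at h1
    · rw [hRc]
      refine lt_of_lt_of_le ?_ (Nat.le_of_dvd (by norm_num) hM300)
      by_contra hlt
      push Not at hlt
      exact hR.ne (Subgroup.eq_of_le_of_card_ge hR.le hlt)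
  · left
    have hor : ∀ g ∈ M, orderOf g ∣ 3 ∨ orderOf g ∣ 10 := fun g hg => dec_order hD (he.trans_le inf_le_left) hg
    refine three_of (x := xr) (y := x4) (z := c) (miss_of_order fun g hg hgo => ?_)
      (miss_of_order fun g hg hgo => ?_) (miss_of_order fun g hg hgo => ?_) (by rw [hxr, hx4]; omega)
      (by rw [hxr, hro.oc]; exact hr15) (by rw [hx4, hro.oc]; norm_num)
    · rcases hor g hg with h1 | h1
      · have := Nat.le_of_dvd (by norm_num) h1
        omega
      · have := Nat.le_of_dvd (by norm_num) h1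
        omega
    · rcases hor g hg with h1 | h1 <;> rw [hgo, hx4] at h1 <;> revert h1 <;> norm_num
    · rcases hor g hg with h1 | h1 <;> rw [hgo, hro.oc] at h1 <;> revert h1 <;> norm_num
  · left
    have h2M := field_odd hK (he.trans_le inf_le_left)
    obtain ⟨x10, hx10⟩ := exists_order_mul 2 hF (by norm_num) (by norm_num)
    have hx10' : orderOf x10 = 10 := by rw [hx10]; decide
    exact Three.of_not_dvd h2M (not_SCC_of_orders (x := x2) (y := x4) (z := x10) (by rw [hx2]) (by rw [hx4]; norm_num)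
      (by rw [hx10']; norm_num) (by rw [hx2, hx4]; norm_num) (by rw [hx2, hx10']; norm_num)
      (by rw [hx4, hx10']; norm_num)) ⟨x2, by rw [hx2]⟩
  · exact (no_odd_root (Or.inr (Or.inl rfl)) hl hlo (by rw [← hc, hF]; norm_num)).elim
  · exact absurd hodd (by decide)
  · omega
  · obtain ⟨P, hP, hqp, -⟩ := Cfsg.Agent.S5779.result 4 hF (by norm_num) (pre M) (pre_max hM) hres
    exact absurd hqp (by norm_num)

end Cfsg.Agent.H188.Der
end

-- part: H188/Der/U35
section
set_option linter.all false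
open scoped Cfsg.Agent.FastGrp

/-!
# `RowS (PSU₃(5))`: the theorem (helper188, task 2988)
-/

set_option autoImplicit false

namespace Cfsg.Agent.H188.Der

open Cfsg Cfsg.Geo Cfsg.Agent.H439.Der Cfsg.Agent.H918 Module Subgroup Cfsg.Agent.H322.Der
  Cfsg.Agent.ClassicalGeometry.PSUAutBasic Cfsg.Agent.LieClassical.HermSiegel
  Cfsg.Agent.LieClassical.HermBasic Cfsg.Agent.LieClassical.SUBasic
open scoped MatrixGroups Matrix

theorem rowS_u35 {F : Type*} [Field F] [Fintype F] (hF : Fintype.card F = 5 ^ 2) : RowS (PSU 3 F 5) := by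
  have hfin : Finite (PSU 3 F 5) := Quotient.finite _
  apply RowS.of_coatoms
  intro M hM
  obtain ⟨p, n, r, h, hchar⟩ := Cfsg.Agent.H947.El.exists_PN hF (by norm_num)
  have hp5 : p = 5 := by
    have h1 : p ∣ 5 := by
      have := h.qp
      rw [this]; exact dvd_pow_self p h.n0.ne'
    exact (Nat.prime_dvd_prime_iff_eq h.pp (by norm_num)).1 h1
  subst hp5
  have hf5 : Fact (Nat.Prime 5) := ⟨by norm_num⟩
  have hf3 : Fact (Nat.Prime 3) := ⟨Nat.prime_three⟩
  have hf2 : Fact (Nat.Prime 2) := ⟨Nat.prime_two⟩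
  have hrf : Fact r.Prime := ⟨h.pr⟩
  have hrT := (Cfsg.Agent.H947.El.psu3_orders hF h).1
  have hcT : Nat.card (PSU 3 F 5) = 126000 := by
    have hcard := Cfsg.Agent.H394.SqPsu3.card_psu3 hF
    norm_num at hcard
    omega
  have hr7 : r = 7 := by
    have h1 : r ∣ 2 ^ 4 * 3 ^ 2 * 5 ^ 3 * 7 := by rw [hcT] at hrT; norm_num; exact hrT
    have := h.ge
    have := h.n0
    rcases h.pr.dvd_mul.1 h1 with h3 | h3
    · rcases h.pr.dvd_mul.1 h3 with h4 | h4
      · rcases h.pr.dvd_mul.1 h4 with h5 | h5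
        · have := Nat.le_of_dvd (by norm_num) (h.pr.dvd_of_dvd_pow h5); omega
        · have := Nat.le_of_dvd (by norm_num) (h.pr.dvd_of_dvd_pow h5); omega
      · have := Nat.le_of_dvd (by norm_num) (h.pr.dvd_of_dvd_pow h4); omega
    · exact (Nat.prime_dvd_prime_iff_eq h.pr (by norm_num)).1 h3
  subst hr7
  -- the elements
  obtain ⟨xr, hxr⟩ := exists_prime_orderOf_dvd_card' 7 hrT
  obtain ⟨x3, hx3⟩ := exists_prime_orderOf_dvd_card' (G := PSU 3 F 5) 3 (by rw [hcT]; norm_num)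
  obtain ⟨x10, hx10'⟩ := exists_order_mul 5 hF (by norm_num) (by norm_num)
  have hx10 : orderOf x10 = 10 := by rw [hx10']; decide
  obtain ⟨a, ha, hgen⟩ := exists_gen hF (by norm_num)
  have hao := orderOf_gen ha hgen
  obtain ⟨f6, hf6⟩ : ∃ f, f = pr 3 F 5 (tor 5 a ha) := ⟨_, rfl⟩
  have hf6o : orderOf f6 = 6 := by rw [hf6, orderOf_tor hF, hao]
  obtain ⟨B, U, c, w, hro⟩ := exists_ro (p := 5) hF (by norm_num)
  have hN : (5 ^ 2 - 1) / Nat.gcd 3 (5 + 1) = 8 := by decide
  rw [hN] at hro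
  have hcB : Nat.card B = 1000 := by
    have := hro.card_B
    rw [hcT] at this
    norm_num at this
    omega
  have hT5 : ¬ 5 ^ (3 + 1) ∣ Nat.card (PSU 3 F 5) := by rw [hcT]; norm_num
  have hT2 : ¬ 2 ^ (4 + 1) ∣ Nat.card (PSU 3 F 5) := by rw [hcT]; norm_num
  have hcw : w * c * w⁻¹ = c ^ 3 := by
    rw [hro.wc, inv_eq_iff_mul_eq_one, ← pow_add]
    have h8 := pow_orderOf_eq_one c
    rwa [hro.oc] at h8
  rcases Cfsg.Agent.S5778.result 5 hF (by norm_num) (pre M) (pre_max hM) with ⟨W, hW0, hWs, he⟩ |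
    ⟨W, hW0, hWn, hW3, he⟩ | ⟨h5, -⟩ | ⟨-, h5, -⟩ | ⟨F₀, l, P, hl, hlo, hc, -, he⟩ | ⟨-, h7, -⟩ |
    ⟨p', R, hp', hqp, -, h11, -⟩ | hres
  · left
    obtain ⟨y, hy2, hy1, hyc⟩ := borel_comm 5 hF hW0 hWs he
    obtain ⟨g, hg⟩ := hro.eq_conj_B (k := 3) (by norm_num) hT5 hM hy2 hy1 hyc
    have hcM : Nat.card M = 1000 := by
      rw [← hcB, ← hg]
      exact (Cfsg.Agent.H938.Sax.card_comap (MulAut.conj g) M).symm
    have h3M : ¬ 3 ∣ Nat.card M := by rw [hcM]; norm_num
    have h7M : ¬ 7 ∣ Nat.card M := by rw [hcM]; norm_num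
    exact three_of (x := xr) (y := f6) (z := x3) (not_mem_of_dvd h7M (by rw [hxr]))
      (not_mem_of_dvd h3M (by rw [hf6o]; norm_num)) (not_mem_of_dvd h3M (by rw [hx3]))
      (by rw [hxr, hf6o]; norm_num) (by rw [hxr, hx3]; norm_num) (by rw [hf6o, hx3]; norm_num)
  · right
    have hrM := r_point h hW0 hW3 (he.trans_le inf_le_left)
    have hMc := point_card' hF (by norm_num) (by norm_num) hW0 hWn hW3 he
    have hM240 : Nat.card M ∣ 240 := by
      have h1 : 3 * Nat.card M ∣ 3 * 240 := by simpa using hMc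
      exact Nat.dvd_of_mul_dvd_mul_left (by norm_num) h1
    have hM25 : ¬ 5 ^ 2 ∣ Nat.card M := fun h9 => by
      have := h9.trans hM240
      revert this; norm_num
    obtain ⟨z5, hz5, hz5M⟩ := exists_missing_q hF (Or.inr rfl) hM25
    refine ⟨two_small hF (Or.inr rfl) h hrM hM25, fun R hR => ?_⟩
    have hx : ∀ φ : PSU 3 F 5 ≃* PSU 3 F 5, φ xr ∉ R := fun φ hφ => not_mem_of_dvd hrM (by rw [hxr]) φ (hR.le hφ)
    have hy : ∀ φ : PSU 3 F 5 ≃* PSU 3 F 5, φ z5 ∉ R := fun φ hφ => hz5M φ (hR.le hφ)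
    by_cases h5 : 5 ∣ Nat.card R
    swap
    · refine Three.of_two_primes (by norm_num : Nat.Prime 5) (by norm_num : Nat.Prime 7) (by norm_num)
        (by rw [hcT]; norm_num) h5 (fun h7 => hrM (h7.trans (Subgroup.card_dvd_of_le hR.le)))
        (not_SC_of_orderOf (by norm_num) (y := x10) (by rw [hx10]; norm_num) (by rw [hx10]; norm_num))
    by_cases h3 : 3 ∣ Nat.card R
    swap
    · exact three_of hx hy (not_mem_of_dvd h3 (x := x3) (by rw [hx3])) (by rw [hxr, hz5]; norm_num)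
        (by rw [hxr, hx3]; norm_num) (by rw [hz5, hx3]; norm_num)
    by_cases h8 : ∀ φ : PSU 3 F 5 ≃* PSU 3 F 5, φ c ∉ R
    · exact three_of hx hy h8 (by rw [hxr, hz5]; norm_num) (by rw [hxr, hro.oc]; norm_num)
        (by rw [hz5, hro.oc]; norm_num)
    exfalso
    push Not at h8
    obtain ⟨ψ, hψ⟩ := h8
    have hc'o : orderOf (ψ c) = 8 := by rw [MulEquiv.orderOf_eq, hro.oc]
    have hcR : Nat.card R = 120 := by
      have h8' : 8 ∣ Nat.card R := by rw [← hc'o]; exact orderOf_dvd_card_of_mem hψ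
      have h15 : 15 ∣ Nat.card R := Nat.lcm_dvd h3 h5
      have h120 : 120 ∣ Nat.card R := Nat.lcm_dvd h15 h8'
      have h1 : Nat.card R ∣ 240 := (Subgroup.card_dvd_of_le hR.le).trans hM240
      have h2 : Nat.card R ≠ 240 := by
        intro h96
        refine hR.ne (Subgroup.eq_of_le_of_card_ge hR.le ?_)
        rw [h96]
        exact Nat.le_of_dvd (by norm_num) hM240
      have key : ∀ n ∈ Nat.divisors 240, 120 ∣ n → n ≠ 240 → n = 120 := by decide
      exact key _ (Nat.mem_divisors.2 ⟨h1, by norm_num⟩) h120 h2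
    obtain ⟨x, y, hx5, hy3, hxy⟩ := exists_of_120 (G := R) hcR (w := ⟨ψ c, hψ⟩) (by rw [Subgroup.orderOf_mk, hc'o])
    have h1 := hro.card_cent_dvd (k := 3) (by norm_num) hT5 (y := (x : PSU 3 F 5)) (n := 1) (by
      have h8 := pow_orderOf_eq_one (x : PSU 3 F 5)
      rw [Subgroup.orderOf_coe, hx5] at h8
      rw [pow_one]; exact h8) (by
        intro h1
        have h2 : x = 1 := Subtype.ext h1
        rw [h2, orderOf_one] at hx5
        omega)
    have h2 : (y : PSU 3 F 5) ∈ centralizer ({(x : PSU 3 F 5)} : Set (PSU 3 F 5)) :=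
      Subgroup.mem_centralizer_singleton_iff.2 (congrArg Subtype.val hxy.eq.symm)
    have h4 := (orderOf_dvd_card_of_mem h2).trans h1
    rw [Subgroup.orderOf_coe, hy3, hcB] at h4
    revert h4; norm_num
  · exact absurd rfl h5
  · exact absurd rfl h5
  · exact (no_odd_root (Or.inr (Or.inr rfl)) hl hlo (by rw [← hc, hF]; norm_num)).elim
  · omega
  · omega
  · left
    obtain ⟨P, hP, hqp, hcases⟩ := Cfsg.Agent.S5779.result 5 hF (by norm_num) (pre M) (pre_max hM) hres
    have hMT : Nat.card M ∣ 126000 := by rw [← hcT]; exact Subgroup.card_subgroup_dvd_card M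
    -- elements of order `8` in subgroups of order divisible by `16`
    have h16 : 2 ^ 4 ∣ Nat.card M → ∃ g : PSU 3 F 5, g * c * g⁻¹ ∈ M ∧ g * w * g⁻¹ ∈ M := fun h16 =>
      sd_conj hT2 h16 hro.oc hro.w2 hcw
    rcases hcases with ⟨-, h5, -⟩ | ⟨⟨e⟩, -⟩ | ⟨⟨e⟩, -⟩
    · exact absurd rfl h5
    · -- `A₆`
      obtain ⟨M0, hM0n, ⟨i⟩⟩ := exists_core hF hP e
      have hM0 : Nat.card M0 = 360 := by
        rw [Nat.card_congr i.toEquiv]
        have h1 := card_alt 6 (by norm_num)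
        have h2 : Nat.factorial 6 = 720 := rfl
        rw [h2] at h1
        omega
      have hM1440 := card_dvd_aut hF hP e
      rw [Cfsg.Agent.H824.ProdLem.card_aut_a6] at hM1440
      have h360 : 360 ∣ Nat.card M := by rw [← hM0]; exact Subgroup.card_subgroup_dvd_card M0
      have hMcases : Nat.card M = 360 ∨ Nat.card M = 720 := by
        obtain ⟨k, hk⟩ := h360
        rw [hk] at hM1440 hMT
        have k1 : k ∣ 4 := Nat.dvd_of_mul_dvd_mul_left (by norm_num : 0 < 360) hM1440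
        have k2 : k ∣ 350 := Nat.dvd_of_mul_dvd_mul_left (by norm_num : 0 < 360) hMT
        have k3 : k ∣ Nat.gcd 4 350 := Nat.dvd_gcd k1 k2
        have k4 : k ∣ 2 := k3
        rcases (Nat.dvd_prime Nat.prime_two).1 k4 with rfl | rfl
        · left; rw [hk]
        · right; rw [hk]
      have h7M : ¬ 7 ∣ Nat.card M := by rcases hMcases with h1 | h1 <;> rw [h1] <;> norm_num
      have h25M : ¬ 5 ^ 2 ∣ Nat.card M := by rcases hMcases with h1 | h1 <;> rw [h1] <;> norm_num
      obtain ⟨z5, hz5, hz5M⟩ := exists_missing_q hF (Or.inr rfl) h25M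
      refine three_of (x := xr) (y := z5) (z := f6) (not_mem_of_dvd h7M (by rw [hxr])) hz5M
        (miss_of_order fun g hg => ?_) (by rw [hxr, hz5]; norm_num) (by rw [hxr, hf6o]; norm_num)
        (by rw [hz5, hf6o]; norm_num)
      rw [hf6o]
      rcases hMcases with h1 | h1
      · have h2 : M0 = ⊤ := Subgroup.eq_top_of_card_eq _ (by rw [hM0, h1])
        intro hg6
        have h3 : (⟨g, hg⟩ : M) ∈ M0 := by rw [h2]; trivial
        exact alt6_six (i ⟨⟨g, hg⟩, h3⟩) (by rw [MulEquiv.orderOf_eq, Subgroup.orderOf_mk, Subgroup.orderOf_mk, hg6])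
      · obtain ⟨k, hk1, hk2⟩ := h16 (by rw [h1]; norm_num)
        have := sd_no_six (G := M) h1 (c := ⟨k * c * k⁻¹, hk1⟩) (w := ⟨k * w * k⁻¹, hk2⟩)
          (by rw [Subgroup.orderOf_mk, orderOf_conj, hro.oc]) (Subtype.ext (by
            show k * w * k⁻¹ * (k * w * k⁻¹) = 1
            calc k * w * k⁻¹ * (k * w * k⁻¹) = k * (w * w) * k⁻¹ := by group
              _ = 1 := by rw [hro.w2]; group)) (Subtype.ext (by
            show k * w * k⁻¹ * (k * c * k⁻¹) * (k * w * k⁻¹)⁻¹ = (k * c * k⁻¹) ^ 3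
            rw [conj_pow, ← hcw]
            group)) hM0n i ⟨g, hg⟩
        rwa [Subgroup.orderOf_mk] at this
    · -- `A₇`
      obtain ⟨M0, hM0n, ⟨i⟩⟩ := exists_core hF hP e
      have hM0 : Nat.card M0 = 2520 := by
        rw [Nat.card_congr i.toEquiv]
        have h1 := card_alt 7 (by norm_num)
        have h2 : Nat.factorial 7 = 5040 := rfl
        rw [h2] at h1
        omega
      have hM5040 := (card_dvd_aut hF hP e).trans Cfsg.Agent.H947.El.card_aut_a7
      have h2520 : 2520 ∣ Nat.card M := by rw [← hM0]; exact Subgroup.card_subgroup_dvd_card M0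
      have h8M : ∀ g ∈ M, orderOf g ≠ 8 := fun g hg => a7_no_eight hF hP e hg
      have hMc : Nat.card M = 2520 := by
        obtain ⟨k, hk⟩ := h2520
        rw [hk] at hM5040
        have k4 : k ∣ 2 := Nat.dvd_of_mul_dvd_mul_left (by norm_num : 0 < 2520) hM5040
        rcases (Nat.dvd_prime Nat.prime_two).1 k4 with rfl | rfl
        · rw [hk]
        · obtain ⟨k, hk1, -⟩ := h16 (by rw [hk]; norm_num)
          exact absurd (by rw [orderOf_conj, hro.oc]) (h8M _ hk1)
      have h2 : M0 = ⊤ := Subgroup.eq_top_of_card_eq _ (by rw [hM0, hMc])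
      have h25M : ¬ 5 ^ 2 ∣ Nat.card M := by rw [hMc]; norm_num
      obtain ⟨z5, hz5, hz5M⟩ := exists_missing_q hF (Or.inr rfl) h25M
      refine three_of (x := c) (y := z5) (z := x10) (miss_of_order fun g hg => by rw [hro.oc]; exact h8M g hg) hz5M
        (miss_of_order fun g hg => ?_) (by rw [hro.oc, hz5]; norm_num) (by rw [hro.oc, hx10]; norm_num)
        (by rw [hz5, hx10]; norm_num)
      rw [hx10]
      intro hg10
      have h3 : (⟨g, hg⟩ : M) ∈ M0 := by rw [h2]; trivial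
      exact alt7_ten (i ⟨⟨g, hg⟩, h3⟩) (by rw [MulEquiv.orderOf_eq, Subgroup.orderOf_mk, Subgroup.orderOf_mk, hg10])

end Cfsg.Agent.H188.Der
end

-- part: H188/Der/U38
section
set_option linter.all false
open scoped Cfsg.Agent.FastGrp

/-!
# `RowS (PSU₃(8))` (helper188, task 2988)
-/

set_option autoImplicit false

namespace Cfsg.Agent.H188.Der

open Cfsg Cfsg.Geo Cfsg.Agent.H439.Der Cfsg.Agent.H918 Module Subgroup Cfsg.Agent.H322.Der
  Cfsg.Agent.ClassicalGeometry.PSUAutBasic Cfsg.Agent.LieClassical.HermSiegel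
  Cfsg.Agent.LieClassical.HermBasic Cfsg.Agent.LieClassical.SUBasic
open scoped MatrixGroups Matrix

theorem key38' : ∀ m < 24, m ∣ 24 → ∀ N ∈ ({21, 42} : Finset ℕ), N ∣ 63 * m →
    63 * m / N ≡ 1 [MOD 7] → 63 * m = 756 ∧ N = 21 := by decide

theorem key38 (n : ℕ) (h1512 : n ∣ 1512) (hlt : n < 1512) (h63 : 63 ∣ n) (N : ℕ) (hN : N ∈ ({21, 42} : Finset ℕ))
    (hd : N ∣ n) (h1 : n / N ≡ 1 [MOD 7]) : n = 756 ∧ N = 21 := by
  obtain ⟨m, rfl⟩ := h63
  exact key38' m (by omega) (Nat.dvd_of_mul_dvd_mul_left (by norm_num : 0 < 63) h1512) N hN hd h1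

/-- no proper subgroups of `3 × L₂(8)` with elements of order `21` and `9` -/
theorem fin38 {T : Type*} [Group T] [Finite T] {B U : Subgroup T} {c w : T} (h : RO T 2 8 21 B U c w)
    {R : Subgroup T} (hcR : c ∈ R) (h9 : 9 ∣ Nat.card R) (hR : Nat.card R ∣ 1512) (hR' : Nat.card R < 1512) :
    False := by
  have h7f : Fact (Nat.Prime 7) := ⟨by norm_num⟩
  set x : R := ⟨c ^ 3, R.pow_mem hcR 3⟩ with hx
  set c' : R := ⟨c, hcR⟩ with hc'
  have hxc : x = c' ^ 3 := rfl
  have hc'o : orderOf c' = 21 := by rw [hc', Subgroup.orderOf_mk, h.oc]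
  have hxo : orderOf x = 7 := by rw [hxc, orderOf_pow, hc'o]; rfl
  have h21 : 21 ∣ Nat.card R := by rw [← hc'o]; exact orderOf_dvd_natCard c'
  have h63 : 63 ∣ Nat.card R := by
    have := Nat.lcm_dvd h21 h9
    exact this
  have hcent : ∀ g : R, Commute g x → g ∈ zpowers c' := by
    intro g hg
    have h1 : Commute (g : T) (c ^ 3) := congrArg Subtype.val hg.eq
    have h2 := h.cent (k := 3) (by norm_num) (by
      intro h3
      have h4 := orderOf_dvd_of_pow_eq_one h3
      rw [h.oc] at h4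
      revert h4; norm_num) h1
    obtain ⟨n, hn⟩ := mem_zpowers_iff.1 h2
    exact mem_zpowers_iff.2 ⟨n, Subtype.ext hn⟩
  have hC : Nat.card (centralizer ({x} : Set R)) = 21 := by
    have h1 : centralizer ({x} : Set R) = zpowers c' := by
      apply le_antisymm
      · intro g hg
        exact hcent g (Subgroup.mem_centralizer_singleton_iff.1 hg)
      · rw [zpowers_le]
        refine Subgroup.mem_centralizer_singleton_iff.2 ?_
        rw [hxc]
        exact ((Commute.refl c').pow_right 3).eq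
    rw [h1, Nat.card_zpowers, hc'o]
  have hNle : Nat.card (normalizer (zpowers x : Set R)) ≤ 42 := by
    classical
    have h1 : ∀ g : normalizer (zpowers x : Set R), ∃ p : Bool × zpowers c,
        ((g : R) : T) = (if p.1 then w * (p.2 : T) else (p.2 : T)) := by
      intro g
      have h2 := (Subgroup.mem_normalizer_iff.1 g.2 x).1 (mem_zpowers x)
      rw [← SetLike.mem_coe, SetLike.mem_coe, ← mem_powers_iff_mem_zpowers] at h2
      obtain ⟨i, hi⟩ := h2
      have h3 : ((g : R) : T) * c ^ 3 * ((g : R) : T)⁻¹ = c ^ (3 * i) := by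
        rw [pow_mul]
        exact (congrArg Subtype.val hi).symm
      have h4 : ¬ (8 - 1) ∣ 3 * i := by
        intro h5
        have h6 : c ^ (3 * i) = 1 := by
          rw [← orderOf_dvd_iff_pow_eq_one, h.oc]
          have : 7 ∣ i := (Nat.Coprime.dvd_mul_left (by norm_num)).1 h5
          omega
        rw [h6] at h3
        have h7 : c ^ 3 = 1 := by
          rw [conj_eq_one_iff] at h3
          exact h3
        have h8 := orderOf_dvd_of_pow_eq_one h7
        rw [h.oc] at h8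
        revert h8; norm_num
      rcases h.of_conj (k := 3) (by norm_num) h4 h3 with h5 | ⟨n, hn, h5⟩
      · exact ⟨(false, ⟨_, h5⟩), rfl⟩
      · exact ⟨(true, ⟨n, hn⟩), h5⟩
    choose f hf using h1
    have hinj : Function.Injective f := by
      intro a b hab
      apply Subtype.ext
      apply Subtype.ext
      rw [hf a, hf b, hab]
    have h2 := Nat.card_le_card_of_injective f hinj
    rw [Nat.card_prod, Nat.card_zpowers, h.oc, Nat.card_eq_fintype_card (α := Bool), Fintype.card_bool] at h2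
    exact h2
  have hN21 : 21 ∣ Nat.card (normalizer (zpowers x : Set R)) := by
    rw [← hc'o]
    apply orderOf_dvd_card_of_mem
    apply mem_normalizer_of
    rw [hxc, ((Commute.refl c').pow_right 3).eq, mul_inv_cancel_right]
    exact mem_zpowers _
  have hNm : Nat.card (normalizer (zpowers x : Set R)) ∈ ({21, 42} : Finset ℕ) := by
    obtain ⟨k, hk⟩ := hN21
    have hpos : 0 < Nat.card (normalizer (zpowers x : Set R)) := Nat.card_pos
    rw [Finset.mem_insert, Finset.mem_singleton]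
    omega
  have h49 : ¬ 7 ^ 2 ∣ Nat.card R := fun h1 => by
    have := h1.trans hR
    revert this; norm_num
  have h1 := card_norm_mul_index x
  have h2 := index_norm_modEq (p := 7) (k := 1) (by rw [pow_one, hxo]) h49
  obtain ⟨h3, h4⟩ := key38 _ hR hR' h63 _ hNm ⟨_, h1.symm⟩ (by
    rw [← h1, Nat.mul_div_cancel_left _ Nat.card_pos]
    exact h2)
  exact no_756 h3 hxo hC h4

theorem rowS_u38 {F : Type*} [Field F] [Fintype F] (hF : Fintype.card F = 8 ^ 2) : RowS (PSU 3 F 8) := by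
  have hfin : Finite (PSU 3 F 8) := Quotient.finite _
  apply RowS.of_coatoms
  intro M hM
  obtain ⟨p, n, r, h, hchar⟩ := Cfsg.Agent.H947.El.exists_PN hF (by norm_num)
  have hp2 : p = 2 := char_two_of_pow (F := F) h.pp h.n0 (k := 3) h.qp
  subst hp2
  have hf2 : Fact (Nat.Prime 2) := ⟨Nat.prime_two⟩
  have hn3 : n = 3 := by
    have h1 : 2 ^ 3 = 2 ^ n := h.qp
    exact (Nat.pow_right_injective le_rfl h1).symm
  have hr18 : 18 < r := by
    have := h.ge
    omega
  have hrf : Fact r.Prime := ⟨h.pr⟩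
  have hrT := (Cfsg.Agent.H947.El.psu3_orders hF h).1
  -- the elements
  obtain ⟨xr, hxr⟩ := exists_prime_orderOf_dvd_card' r hrT
  obtain ⟨x4, hx4⟩ : ∃ x : PSU 3 F 8, orderOf x = 4 := by
    obtain ⟨R, hR, a, ha, b, hb, hab⟩ := Cfsg.Agent.H794.PsuNotAb.exists_pair (p := 2) (n := 3) hF le_rfl
    exact exists_orderOf_four hR ha hb hab
  obtain ⟨a, ha, hgen⟩ := exists_gen hF (by norm_num)
  have hao := orderOf_gen ha hgen
  have hf9 : orderOf (pr 3 F 8 (tor 8 a ha)) = 9 := by rw [orderOf_tor hF, hao]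
  have ha3 : (a ^ 3) ^ (8 + 1) = 1 := by rw [← pow_mul, mul_comm, pow_mul, ha, one_pow]
  have ha3o : orderOf (a ^ 3) = 3 := by
    rw [orderOf_pow_of_dvd (by norm_num) (by rw [hao]; norm_num), hao]
  have hf3 : orderOf (pr 3 F 8 (tor 8 (a ^ 3) ha3)) = 3 := by rw [orderOf_tor hF, ha3o]
  obtain ⟨B, U, c, w, hro⟩ := exists_ro (p := 2) hF (by norm_num)
  have hN : (8 ^ 2 - 1) / Nat.gcd 3 (8 + 1) = 21 := by decide
  rw [hN] at hro
  have h7 : ¬ SC (PSU 3 F 8) 7 := not_SC_of_orderOf (by norm_num) (y := c) (by rw [hro.oc]; norm_num)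
    (by rw [hro.oc]; norm_num)
  have hrp := h.pr
  have hr21 : r ≠ 21 := by rintro rfl; revert hrp; norm_num
  rcases Cfsg.Agent.S5778.result 8 hF (by norm_num) (pre M) (pre_max hM) with ⟨W, hW0, hWs, he⟩ |
    ⟨W, hW0, hWn, hW3, he⟩ | ⟨-, D, hD, he⟩ | ⟨-, -, K, hK, -, he⟩ | ⟨F₀, l, P, hl, hlo, hc, -, he⟩ |
    ⟨hodd, -⟩ | ⟨p', R, hp', hqp, -, h11, -⟩ | hres
  · left
    have hW3 : 2 * finrank F W < 3 := by
      rw [finrank_one_of_iso hF hW0 hWs]; norm_num
    have hrM := r_point h hW0 hW3 (he.trans_le inf_le_left)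
    obtain ⟨e1, e2, e3⟩ := reg_of_order (a := a) (by rw [hao]; norm_num)
    obtain ⟨e1', e2', e3'⟩ := reg_of_order (a := a ^ 3) (by rw [ha3o]; norm_num)
    refine three_of (x := xr) (y := pr 3 F 8 (tor 8 a ha)) (z := pr 3 F 8 (tor 8 (a ^ 3) ha3))
      (not_mem_of_dvd hrM (by rw [hxr])) (borel_miss 2 hF hW0 hWs he ha e1 e2 e3)
      (borel_miss 2 hF hW0 hWs he ha3 e1' e2' e3') ?_ ?_ ?_
    · rw [hxr, hf9]; omega
    · rw [hxr, hf3]; omega
    · rw [hf9, hf3]; norm_num
  · right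
    have hrM := r_point h hW0 hW3 (he.trans_le inf_le_left)
    have h4M : ∀ g ∈ M, orderOf g ≠ 4 := fun g hg => point_no_four hF hW0 hWn hW3 he hg
    refine ⟨two_even hF h hrM h4M, fun R hR => ?_⟩
    have hMc := point_card' hF (by norm_num) (by norm_num) hW0 hWn hW3 he
    have hM1512 : Nat.card M ∣ 1512 := by
      have h1 : 3 * Nat.card M ∣ 3 * 1512 := by simpa using hMc
      exact Nat.dvd_of_mul_dvd_mul_left (by norm_num) h1
    have hx : ∀ φ : PSU 3 F 8 ≃* PSU 3 F 8, φ xr ∉ R := fun φ hφ => not_mem_of_dvd hrM (by rw [hxr]) φ (hR.le hφ)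
    have hy : ∀ φ : PSU 3 F 8 ≃* PSU 3 F 8, φ x4 ∉ R := fun φ hφ =>
      miss_of_order (x := x4) (fun g hg => by rw [hx4]; exact h4M g hg) φ (hR.le hφ)
    by_cases h9 : ∀ φ : PSU 3 F 8 ≃* PSU 3 F 8, φ (pr 3 F 8 (tor 8 a ha)) ∉ R
    · exact three_of hx hy h9 (by rw [hxr, hx4]; omega) (by rw [hxr, hf9]; omega) (by rw [hx4, hf9]; norm_num)
    by_cases h21 : ∀ φ : PSU 3 F 8 ≃* PSU 3 F 8, φ c ∉ R
    · exact three_of hx hy h21 (by rw [hxr, hx4]; omega) (by rw [hxr, hro.oc]; exact hr21)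
        (by rw [hx4, hro.oc]; norm_num)
    exfalso
    push Not at h9 h21
    obtain ⟨φ, hφ⟩ := h9
    obtain ⟨ψ, hψ⟩ := h21
    have hRc : Nat.card (R.comap ψ.toMonoidHom) = Nat.card R := Cfsg.Agent.H938.Sax.card_comap ψ R
    refine fin38 hro (R := R.comap ψ.toMonoidHom) hψ ?_ ?_ ?_
    · rw [hRc]
      have h1 := orderOf_dvd_card_of_mem hφ
      rwa [Cfsg.Agent.H938.Sax.orderOf_mulEquiv, hf9] at h1
    · rw [hRc]
      exact (Subgroup.card_dvd_of_le hR.le).trans hM1512
    · rw [hRc]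
      refine lt_of_lt_of_le ?_ (Nat.le_of_dvd (by norm_num) hM1512)
      by_contra hlt
      push Not at hlt
      exact hR.ne (Subgroup.eq_of_le_of_card_ge hR.le hlt)
  · left
    have hor : ∀ g ∈ M, orderOf g ∣ 3 ∨ orderOf g ∣ 18 := fun g hg => dec_order hD (he.trans_le inf_le_left) hg
    refine three_of (x := xr) (y := x4) (z := c) (miss_of_order fun g hg hgo => ?_)
      (miss_of_order fun g hg hgo => ?_) (miss_of_order fun g hg hgo => ?_) (by rw [hxr, hx4]; omega)
      (by rw [hxr, hro.oc]; exact hr21) (by rw [hx4, hro.oc]; norm_num)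
    · rcases hor g hg with h1 | h1
      · have := Nat.le_of_dvd (by norm_num) h1
        omega
      · have := Nat.le_of_dvd (by norm_num) h1
        omega
    · rcases hor g hg with h1 | h1 <;> rw [hgo, hx4] at h1 <;> revert h1 <;> norm_num
    · rcases hor g hg with h1 | h1 <;> rw [hgo, hro.oc] at h1 <;> revert h1 <;> norm_num
  · left
    have h2M := field_odd hK (he.trans_le inf_le_left)
    obtain ⟨x6, hx6⟩ := exists_order_mul 2 hF (by norm_num) (by norm_num)
    have hx6' : orderOf x6 = 6 := by rw [hx6]; decide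
    obtain ⟨x2, hx2⟩ := exists_prime_orderOf_dvd_card' 2 (Cfsg.Agent.H947.El.psu3_orders hF h).2.1
    exact Three.of_not_dvd h2M (not_SCC_of_orders (x := x2) (y := x4) (z := x6) (by rw [hx2]) (by rw [hx4]; norm_num)
      (by rw [hx6']; norm_num) (by rw [hx2, hx4]; norm_num) (by rw [hx2, hx6']; norm_num)
      (by rw [hx4, hx6']; norm_num)) ⟨x2, by rw [hx2]⟩
  · left
    have h0 : Nat.card F₀ = 4 := root_64 hl hlo (by rw [← hc, hF])
    have h7M := subfield_no_seven hF h0 (he.trans_le inf_le_left)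
    have hr := r_subfield h hl.two_le hc (he.trans_le inf_le_left)
    exact Three.of_two_primes (v := 7) (w := r) (by norm_num) h.pr (by omega) hrT h7M hr h7
  · exact absurd hodd (by decide)
  · omega
  · obtain ⟨P, hP, hqp, -⟩ := Cfsg.Agent.S5779.result 8 hF (by norm_num) (pre M) (pre_max hM) hres
    exact absurd hqp (by norm_num)

end Cfsg.Agent.H188.Der

private theorem dce_7c9a29fd4e08 : _root_.True := by
  try have : _root_.True := by simp only [_root_.Cfsg.Agent.H322.Der.tor.congr_simp]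
  exact _root_.True.intro
end

-- part: H205/Der/PslB
section
prune_inst 0xf1106544386202000000058053201c26d60001b0002b0000890008400481cd0000c04760b6b01102108e020548350068110000a0420000000a000400011d00800088140030000008820018000084000000000000000000000000000000000004000000000
set_option linter.all false
open scoped Cfsg.Agent.FastGrp

-- part: H205/Der/PslComp
section
/-!
# Semisimple elements of composite order in `PSL_n(q)` and automorphisms (helper205, S3502)

`x ∈ SL_n(q)` of order `N`, all primes `r ∣ N` with `ord_r(q) = e`, `N ∣ q ^ e - 1`, `N` prime to `q - 1`, `n < 2 e`: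
if `x ^ k` is (modulo scalars) the image of `x` under an automorphism then `k ≡ ± p ^ m` modulo `N`.
So at most `2 e f` of the `φ(N)` generators of `⟨x⟩` are in one `Aut`-class.
-/

set_option autoImplicit false

namespace Cfsg.Agent.H205.DerPsl

open Matrix Polynomial Cfsg.Agent.ClassicalGeometry.AutPSL.Root Cfsg.Agent.ClassicalGeometry.AutPSL.Auto
  Cfsg.Agent.H199.PslAut Cfsg.Agent.H39.DerPsl Cfsg.Agent.H439.Der

section spec

variable {F : Type*} [Field F] {n : ℕ} {K : Type*} [Field K] [Algebra F K]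

theorem ev_pow_surj [IsAlgClosed K] {x : Matrix (Fin n) (Fin n) F} {m : ℕ} (hm : 0 < m) {ν : K}
    (h : ν ∈ Ev K (x ^ m)) : ∃ μ ∈ Ev K x, μ ^ m = ν := by
  rw [mem_ev_iff_spectrum, map_pow', spectrum.map_pow_of_pos _ hm] at h
  obtain ⟨μ, hμ, h1⟩ := h
  exact ⟨μ, mem_ev_iff_spectrum.2 hμ, h1⟩

theorem orderOf_ev_dvd {N : ℕ} {x : Matrix (Fin n) (Fin n) F} (hx : x ^ N = 1) {μ : K} (h : μ ∈ Ev K x) :
    orderOf μ ∣ N := by
  apply orderOf_dvd_of_pow_eq_one
  have h1 := ev_pow h N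
  rw [hx] at h1
  exact ev_one h1

/-- the eigenvalues different from `1` form one orbit of the Frobenius -/
theorem ev_orbit' [Fintype F] {N e : ℕ} (hN : 0 < N) (hNe : N ∣ Fintype.card F ^ e - 1)
    (hprim : ∀ r : ℕ, r.Prime → r ∣ N → orderOf ((Fintype.card F : ℕ) : ZMod r) = e)
    {x : Matrix (Fin n) (Fin n) F} (hx : x ^ N = 1)
    (hdeg : n < 2 * e) {l μ : K} (hl : l ∈ Ev K x) (hl1 : l ≠ 1)
    (hμ : μ ∈ Ev K x) (hμ1 : μ ≠ 1) : ∃ i : ℕ, μ = l ^ (Fintype.card F ^ i) := by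
  classical
  set q := Fintype.card F with hq
  have hq1 : 1 < q := Fintype.one_lt_card
  by_contra hcon
  push Not at hcon
  have hpow : ∀ (ν : K), ν ∈ Ev K x → ∀ i : ℕ, ν ^ (q ^ i) ∈ Ev K x := by
    intro ν hν i
    induction i with
    | zero => simpa using hν
    | succ i ih =>
      rw [pow_succ q i, pow_mul]
      exact ev_frob ih
  have hinj : ∀ (ν : K), ν ∈ Ev K x → ν ≠ 1 → ∀ i < e, ∀ j < e, ν ^ (q ^ i) = ν ^ (q ^ j) → i = j := by
    intro ν hν hν1 i hi j hj hij
    have h1 := orderOf_ev_dvd hx hν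
    have h2 : orderOf ν ≠ 1 := fun h => hν1 (orderOf_eq_one_iff.1 h)
    obtain ⟨r, hr, hrd⟩ := Nat.exists_prime_and_dvd h2
    have h3 : 0 < orderOf ν := Nat.pos_of_ne_zero fun h => by
      rw [h] at h1
      exact hN.ne' (Nat.eq_zero_of_zero_dvd h1)
    rw [pow_eq_iff h3 rfl] at hij
    have h4 : ((q ^ i : ℕ) : ZMod r) = ((q ^ j : ℕ) : ZMod r) := by
      rw [ZMod.natCast_eq_natCast_iff] at hij ⊢
      exact hij.of_dvd hrd
    push_cast at h4
    have he := hprim r hr (hrd.trans h1)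
    exact pow_injOn_Iio_orderOf (by rw [he]; exact hi) (by rw [he]; exact hj) h4
  have hfix : ∀ ν : K, ν ∈ Ev K x → ν ^ (q ^ e) = ν := by
    intro ν hν
    have h1 := (orderOf_ev_dvd hx hν).trans hNe
    have h2 : ν ^ (q ^ e - 1) = 1 := orderOf_dvd_iff_pow_eq_one.1 h1
    have h3 : q ^ e = (q ^ e - 1) + 1 := by
      have : 1 ≤ q ^ e := Nat.one_le_pow _ _ (by omega)
      omega
    rw [h3, pow_succ, h2, one_mul]
  let R : Finset K := (x.charpoly.map (algebraMap F K)).roots.toFinset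
  have hR : R.card ≤ n := by
    refine (Multiset.toFinset_card_le _).trans ((Polynomial.card_roots' _).trans ?_)
    rw [Polynomial.natDegree_map, Matrix.charpoly_natDegree_eq_dim, Fintype.card_fin]
  have hmem : ∀ ν : K, ν ∈ Ev K x → ν ∈ R := by
    intro ν hν
    rw [Multiset.mem_toFinset, Polynomial.mem_roots ((Matrix.charpoly_monic x).map _).ne_zero,
      Polynomial.IsRoot.def, ← eval₂_eq_eval_map, ← aeval_def]
    exact hν
  let f : Bool × Fin e → K := fun a => cond a.1 (l ^ (q ^ (a.2 : ℕ))) (μ ^ (q ^ (a.2 : ℕ)))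
  have hmix : ∀ i < e, ∀ j < e, l ^ (q ^ i) ≠ μ ^ (q ^ j) := by
    intro i hi j hj h
    refine hcon (i + (e - j)) ?_
    rw [pow_add q, pow_mul, h, ← pow_mul, ← pow_add, show j + (e - j) = e by omega]
    exact (hfix μ hμ).symm
  have hf : Function.Injective f := by
    rintro ⟨a, i⟩ ⟨b, j⟩ h
    cases a <;> cases b
    · have h1 : μ ^ (q ^ (i : ℕ)) = μ ^ (q ^ (j : ℕ)) := h
      rw [Fin.ext (hinj μ hμ hμ1 i i.2 j j.2 h1)]
    · have h1 : μ ^ (q ^ (i : ℕ)) = l ^ (q ^ (j : ℕ)) := h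
      exact absurd h1.symm (hmix j j.2 i i.2)
    · have h1 : l ^ (q ^ (i : ℕ)) = μ ^ (q ^ (j : ℕ)) := h
      exact absurd h1 (hmix i i.2 j j.2)
    · have h1 : l ^ (q ^ (i : ℕ)) = l ^ (q ^ (j : ℕ)) := h
      rw [Fin.ext (hinj l hl hl1 i i.2 j j.2 h1)]
  have hcard : (Finset.univ : Finset (Bool × Fin e)).card ≤ R.card := by
    refine Finset.card_le_card_of_injOn f (fun a _ => ?_) hf.injOn
    apply hmem
    rcases a with ⟨a, i⟩
    cases a
    · exact hpow μ hμ i
    · exact hpow l hl i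
  rw [Finset.card_univ, Fintype.card_prod, Fintype.card_bool, Fintype.card_fin] at hcard
  omega

end spec

variable {F : Type*} [Field F] {n : ℕ}

/-- **The exponent.** -/
theorem exp_of_aut' [Fintype F] (hn : 2 ≤ n) {p : ℕ} [hp : Fact p.Prime] [CharP F p]
    {N e : ℕ} (hN : 1 < N) (hNp : Nat.Coprime N p) (hco : Nat.Coprime N (Fintype.card F - 1))
    (hNe : N ∣ Fintype.card F ^ e - 1)
    (hprim : ∀ r : ℕ, r.Prime → r ∣ N → orderOf ((Fintype.card F : ℕ) : ZMod r) = e)
    (hdeg : n < 2 * e) {x : Matrix.SpecialLinearGroup (Fin n) F} (hx : orderOf x = N)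
    {k : ℕ} (hk : Nat.Coprime k N) (φ : MulAut (Matrix.ProjectiveSpecialLinearGroup (Fin n) F))
    (hφ : φ (pr x) = pr x ^ k) :
    ∃ m : ℕ, (k : ZMod N) = (p : ZMod N) ^ m ∨ (k : ZMod N) = - (p : ZMod N) ^ m := by
  have hN0 : 0 < N := by omega
  let K := AlgebraicClosure F
  have hcK : CharP K p := charP_of_injective_algebraMap (algebraMap F K).injective p
  obtain ⟨f, -, hqf⟩ := FiniteField.card F p
  have hxN : (x : Matrix (Fin n) (Fin n) F) ^ N = 1 := by
    have h1 : x ^ N = 1 := by rw [← hx, pow_orderOf_eq_one]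
    have := congrArg Subtype.val h1
    simpa using this
  have hx1 : (x : Matrix (Fin n) (Fin n) F) ≠ 1 := by
    intro h
    have h1 : x = 1 := Subtype.ext h
    rw [h1, orderOf_one] at hx
    omega
  obtain ⟨l, hl, hl1⟩ := exists_ev_ne_one (K := K) hNp hxN hx1
  -- the order of `l`
  have hol : orderOf l = N := by
    have h1 := orderOf_ev_dvd hxN hl
    have h2 : 0 < orderOf l := Nat.pos_of_dvd_of_pos h1 hN0
    have h3 : (x : Matrix (Fin n) (Fin n) F) ^ orderOf l = 1 := by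
      by_contra hne
      have h4 : ((x : Matrix (Fin n) (Fin n) F) ^ orderOf l) ^ N = 1 := by
        rw [← pow_mul, mul_comm, pow_mul, hxN, one_pow]
      obtain ⟨ν, hν, hν1⟩ := exists_ev_ne_one (K := K) hNp h4 hne
      obtain ⟨μ, hμ, rfl⟩ := ev_pow_surj h2 hν
      apply hν1
      by_cases hμ1 : μ = 1
      · rw [hμ1, one_pow]
      · obtain ⟨i, rfl⟩ := ev_orbit' hN0 hNe hprim hxN hdeg hl hl1 hμ hμ1
        rw [← pow_mul, mul_comm, pow_mul, pow_orderOf_eq_one, one_pow]
    have h5 : x ^ orderOf l = 1 := by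
      apply Subtype.ext
      simpa using h3
    have h6 := orderOf_dvd_of_pow_eq_one h5
    rw [hx] at h6
    exact Nat.dvd_antisymm h1 h6
  -- the automorphisms
  have main : ∀ (g : GL (Fin n) F) (σ : F ≃+* F) (y : Matrix.SpecialLinearGroup (Fin n) F), y ^ N = 1 →
      Psi n F g (phi n F σ (pr y)) = pr x ^ k →
      ∃ j : ℕ, ∃ μ ∈ Ev K (y : Matrix (Fin n) (Fin n) F), μ ^ p ^ j = l ^ k := by
    intro g σ y hy h
    rw [phi_pr, Psi_pr, ← map_pow] at h
    have h1 : cj g (fld σ y) = x ^ k := by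
      refine eq_of_pr_eq (by omega) hco ?_ ?_ h
      · rw [← map_pow, ← map_pow, hy, map_one, map_one]
      · rw [← pow_mul, mul_comm, pow_mul, ← hx, pow_orderOf_eq_one, one_pow]
    obtain ⟨j, hj⟩ := exists_frob (p := p) σ
    have h2 : l ^ k ∈ Ev K ((y : Matrix (Fin n) (Fin n) F).map σ) := by
      have h3 := ev_pow hl k
      have h4 : (x : Matrix (Fin n) (Fin n) F) ^ k = (g : Matrix (Fin n) (Fin n) F) *
          (y : Matrix (Fin n) (Fin n) F).map σ * ((g⁻¹ : GL (Fin n) F) : Matrix (Fin n) (Fin n) F) := by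
        rw [← Matrix.SpecialLinearGroup.coe_pow, ← h1]
        rfl
      rw [h4, ev_conj] at h3
      exact h3
    obtain ⟨μ, hμ, hμ2⟩ := ev_map (K := K) (σ := σ) (τ := iterateFrobenius K p j)
      (fun a => by rw [iterateFrobenius_def, hj, map_pow]) (bijective_iterateFrobenius (R := K) (p := p) (n := j)).2 h2
    exact ⟨j, μ, hμ, by rw [← hμ2, iterateFrobenius_def]⟩
  have hxg : x ^ N = 1 := by rw [← hx, pow_orderOf_eq_one]
  have hlk : l ^ k ≠ 1 := by
    intro h
    have h1 := orderOf_dvd_of_pow_eq_one h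
    rw [hol] at h1
    have h2 : N ∣ 1 := by
      rw [← hk.symm]
      exact Nat.dvd_gcd dvd_rfl h1
    exact hN.ne' (Nat.dvd_one.1 h2)
  rcases exists_form hn φ with ⟨g, σ, rfl⟩ | ⟨-, g, σ, rfl⟩
  · obtain ⟨j, μ, hμ, h⟩ := main g σ x hxg hφ
    have hμ1 : μ ≠ 1 := by
      rintro rfl
      rw [one_pow] at h
      exact hlk h.symm
    obtain ⟨i, rfl⟩ := ev_orbit' hN0 hNe hprim hxN hdeg hl hl1 hμ hμ1
    rw [← pow_mul, pow_eq_iff hN0 hol, hqf] at h
    refine ⟨f * i + j, Or.inl ?_⟩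
    rw [← h]
    push_cast
    rw [← pow_mul, ← pow_add]
  · obtain ⟨j, μ, hμ, h⟩ := main g σ (itr x) (by rw [← map_pow, hxg, map_one]) hφ
    have h1 : ((itr x : Matrix.SpecialLinearGroup (Fin n) F) : Matrix (Fin n) (Fin n) F) =
        ((x⁻¹ : Matrix.SpecialLinearGroup (Fin n) F) : Matrix (Fin n) (Fin n) F)ᵀ := rfl
    rw [h1, ev_transpose] at hμ
    have hμ' := ev_inv hμ
    have hl0 : l ≠ 0 := by
      rintro rfl
      have h1 : (0 : K) ^ N = 1 := by rw [← hol, pow_orderOf_eq_one]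
      rw [zero_pow hN0.ne'] at h1
      exact zero_ne_one h1
    have hμ1 : μ⁻¹ ≠ 1 := by
      intro h0
      rw [inv_eq_one] at h0
      subst h0
      rw [one_pow] at h
      exact hlk h.symm
    obtain ⟨i, hi⟩ := ev_orbit' hN0 hNe hprim hxN hdeg hl hl1 hμ' hμ1
    have h3 : l ^ (k + Fintype.card F ^ i * p ^ j) = l ^ 0 := by
      rw [pow_zero, pow_add, ← h, pow_mul, ← hi, inv_pow, mul_inv_cancel₀]
      exact pow_ne_zero _ (by rintro rfl; rw [_root_.inv_zero] at hi; exact pow_ne_zero _ hl0 hi.symm)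
    rw [pow_eq_iff hN0 hol, hqf] at h3
    refine ⟨f * i + j, Or.inr ?_⟩
    push_cast at h3
    rw [← pow_mul, ← pow_add] at h3
    exact eq_neg_of_add_eq_zero_left h3

/-- the elements `± p ^ m` of `ZMod N` -/
def PM (p N : ℕ) : Set (ZMod N) := {k | ∃ m : ℕ, k = (p : ZMod N) ^ m ∨ k = - (p : ZMod N) ^ m}

theorem pow_mod {p N T : ℕ} (h : (p : ZMod N) ^ T = 1) (m : ℕ) : (p : ZMod N) ^ m = (p : ZMod N) ^ (m % T) := by
  conv_lhs => rw [← Nat.div_add_mod m T, pow_add, pow_mul, h, one_pow, one_mul]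

theorem card_pm_le {p N T : ℕ} [NeZero N] (hT : 0 < T) (h : (p : ZMod N) ^ T = 1) : (PM p N).ncard ≤ 2 * T := by
  classical
  have h1 : PM p N ⊆ ((Finset.univ : Finset (Bool × Fin T)).image fun a =>
      cond a.1 ((p : ZMod N) ^ (a.2 : ℕ)) (- (p : ZMod N) ^ (a.2 : ℕ)) : Finset (ZMod N)) := by
    rintro k ⟨m, hk | hk⟩
    · rw [Finset.coe_image]
      exact ⟨(true, ⟨m % T, Nat.mod_lt _ hT⟩), Finset.mem_coe.2 (Finset.mem_univ _), by
        rw [hk, pow_mod h m]; rfl⟩
    · rw [Finset.coe_image]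
      exact ⟨(false, ⟨m % T, Nat.mod_lt _ hT⟩), Finset.mem_coe.2 (Finset.mem_univ _), by
        rw [hk, pow_mod h m]; rfl⟩
  refine (Set.ncard_le_ncard h1 (Finset.finite_toSet _)).trans ?_
  rw [Set.ncard_coe_finset]
  refine Finset.card_image_le.trans ?_
  rw [Finset.card_univ, Fintype.card_prod, Fintype.card_bool, Fintype.card_fin]

/-- with `-1` a power of `p` -/
theorem card_pm_le' {p N T s : ℕ} [NeZero N] (hT : 0 < T) (h : (p : ZMod N) ^ T = 1) (hs : (p : ZMod N) ^ s = -1) :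
    (PM p N).ncard ≤ T := by
  classical
  have h1 : PM p N ⊆ ((Finset.univ : Finset (Fin T)).image (fun a : Fin T => ((p : ZMod N) ^ (a : ℕ))) :
      Finset (ZMod N)) := by
    rintro k ⟨m, hk | hk⟩
    · rw [Finset.coe_image]
      exact ⟨⟨m % T, Nat.mod_lt _ hT⟩, Finset.mem_coe.2 (Finset.mem_univ _), by
        rw [hk, pow_mod h m]⟩
    · rw [Finset.coe_image]
      refine ⟨⟨(s + m) % T, Nat.mod_lt _ hT⟩, Finset.mem_coe.2 (Finset.mem_univ _), ?_⟩
      show (p : ZMod N) ^ ((s + m) % T) = k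
      rw [hk, ← pow_mod h, pow_add, hs, neg_one_mul]
  refine (Set.ncard_le_ncard h1 (Finset.finite_toSet _)).trans ?_
  rw [Set.ncard_coe_finset]
  refine Finset.card_image_le.trans ?_
  rw [Finset.card_univ, Fintype.card_fin]

/-- **The size of the classes**: a set `S` of units `k` modulo `N` such that all `x ^ k` are in one `Aut`-class. -/
theorem card_class_le [Fintype F] (hn : 2 ≤ n) {p : ℕ} [hp : Fact p.Prime] [CharP F p]
    {N e : ℕ} (hN : 1 < N) (hNp : Nat.Coprime N p) (hco : Nat.Coprime N (Fintype.card F - 1))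
    (hNe : N ∣ Fintype.card F ^ e - 1)
    (hprim : ∀ r : ℕ, r.Prime → r ∣ N → orderOf ((Fintype.card F : ℕ) : ZMod r) = e)
    (hdeg : n < 2 * e) {x : Matrix.SpecialLinearGroup (Fin n) F} (hx : orderOf x = N)
    (S : Finset ℕ) (hS : ∀ k ∈ S, k < N ∧ Nat.Coprime k N) (a : Matrix.ProjectiveSpecialLinearGroup (Fin n) F)
    (ha : ∀ k ∈ S, ∃ φ : Matrix.ProjectiveSpecialLinearGroup (Fin n) F ≃* Matrix.ProjectiveSpecialLinearGroup (Fin n) F,
      φ a = pr x ^ k) : S.card ≤ (PM p N).ncard := by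
  classical
  have hN0 : 0 < N := by omega
  have : NeZero N := ⟨hN0.ne'⟩
  rcases S.eq_empty_or_nonempty with rfl | ⟨k₀, hk₀⟩
  · simp
  obtain ⟨hk₀N, hk₀c⟩ := hS k₀ hk₀
  obtain ⟨φ₀, hφ₀⟩ := ha k₀ hk₀
  -- the inverse of `k₀`
  let u : (ZMod N)ˣ := ZMod.unitOfCoprime k₀ hk₀c
  let i₀ : ℕ := ((u⁻¹ : (ZMod N)ˣ) : ZMod N).val
  have hi₀ : (i₀ : ZMod N) = ((u⁻¹ : (ZMod N)ˣ) : ZMod N) := ZMod.natCast_zmod_val _
  have hu : ((u : (ZMod N)ˣ) : ZMod N) = k₀ := ZMod.coe_unitOfCoprime k₀ hk₀c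
  have hi₀c : Nat.Coprime i₀ N := by
    have h1 : IsUnit (i₀ : ZMod N) := by rw [hi₀]; exact Units.isUnit _
    exact (ZMod.isUnit_iff_coprime i₀ N).1 h1
  have hki : (((k₀ * i₀ : ℕ)) : ZMod N) = 1 := by
    push_cast
    rw [hi₀, ← hu, Units.mul_inv]
  -- the element `y = x ^ k₀`
  have hy : orderOf (x ^ k₀) = N := by
    rw [Nat.Coprime.orderOf_pow (by rw [hx]; exact hk₀c.symm), hx]
  have hxk : ∀ k : ℕ, x ^ k = (x ^ k₀) ^ (i₀ * k) := by
    intro k
    rw [← pow_mul, pow_eq_pow_iff_modEq, hx, ← ZMod.natCast_eq_natCast_iff]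
    push_cast
    have := hki
    push_cast at this
    rw [← mul_assoc, this, one_mul]
  rw [Set.ncard_eq_toFinset_card (PM p N)]
  refine Finset.card_le_card_of_injOn (fun k : ℕ => (i₀ : ZMod N) * (k : ZMod N)) ?_ ?_
  · intro k hk
    have hk' : k ∈ S := hk
    obtain ⟨φ, hφ⟩ := ha k hk'
    rw [Finset.mem_coe, Set.Finite.mem_toFinset]
    show (i₀ : ZMod N) * (k : ZMod N) ∈ PM p N
    have e1 : pr (x ^ k₀) = φ₀ a := by rw [map_pow, hφ₀]
    have e2 : pr (x ^ k₀) ^ (i₀ * k) = φ a := by rw [← map_pow, ← hxk, map_pow, hφ]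
    have h1 : (φ₀.symm.trans φ) (pr (x ^ k₀)) = pr (x ^ k₀) ^ (i₀ * k) := by
      rw [e2, e1, MulEquiv.trans_apply, MulEquiv.symm_apply_apply]
    have h2 : Nat.Coprime (i₀ * k) N := Nat.Coprime.mul_left hi₀c (hS k hk').2
    obtain ⟨m, hm⟩ := exp_of_aut' hn hN hNp hco hNe hprim hdeg hy h2 _ h1
    refine ⟨m, ?_⟩
    push_cast at hm
    exact hm
  · intro k hk k' hk' hkk
    have h1 : (i₀ : ZMod N) * (k : ZMod N) = (i₀ : ZMod N) * (k' : ZMod N) := hkk
    have h2 : (k : ZMod N) = (k' : ZMod N) := by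
      rw [hi₀] at h1
      exact (Units.mul_right_inj u⁻¹).1 h1
    rw [ZMod.natCast_eq_natCast_iff] at h2
    exact Nat.ModEq.eq_of_lt_of_lt h2 (hS k hk).1 (hS k' hk').1

/-- the hypotheses on the element -/
structure Elt (F : Type*) [Field F] [Fintype F] (n p N e : ℕ) : Prop where
  n2 : 2 ≤ n
  N1 : 1 < N
  cop : Nat.Coprime N p
  coq : Nat.Coprime N (Fintype.card F - 1)
  dvd : N ∣ Fintype.card F ^ e - 1
  prim : ∀ r : ℕ, r.Prime → r ∣ N → orderOf ((Fintype.card F : ℕ) : ZMod r) = e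
  deg : n < 2 * e
  len : e ≤ n

/-- there is an element of order `N` in `SL_n(q)` -/
theorem Elt.exists_sl [Fintype F] {p N e : ℕ} (h : Elt F n p N e) :
    ∃ x : Matrix.SpecialLinearGroup (Fin n) F, orderOf x = N := by
  classical
  have he : e ≠ 0 := by have := h.deg; omega
  obtain ⟨A, hA1, hA2, hA3⟩ := Cfsg.Agent.H72.AdjPSL.hasBlock_singer (F := F) he h.dvd h.coq
  obtain ⟨c, hc⟩ : ∃ c, n = e + c := ⟨n - e, by have := h.len; omega⟩
  let e' : Fin n ≃ Fin e ⊕ Fin c := (finCongr hc).trans finSumFinEquiv.symm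
  have hs : ∀ (M : Matrix (Fin e ⊕ Fin c) (Fin e ⊕ Fin c) F) (k : ℕ),
      (M.submatrix e' e') ^ k = (M ^ k).submatrix e' e' := by
    intro M k
    induction k with
    | zero => rw [pow_zero, pow_zero, Matrix.submatrix_one_equiv]
    | succ k ih => rw [pow_succ, ih, Matrix.submatrix_mul_equiv, ← pow_succ]
  let y : Matrix.SpecialLinearGroup (Fin n) F := ⟨(fromBlocks A 0 0 1).submatrix e' e', by
    rw [Matrix.det_submatrix_equiv_self, Matrix.det_fromBlocks_zero₂₁, hA1, Matrix.det_one, one_mul]⟩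
  have hyp : ∀ m : ℕ, ((y ^ m : Matrix.SpecialLinearGroup (Fin n) F) : Matrix (Fin n) (Fin n) F) =
      ((fromBlocks A 0 0 1).submatrix e' e') ^ m := fun m => Matrix.SpecialLinearGroup.coe_pow y m
  refine ⟨y, ?_⟩
  · refine (orderOf_eq_iff (by have := h.N1; omega)).2 ⟨?_, ?_⟩
    · apply Subtype.ext
      refine (hyp N).trans ?_
      rw [hs, Cfsg.Agent.H72.AdjPSU.fromBlocks_pow, hA2, one_pow, Matrix.fromBlocks_one, Matrix.submatrix_one_equiv]
      rfl
    · intro m hm hm0 hx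
      have h2 : ((fromBlocks A 0 0 1).submatrix e' e') ^ m = 1 := by
        rw [← hyp m, hx]
        rfl
      rw [hs, Cfsg.Agent.H72.AdjPSU.fromBlocks_pow] at h2
      have h3 := congrArg (fun M : Matrix (Fin n) (Fin n) F => M.submatrix e'.symm e'.symm) h2
      simp only [Matrix.submatrix_submatrix, Equiv.self_comp_symm, Matrix.submatrix_id_id,
        Matrix.submatrix_one_equiv] at h3
      rw [← Matrix.fromBlocks_one, Matrix.fromBlocks_inj] at h3
      have h4 := Nat.le_of_dvd hm0 (hA3 m h3.1)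
      omega

theorem Elt.orderOf_pr [Fintype F] {p N e : ℕ} (h : Elt F n p N e) {x : Matrix.SpecialLinearGroup (Fin n) F}
    (hx : orderOf x = N) : orderOf (pr x) = N := by
  have h1 : pr x ^ N = 1 := by rw [← map_pow, ← hx, pow_orderOf_eq_one, map_one]
  refine Nat.dvd_antisymm (orderOf_dvd_of_pow_eq_one h1) ?_
  have h2 : pr (x ^ orderOf (pr x)) = 1 := by rw [map_pow, pow_orderOf_eq_one]
  have h3 : (x ^ orderOf (pr x)) ^ N = 1 := by
    rw [← pow_mul, mul_comm, pow_mul, ← hx, pow_orderOf_eq_one, one_pow]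
  have h4 := eq_one_of_center (by have := h.n2; omega) h.coq ((pr_eq_one_iff _).1 h2) h3
  rw [← hx]
  exact orderOf_dvd_of_pow_eq_one h4

/-- **Three classes of order `v`.** -/
theorem Elt.not_SCC_of_two_mul_lt [Fintype F] {p N e : ℕ} [hp : Fact p.Prime] [CharP F p] (h : Elt F n p N e)
    {v : ℕ} (hv : v ∣ N) (hlt : 2 * (PM p N).ncard < Nat.totient N) :
    ¬ SCC (Matrix.ProjectiveSpecialLinearGroup (Fin n) F) v := by
  classical
  rintro ⟨a, b, hab⟩
  obtain ⟨x, hx⟩ := h.exists_sl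
  have hox := h.orderOf_pr hx
  let U : Finset ℕ := (Finset.range N).filter fun k => Nat.Coprime N k
  have hU : U.card = Nat.totient N := rfl
  have hUm : ∀ k ∈ U, k < N ∧ Nat.Coprime k N := by
    intro k hk
    rw [Finset.mem_filter, Finset.mem_range] at hk
    exact ⟨hk.1, hk.2.symm⟩
  have hord : ∀ k ∈ U, orderOf (pr x ^ k) = N := by
    intro k hk
    rw [Nat.Coprime.orderOf_pow (by rw [hox]; exact (hUm k hk).2.symm), hox]
  let Sa : Finset ℕ := U.filter fun k => ∃ φ : Matrix.ProjectiveSpecialLinearGroup (Fin n) F ≃*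
    Matrix.ProjectiveSpecialLinearGroup (Fin n) F, φ a = pr x ^ k
  let Sb : Finset ℕ := U.filter fun k => ∃ φ : Matrix.ProjectiveSpecialLinearGroup (Fin n) F ≃*
    Matrix.ProjectiveSpecialLinearGroup (Fin n) F, φ b = pr x ^ k
  have hsub : U ⊆ Sa ∪ Sb := by
    intro k hk
    rw [Finset.mem_union]
    rcases hab (pr x ^ k) (by rw [hord k hk]; exact hv) with h1 | h1
    · exact Or.inl (Finset.mem_filter.2 ⟨hk, h1⟩)
    · exact Or.inr (Finset.mem_filter.2 ⟨hk, h1⟩)
  have h1 := (Finset.card_le_card hsub).trans (Finset.card_union_le _ _)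
  have h2 := card_class_le h.n2 h.N1 h.cop h.coq h.dvd h.prim h.deg hx Sa
    (fun k hk => hUm k (Finset.mem_of_mem_filter k hk)) a (fun k hk => (Finset.mem_filter.1 hk).2)
  have h3 := card_class_le h.n2 h.N1 h.cop h.coq h.dvd h.prim h.deg hx Sb
    (fun k hk => hUm k (Finset.mem_of_mem_filter k hk)) b (fun k hk => (Finset.mem_filter.1 hk).2)
  rw [hU] at h1
  omega

/-- **Two classes of order `N` and an element of another order.** -/
theorem Elt.not_SCC_of_lt [Fintype F] {p N e : ℕ} [hp : Fact p.Prime] [CharP F p] (h : Elt F n p N e)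
    {v : ℕ} (hv : v ∣ N) (hlt : (PM p N).ncard < Nat.totient N)
    {w : Matrix.ProjectiveSpecialLinearGroup (Fin n) F} (hw : v ∣ orderOf w) (hwN : orderOf w ≠ N) :
    ¬ SCC (Matrix.ProjectiveSpecialLinearGroup (Fin n) F) v := by
  classical
  have key : ∀ a b : Matrix.ProjectiveSpecialLinearGroup (Fin n) F,
      (∀ z : Matrix.ProjectiveSpecialLinearGroup (Fin n) F, v ∣ orderOf z →
        (∃ φ : Matrix.ProjectiveSpecialLinearGroup (Fin n) F ≃* Matrix.ProjectiveSpecialLinearGroup (Fin n) F,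
          φ a = z) ∨ ∃ φ : Matrix.ProjectiveSpecialLinearGroup (Fin n) F ≃*
            Matrix.ProjectiveSpecialLinearGroup (Fin n) F, φ b = z) → 
      (∃ φ : Matrix.ProjectiveSpecialLinearGroup (Fin n) F ≃* Matrix.ProjectiveSpecialLinearGroup (Fin n) F,
          φ a = w) → False := by
    rintro a b hab ⟨ψ, hψ⟩
    obtain ⟨x, hx⟩ := h.exists_sl
    have hox := h.orderOf_pr hx
    let U : Finset ℕ := (Finset.range N).filter fun k => Nat.Coprime N k
    have hU : U.card = Nat.totient N := rfl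
    have hUm : ∀ k ∈ U, k < N ∧ Nat.Coprime k N := by
      intro k hk
      rw [Finset.mem_filter, Finset.mem_range] at hk
      exact ⟨hk.1, hk.2.symm⟩
    have hord : ∀ k ∈ U, orderOf (pr x ^ k) = N := by
      intro k hk
      rw [Nat.Coprime.orderOf_pow (by rw [hox]; exact (hUm k hk).2.symm), hox]
    have h3 := card_class_le h.n2 h.N1 h.cop h.coq h.dvd h.prim h.deg hx U hUm b (fun k hk => by
      rcases hab (pr x ^ k) (by rw [hord k hk]; exact hv) with ⟨φ, hφ⟩ | h1
      · exfalso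
        apply hwN
        rw [← hψ, Cfsg.Agent.H938.Sax.orderOf_mulEquiv, ← Cfsg.Agent.H938.Sax.orderOf_mulEquiv φ a, hφ, hord k hk]
      · exact h1)
    rw [hU] at h3
    omega
  rintro ⟨a, b, hab⟩
  rcases hab w hw with h1 | h1
  · exact key a b hab h1
  · exact key b a (fun z hz => (hab z hz).symm) h1

end Cfsg.Agent.H205.DerPsl
end

-- part: H205/Der/PslA
section
/-!
# Three orders divisible by `v` in `PSL_n(q)` (helper205, S3502)

* `hasBlock_gs`;
* `three_small`, `three_one`, `three_char` : the primes of weight at most `n - 2`, `n ≥ 4`.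
-/

set_option autoImplicit false

namespace Cfsg.Agent.H205.DerPsl

open Matrix Cfsg.Agent.H72 Cfsg.Agent.H72.AdjPSL Cfsg.Agent.H72.AdjOrth Cfsg.Agent.H39.DerPsl Cfsg.Agent.H439.Der

/-- there is an element of order `N` -/
def HasOrd (T : Type*) [Group T] (N : ℕ) : Prop := ∃ z : T, orderOf z = N

theorem HasOrd.dvd {T : Type*} [Group T] {N M : ℕ} (h : HasOrd T N) (hN : N ≠ 0) (hM : M ∣ N) : HasOrd T M := by
  obtain ⟨z, hz⟩ := h
  subst hz
  exact ⟨z ^ (orderOf z / M), orderOf_pow_orderOf_div hN hM⟩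

theorem not_SCC_of_ords {T : Type*} [Group T] {v a b c : ℕ} (ha : HasOrd T a) (hb : HasOrd T b) (hc : HasOrd T c)
    (hva : v ∣ a) (hvb : v ∣ b) (hvc : v ∣ c) (hab : a ≠ b) (hac : a ≠ c) (hbc : b ≠ c) : ¬ SCC T v := by
  obtain ⟨x, rfl⟩ := ha
  obtain ⟨y, rfl⟩ := hb
  obtain ⟨z, rfl⟩ := hc
  exact not_SCC_of_orders hva hvb hvc hab hac hbc

/-- `v`, `v a`, `v b` -/
theorem not_SCC_of_mul {T : Type*} [Group T] {v a b : ℕ} (hv : 0 < v) (h1 : HasOrd T v) (ha : HasOrd T (v * a))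
    (hb : HasOrd T (v * b)) (ha1 : a ≠ 1) (hb1 : b ≠ 1) (hab : a ≠ b) : ¬ SCC T v := by
  refine not_SCC_of_ords h1 ha hb dvd_rfl (dvd_mul_right _ _) (dvd_mul_right _ _) ?_ ?_ ?_
  · intro h
    exact ha1 (Nat.eq_of_mul_eq_mul_left hv (by rw [← h, mul_one]))
  · intro h
    exact hb1 (Nat.eq_of_mul_eq_mul_left hv (by rw [← h, mul_one]))
  · intro h
    exact hab (Nat.eq_of_mul_eq_mul_left hv h)

/-- an element of order `v m`, `m ≠ 1` not a prime -/
theorem not_SCC_of_not_prime {T : Type*} [Group T] {v m : ℕ} (hv : 0 < v) (h : HasOrd T (v * m)) (hm0 : m ≠ 0) (hm1 : m ≠ 1)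
    (hm : ¬ m.Prime) : ¬ SCC T v := by
  obtain ⟨r, hr, hrm⟩ := Nat.exists_prime_and_dvd hm1
  have h0 : v * m ≠ 0 := Nat.mul_ne_zero hv.ne' hm0
  refine not_SCC_of_mul (a := r) (b := m) hv (h.dvd h0 (dvd_mul_right _ _)) (h.dvd h0 (Nat.mul_dvd_mul_left v hrm)) h
    hr.one_lt.ne' hm1 ?_
  rintro rfl
  exact hm hr

variable {F : Type*} [Field F] [Fintype F] {n : ℕ}

theorem hasOrd_prime {v : ℕ} (hv : v.Prime) (hd : v ∣ Nat.card (Matrix.ProjectiveSpecialLinearGroup (Fin n) F)) :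
    HasOrd (Matrix.ProjectiveSpecialLinearGroup (Fin n) F) v := by
  have := finite_psl (F := F) (n := n)
  have := Fact.mk hv
  exact exists_prime_orderOf_dvd_card' v hd

/-- `A ^ (q - 1)` for a Singer cycle -/
theorem hasBlock_gs {a : ℕ} (ha : a ≠ 0) : HasBlock F a (gs (Fintype.card F) a) := by
  obtain ⟨A, hA⟩ := AdjPSU.exists_singer F ha
  have hq1 : 1 < Fintype.card F := Fintype.one_lt_card
  have hgs := gs_mul (Fintype.card F) a hq1.le
  refine ⟨((A ^ (Fintype.card F - 1) : (Matrix (Fin a) (Fin a) F)ˣ) : Matrix (Fin a) (Fin a) F), ?_, ?_, ?_⟩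
  · rw [Units.val_pow_eq_pow_val, Matrix.det_pow]
    apply FiniteField.pow_card_sub_one_eq_one
    exact ((Matrix.isUnit_iff_isUnit_det _).1 (Units.isUnit _)).ne_zero
  · rw [← Units.val_pow_eq_pow_val, ← pow_mul, mul_comm, hgs, ← hA, pow_orderOf_eq_one, Units.val_one]
  · intro k hk
    have h2 : A ^ ((Fintype.card F - 1) * k) = 1 := by
      rw [pow_mul]
      apply Units.ext
      rw [Units.val_pow_eq_pow_val, hk, Units.val_one]
    have h3 := orderOf_dvd_of_pow_eq_one h2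
    rw [hA, ← hgs, mul_comm] at h3
    exact Nat.dvd_of_mul_dvd_mul_left (by omega) h3

/-- two primes of small weights -/
theorem hasOrd_mul {r s : ℕ} (hr : r.Prime) (hs : s.Prime) (hrs : r ≠ s)
    (h : wL (Fintype.card F) r + wL (Fintype.card F) s ≤ n) :
    HasOrd (Matrix.ProjectiveSpecialLinearGroup (Fin n) F) (r * s) := adj_of_wL hr hs hrs h

theorem p_dvd (p : ℕ) [Fact p.Prime] [CharP F p] : p ∣ Fintype.card F := by
  obtain ⟨m, -, hm⟩ := FiniteField.card F p
  rw [hm]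
  exact dvd_pow_self p m.pos.ne'

theorem wL_p (p : ℕ) [Fact p.Prime] [CharP F p] : wL (Fintype.card F) p = 2 := by rw [wL, if_pos (Or.inl (p_dvd p))]

theorem not_dvd_of_dvd_sub {p q : ℕ} (hp : p.Prime) (hq : 1 ≤ q) (h : p ∣ q) : ¬ p ∣ q - 1 := by
  intro h1
  have h2 := Nat.dvd_sub h h1
  rw [show q - (q - 1) = 1 by omega] at h2
  exact hp.one_lt.ne' (Nat.dvd_one.1 h2)

theorem not_dvd_of_dvd_add {p q : ℕ} (hp : p.Prime) (h : p ∣ q) : ¬ p ∣ q + 1 := by
  intro h1
  exact hp.one_lt.ne' (Nat.dvd_one.1 ((Nat.dvd_add_right h).1 h1))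

/-- primes dividing `q + 1` have weight at most two -/
theorem wL_le_two {q s : ℕ} (hq : 2 ≤ q) (h : s ∣ q + 1) : wL q s ≤ 2 := by
  rw [wL]
  split_ifs with h4
  · exact le_rfl
  · have h1 : s ∣ q ^ 2 - 1 := by
      have : q ^ 2 - 1 = (q + 1) * (q - 1) := by
        have := Nat.sq_sub_sq q 1
        simpa using this
      rw [this]
      exact h.mul_right _
    have h5 := ee_dvd (by omega : 1 ≤ q) h1
    exact Nat.le_of_dvd (by norm_num) h5

/-- **the primes of weight at most `n - 2`, not dividing `q (q - 1)`** -/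
theorem three_small {p v : ℕ} [hp : Fact p.Prime] [CharP F p] (hv : v.Prime) (hvp : v ≠ p)
    (hvq : ¬ v ∣ Fintype.card F - 1) (h42 : ¬ (n = 4 ∧ Fintype.card F = 2))
    (hd : v ∣ Nat.card (Matrix.ProjectiveSpecialLinearGroup (Fin n) F))
    (h : ee (Fintype.card F) v + 2 ≤ n) : ¬ SCC (Matrix.ProjectiveSpecialLinearGroup (Fin n) F) v := by
  have hq1 : 1 < Fintype.card F := Fintype.one_lt_card
  have hpq := p_dvd (F := F) p
  obtain ⟨m, -, hm⟩ := FiniteField.card F p
  have hvF : ¬ v ∣ Fintype.card F := by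
    rw [hm]
    intro h
    exact hvp ((Nat.prime_dvd_prime_iff_eq hv hp.out).1 (hv.dvd_of_dvd_pow h))
  have hwv : wL (Fintype.card F) v = ee (Fintype.card F) v := by
    rw [wL, if_neg]
    rw [not_or]
    exact ⟨hvF, hvq⟩
  have hvp' : HasOrd (Matrix.ProjectiveSpecialLinearGroup (Fin n) F) (v * p) :=
    hasOrd_mul hv hp.out hvp (by rw [hwv, wL_p p]; exact h)
  have h1 := hasOrd_prime hv hd
  rcases Nat.lt_or_ge (Fintype.card F) 3 with hq | hq
  · have hq2 : Fintype.card F = 2 := by omega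
    have hp2 : p = 2 := by
      rw [hq2] at hpq
      exact (Nat.prime_dvd_prime_iff_eq hp.out Nat.prime_two).1 hpq
    subst hp2
    by_cases h3 : v = 3
    · subst h3
      have he : ee 2 3 = 2 := by
        have h1 := ee_dvd (q := 2) (r := 3) (k := 2) (by norm_num) (by norm_num)
        have h2 : ee 2 3 ≠ 1 := by rw [Ne, ee_eq_one_iff (by norm_num)]; norm_num
        exact ((Nat.dvd_prime Nat.prime_two).1 h1).resolve_left h2
      rw [hq2, he] at h
      have he7 : ee 2 7 = 3 := by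
        have h1 := ee_dvd (q := 2) (r := 7) (k := 3) (by norm_num) (by norm_num)
        have h2 : ee 2 7 ≠ 1 := by rw [Ne, ee_eq_one_iff (by norm_num)]; norm_num
        exact ((Nat.dvd_prime Nat.prime_three).1 h1).resolve_left h2
      have h37 : HasOrd (Matrix.ProjectiveSpecialLinearGroup (Fin n) F) (3 * 7) :=
        hasOrd_mul (by norm_num) (by norm_num) (by norm_num) (by
          rw [hwv, hq2, he, wL, if_neg (by norm_num), he7]
          have : n ≠ 4 := fun h4 => h42 ⟨h4, hq2⟩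
          omega)
      exact not_SCC_of_mul (by norm_num) h1 hvp' h37 (by norm_num) (by norm_num) (by norm_num)
    · have h33 : HasOrd (Matrix.ProjectiveSpecialLinearGroup (Fin n) F) (v * 3) :=
        hasOrd_mul hv (by norm_num) h3 (by
          have := wL_le_two (q := Fintype.card F) (s := 3) (by omega) (by rw [hq2])
          omega)
      exact not_SCC_of_mul hv.pos h1 hvp' h33 (by norm_num) (by norm_num) (by norm_num)
  · obtain ⟨s, hs, hsd⟩ := Nat.exists_prime_and_dvd (show Fintype.card F - 1 ≠ 1 by omega)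
    have hsv : v ≠ s := by
      rintro rfl
      exact hvq hsd
    have hsp : p ≠ s := by
      rintro rfl
      exact not_dvd_of_dvd_sub hs hq1.le hpq hsd
    have h3 : HasOrd (Matrix.ProjectiveSpecialLinearGroup (Fin n) F) (v * s) :=
      hasOrd_mul hv hs hsv (by rw [hwv, wL, if_pos (Or.inr hsd)]; exact h)
    exact not_SCC_of_mul hv.pos h1 hvp' h3 hp.out.one_lt.ne' hs.one_lt.ne' hsp

/-- **the primes dividing `q - 1`, `n ≥ 4`** -/
theorem three_one {p v : ℕ} [hp : Fact p.Prime] [CharP F p] (hv : v.Prime) (hn : 4 ≤ n)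
    (hvq : v ∣ Fintype.card F - 1) (hd : v ∣ Nat.card (Matrix.ProjectiveSpecialLinearGroup (Fin n) F)) :
    ¬ SCC (Matrix.ProjectiveSpecialLinearGroup (Fin n) F) v := by
  have hq1 : 1 < Fintype.card F := Fintype.one_lt_card
  have hpq := p_dvd (F := F) p
  have hwv : wL (Fintype.card F) v = 2 := by rw [wL, if_pos (Or.inr hvq)]
  have hvp : v ≠ p := by
    rintro rfl
    exact not_dvd_of_dvd_sub hv hq1.le hpq hvq
  have h1 := hasOrd_prime hv hd
  have hvp' : HasOrd (Matrix.ProjectiveSpecialLinearGroup (Fin n) F) (v * p) :=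
    hasOrd_mul hv hp.out hvp (by rw [hwv, wL_p p]; exact hn)
  by_cases hv2 : v = 2
  · subst hv2
    have h2 : HasOrd (Matrix.ProjectiveSpecialLinearGroup (Fin n) F) (Fintype.card F + 1) :=
      exists_order_of_block_lt (hasBlock_gs (a := 2) (by norm_num)) (by omega) _ (by
        simp [gs, Finset.sum_range_succ, add_comm])
    refine not_SCC_of_ords h1 hvp' h2 dvd_rfl (dvd_mul_right _ _) ?_ ?_ ?_ ?_
    · omega
    · have := hp.out.two_le
      omega
    · omega
    · intro h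
      have h3 : p ∣ Fintype.card F + 1 := by rw [← h]; exact dvd_mul_left _ _
      exact not_dvd_of_dvd_add hp.out hpq h3
  · obtain ⟨s, hs, hsd⟩ := Nat.exists_prime_and_dvd (show Fintype.card F + 1 ≠ 1 by omega)
    have hsv : v ≠ s := by
      rintro rfl
      apply hv2
      have h3 := Nat.dvd_sub hsd hvq
      rw [show Fintype.card F + 1 - (Fintype.card F - 1) = 2 by omega] at h3
      exact (Nat.prime_dvd_prime_iff_eq hv Nat.prime_two).1 h3
    have hsp : p ≠ s := by
      rintro rfl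
      exact not_dvd_of_dvd_add hs hpq hsd
    have h3 : HasOrd (Matrix.ProjectiveSpecialLinearGroup (Fin n) F) (v * s) :=
      hasOrd_mul hv hs hsv (by
        have := wL_le_two (q := Fintype.card F) (s := s) (by omega) hsd
        omega)
    exact not_SCC_of_mul hv.pos h1 hvp' h3 hp.out.one_lt.ne' hs.one_lt.ne' hsp

theorem hasOrd_p (p : ℕ) [hp : Fact p.Prime] [CharP F p] (hn : 3 ≤ n) :
    HasOrd (Matrix.ProjectiveSpecialLinearGroup (Fin n) F) p :=
  exists_order_of_block_lt (hasBlock_char p) (by omega) _ dvd_rfl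

/-- **the characteristic, `n ≥ 4`** -/
theorem three_char (p : ℕ) [hp : Fact p.Prime] [CharP F p] (hn : 4 ≤ n) (h42 : ¬ (n = 4 ∧ Fintype.card F = 2)) :
    ¬ SCC (Matrix.ProjectiveSpecialLinearGroup (Fin n) F) p := by
  have hq1 : 1 < Fintype.card F := Fintype.one_lt_card
  have hpq := p_dvd (F := F) p
  have h1 := hasOrd_p (F := F) (n := n) p (by omega)
  have hgs2 : gs (Fintype.card F) 2 = Fintype.card F + 1 := by simp [gs, Finset.sum_range_succ, add_comm]
  have hco : ∀ a : ℕ, 1 ≤ a → Nat.Coprime p (gs (Fintype.card F) a) := by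
    intro a ha
    refine (Nat.Prime.coprime_iff_not_dvd hp.out).2 fun h => ?_
    obtain ⟨b, rfl⟩ : ∃ b, a = b + 1 := ⟨a - 1, by omega⟩
    rw [gs_succ] at h
    exact not_dvd_of_dvd_add hp.out (hpq.mul_right _) h
  have h2 : HasOrd (Matrix.ProjectiveSpecialLinearGroup (Fin n) F) (p * gs (Fintype.card F) 2) :=
    exists_order_of_blocks (hasBlock_char p) (hasBlock_gs (by norm_num)) (by norm_num) (by norm_num) (by omega)
      (hco 2 (by norm_num)) _ dvd_rfl
  rcases Nat.lt_or_ge (Fintype.card F) 3 with hq | hq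
  · have hq2 : Fintype.card F = 2 := by omega
    have h3 : HasOrd (Matrix.ProjectiveSpecialLinearGroup (Fin n) F) (p * gs (Fintype.card F) 3) :=
      exists_order_of_blocks (hasBlock_char p) (hasBlock_gs (by norm_num)) (by norm_num) (by norm_num)
        (by
          have : n ≠ 4 := fun h4 => h42 ⟨h4, hq2⟩
          omega) (hco 3 (by norm_num)) _ dvd_rfl
    refine not_SCC_of_mul hp.out.pos h1 h2 h3 ?_ ?_ ?_ <;> rw [hq2] <;> decide
  · have h3 : HasOrd (Matrix.ProjectiveSpecialLinearGroup (Fin n) F) (p * (Fintype.card F - 1)) :=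
      exists_order_of_blocks (hasBlock_char p) (hasBlock_two dvd_rfl) (by norm_num) (by norm_num) (by omega)
      ((Nat.Prime.coprime_iff_not_dvd hp.out).2 (not_dvd_of_dvd_sub hp.out hq1.le hpq)) _ dvd_rfl
    refine not_SCC_of_mul hp.out.pos h1 h2 h3 ?_ ?_ ?_ <;> omega

end Cfsg.Agent.H205.DerPsl
end

-- part: H205/Der/PslB
section
/-!
# `n = 3`: three classes of elements of order divisible by `v` (helper205, S3502)
-/

set_option autoImplicit false

namespace Cfsg.Agent.H205.DerPsl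

open Matrix Cfsg.Agent.H72 Cfsg.Agent.H72.AdjPSL Cfsg.Agent.H72.AdjOrth Cfsg.Agent.H39.DerPsl Cfsg.Agent.H439.Der
  Cfsg.Agent.ClassicalGeometry.AutPSL.Root Cfsg.Agent.ClassicalGeometry.AutPSL.Auto Cfsg.Agent.H199.PslAut

variable {F : Type*} [Field F] [Fintype F] {n : ℕ}

theorem eq_one_of_center' {v : ℕ} (hn : 1 ≤ n) (hco : Nat.Coprime v (Nat.gcd n (Fintype.card F - 1)))
    {z : Matrix.SpecialLinearGroup (Fin n) F} (hz : z ∈ Subgroup.center (Matrix.SpecialLinearGroup (Fin n) F))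
    (hv : z ^ v = 1) : z = 1 := by
  have h1 := smul_pow_gcd hn hz
  have h2 : orderOf z ∣ 1 := by
    rw [← hco]
    exact Nat.dvd_gcd (orderOf_dvd_of_pow_eq_one hv) (orderOf_dvd_of_pow_eq_one h1)
  exact orderOf_eq_one_iff.1 (Nat.dvd_one.1 h2)

theorem eq_of_pr_eq' {v : ℕ} (hn : 1 ≤ n) (hco : Nat.Coprime v (Nat.gcd n (Fintype.card F - 1)))
    {x y : Matrix.SpecialLinearGroup (Fin n) F} (hx : x ^ v = 1) (hy : y ^ v = 1) (h : pr x = pr y) : x = y := by
  have hz : x⁻¹ * y ∈ Subgroup.center (Matrix.SpecialLinearGroup (Fin n) F) := by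
    rw [← pr_eq_one_iff, map_mul, map_inv, h, inv_mul_cancel]
  have h1 : (x⁻¹ * y) ^ v = 1 := by
    have hc : Commute x (x⁻¹ * y) := (Subgroup.mem_center_iff.1 hz x)
    have h2 : (x * (x⁻¹ * y)) ^ v = x ^ v * (x⁻¹ * y) ^ v := hc.mul_pow v
    rw [mul_inv_cancel_left, hx, hy, one_mul] at h2
    exact h2.symm
  have h3 := eq_one_of_center' hn hco hz h1
  exact (inv_mul_eq_one.1 h3)

/-- **elements of order prime to the centre, conjugate under an automorphism** -/
theorem sl_of_aut {v : ℕ} (hn : 2 ≤ n) (hco : Nat.Coprime v (Nat.gcd n (Fintype.card F - 1)))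
    {x y : Matrix.SpecialLinearGroup (Fin n) F} (hx : x ^ v = 1) (hy : y ^ v = 1)
    (φ : MulAut (Matrix.ProjectiveSpecialLinearGroup (Fin n) F)) (h : φ (pr x) = pr y) :
    ∃ (g : GL (Fin n) F) (σ : F ≃+* F), y = cj g (fld σ x) ∨ y = cj g (fld σ (itr x)) := by
  rcases exists_form hn φ with ⟨g, σ, rfl⟩ | ⟨-, g, σ, rfl⟩
  · refine ⟨g, σ, Or.inl ?_⟩
    have h1 : pr (cj g (fld σ x)) = pr y := h
    exact (eq_of_pr_eq' (by omega) hco (by rw [← map_pow, ← map_pow, hx, map_one, map_one]) hy h1).symm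
  · refine ⟨g, σ, Or.inr ?_⟩
    have h1 : pr (cj g (fld σ (itr x))) = pr y := h
    exact (eq_of_pr_eq' (by omega) hco (by rw [← map_pow, ← map_pow, ← map_pow, hx, map_one, map_one, map_one]) hy
      h1).symm

/-- the squares of `x - 1` -/
theorem sq_of_aut {v : ℕ} (hn : 2 ≤ n) (hco : Nat.Coprime v (Nat.gcd n (Fintype.card F - 1)))
    {x y : Matrix.SpecialLinearGroup (Fin n) F} (hx : x ^ v = 1) (hy : y ^ v = 1)
    (φ : MulAut (Matrix.ProjectiveSpecialLinearGroup (Fin n) F)) (h : φ (pr x) = pr y)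
    (hsq : ((x : Matrix (Fin n) (Fin n) F) - 1) ^ 2 = 0) : ((y : Matrix (Fin n) (Fin n) F) - 1) ^ 2 = 0 := by
  have key : ∀ (g : GL (Fin n) F) (σ : F ≃+* F) (z : Matrix.SpecialLinearGroup (Fin n) F),
      ((z : Matrix (Fin n) (Fin n) F) - 1) ^ 2 = 0 →
      (((cj g (fld σ z) : Matrix.SpecialLinearGroup (Fin n) F) : Matrix (Fin n) (Fin n) F) - 1) ^ 2 = 0 := by
    intro g σ z hz
    have h1 : ((cj g (fld σ z) : Matrix.SpecialLinearGroup (Fin n) F) : Matrix (Fin n) (Fin n) F) =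
        (g : Matrix (Fin n) (Fin n) F) * (z : Matrix (Fin n) (Fin n) F).map σ *
          ((g⁻¹ : GL (Fin n) F) : Matrix (Fin n) (Fin n) F) := rfl
    have h2 : ((z : Matrix (Fin n) (Fin n) F).map σ - 1) ^ 2 = 0 := by
      have h3 := congrArg (σ : F →+* F).mapMatrix hz
      rw [map_pow, map_sub, map_one, map_zero] at h3
      exact h3
    have h4 : (g : Matrix (Fin n) (Fin n) F) * ((g⁻¹ : GL (Fin n) F) : Matrix (Fin n) (Fin n) F) = 1 := by
      rw [← Units.val_mul, mul_inv_cancel, Units.val_one]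
    have h5 : ((g⁻¹ : GL (Fin n) F) : Matrix (Fin n) (Fin n) F) * (g : Matrix (Fin n) (Fin n) F) = 1 := by
      rw [← Units.val_mul, inv_mul_cancel, Units.val_one]
    have h6 : (g : Matrix (Fin n) (Fin n) F) * (z : Matrix (Fin n) (Fin n) F).map σ *
          ((g⁻¹ : GL (Fin n) F) : Matrix (Fin n) (Fin n) F) - 1 =
          (g : Matrix (Fin n) (Fin n) F) * ((z : Matrix (Fin n) (Fin n) F).map σ - 1) *
          ((g⁻¹ : GL (Fin n) F) : Matrix (Fin n) (Fin n) F) := by
      rw [mul_sub, sub_mul, mul_one, h4]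
    rw [h1, h6, pow_two]
    calc (g : Matrix (Fin n) (Fin n) F) * ((z : Matrix (Fin n) (Fin n) F).map σ - 1) *
          ((g⁻¹ : GL (Fin n) F) : Matrix (Fin n) (Fin n) F) *
          ((g : Matrix (Fin n) (Fin n) F) * ((z : Matrix (Fin n) (Fin n) F).map σ - 1) *
          ((g⁻¹ : GL (Fin n) F) : Matrix (Fin n) (Fin n) F)) =
          (g : Matrix (Fin n) (Fin n) F) * (((z : Matrix (Fin n) (Fin n) F).map σ - 1) *
          (((g⁻¹ : GL (Fin n) F) : Matrix (Fin n) (Fin n) F) * (g : Matrix (Fin n) (Fin n) F)) *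
          ((z : Matrix (Fin n) (Fin n) F).map σ - 1)) *
          ((g⁻¹ : GL (Fin n) F) : Matrix (Fin n) (Fin n) F) := by simp only [mul_assoc]
      _ = 0 := by rw [h5, mul_one, ← pow_two, h2, mul_zero, zero_mul]
  obtain ⟨g, σ, rfl | rfl⟩ := sl_of_aut hn hco hx hy φ h
  · exact key g σ x hsq
  · apply key
    have h1 : ((itr x : Matrix.SpecialLinearGroup (Fin n) F) : Matrix (Fin n) (Fin n) F) =
        ((x⁻¹ : Matrix.SpecialLinearGroup (Fin n) F) : Matrix (Fin n) (Fin n) F)ᵀ := rfl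
    have h2 : (x : Matrix (Fin n) (Fin n) F) * ((x⁻¹ : Matrix.SpecialLinearGroup (Fin n) F) : Matrix (Fin n) (Fin n) F)
        = 1 := by
      rw [← Matrix.SpecialLinearGroup.coe_mul, mul_inv_cancel, Matrix.SpecialLinearGroup.coe_one]
    have h3 : ((x⁻¹ : Matrix.SpecialLinearGroup (Fin n) F) : Matrix (Fin n) (Fin n) F) *
        (x : Matrix (Fin n) (Fin n) F) = 1 := by
      rw [← Matrix.SpecialLinearGroup.coe_mul, inv_mul_cancel, Matrix.SpecialLinearGroup.coe_one]
    set X := (x : Matrix (Fin n) (Fin n) F) with hX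
    set Y := ((x⁻¹ : Matrix.SpecialLinearGroup (Fin n) F) : Matrix (Fin n) (Fin n) F) with hY
    rw [h1]
    have h4 : (Yᵀ - 1) ^ 2 = ((Y - 1) ^ 2)ᵀ := by
      rw [Matrix.transpose_pow, Matrix.transpose_sub, Matrix.transpose_one]
    have h5 : (Y - 1) ^ 2 = Y * Y * (X - 1) ^ 2 := by
      have h6 : (X - 1) ^ 2 = X * X - X - X + 1 := by noncomm_ring
      rw [h6]
      calc (Y - 1) ^ 2 = Y * Y - Y - Y + 1 := by noncomm_ring
        _ = Y * (Y * X) * X - Y * (Y * X) - Y * (Y * X) + Y * Y := by rw [h3, mul_one, h3]; abel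
        _ = _ := by noncomm_ring
    rw [h4, h5, hsq, mul_zero, Matrix.transpose_zero]

/-- the eigenvalue `1` -/
theorem ev_one_of_aut {v : ℕ} (hn : 2 ≤ n) (hco : Nat.Coprime v (Nat.gcd n (Fintype.card F - 1)))
    {x y : Matrix.SpecialLinearGroup (Fin n) F} (hx : x ^ v = 1) (hy : y ^ v = 1)
    (φ : MulAut (Matrix.ProjectiveSpecialLinearGroup (Fin n) F)) (h : φ (pr x) = pr y)
    (hsq : (1 : F) ∈ Ev F (y : Matrix (Fin n) (Fin n) F)) : (1 : F) ∈ Ev F (x : Matrix (Fin n) (Fin n) F) := by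
  have key : ∀ (g : GL (Fin n) F) (σ : F ≃+* F) (z : Matrix.SpecialLinearGroup (Fin n) F),
      (1 : F) ∈ Ev F ((cj g (fld σ z) : Matrix.SpecialLinearGroup (Fin n) F) : Matrix (Fin n) (Fin n) F) →
      (1 : F) ∈ Ev F (z : Matrix (Fin n) (Fin n) F) := by
    intro g σ z hz
    have h1 : ((cj g (fld σ z) : Matrix.SpecialLinearGroup (Fin n) F) : Matrix (Fin n) (Fin n) F) =
        (g : Matrix (Fin n) (Fin n) F) * (z : Matrix (Fin n) (Fin n) F).map σ *
          ((g⁻¹ : GL (Fin n) F) : Matrix (Fin n) (Fin n) F) := rfl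
    rw [h1, ev_conj] at hz
    obtain ⟨μ, hμ, hμ1⟩ := ev_map (K := F) (σ := σ) (τ := (σ : F →+* F)) (fun a => rfl) σ.surjective hz
    have h2 : μ = 1 := by
      apply σ.injective
      rw [map_one]
      exact hμ1
    rwa [h2] at hμ
  obtain ⟨g, σ, rfl | rfl⟩ := sl_of_aut hn hco hx hy φ h
  · exact key g σ x hsq
  · have h1 := key g σ _ hsq
    have h2 : ((itr x : Matrix.SpecialLinearGroup (Fin n) F) : Matrix (Fin n) (Fin n) F) =
        ((x⁻¹ : Matrix.SpecialLinearGroup (Fin n) F) : Matrix (Fin n) (Fin n) F)ᵀ := rfl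
    rw [h2, ev_transpose] at h1
    have h3 := ev_inv h1
    rwa [inv_one] at h3

end Cfsg.Agent.H205.DerPsl
end
end

-- part: H205/Der/L43
section
prune_inst 0xf5002544004002000000059211002000140001800000000080200942000100200000210008001400082aa00000040028110000c0420000000a00000000010020800006001100000c860019800080000000000000000000000000000000000004000000000
set_option linter.all false
open scoped Cfsg.Agent.FastGrp

-- part: H205/Der/NoInv
section
/-!
# Irreducible elements of `PSL_n(q)` do not normalize `p`-subgroups (helper205, S3502)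
-/

set_option autoImplicit false

namespace Cfsg.Agent.H205.DerPsl

open Matrix Polynomial Cfsg.Agent.H39.DerPsl Cfsg.Agent.LieExceptional.IrredMatrix
  Cfsg.Agent.ClassicalGeometry.AutPSL.Root Cfsg.Agent.ClassicalGeometry.AutPSL.Auto Cfsg.Agent.H199.PslAut

variable {F : Type*} [Field F] [Fintype F] {n : ℕ}

/-- **irreducible elements do not normalize nontrivial unipotent subgroups** -/
theorem no_inv {p v : ℕ} [hp : Fact p.Prime] [CharP F p] (hv : v.Prime) (hvp : v ≠ p)
    (he : orderOf ((Fintype.card F : ℕ) : ZMod v) = n) {x : Matrix.SpecialLinearGroup (Fin n) F} (hx : orderOf x = v)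
    (S : Subgroup (Matrix.ProjectiveSpecialLinearGroup (Fin n) F)) (hS : IsPGroup p S)
    (hinv : ∀ s ∈ S, (pr x)⁻¹ * s * pr x ∈ S) : S = ⊥ := by
  classical
  by_contra hne
  have hfin : Finite (Matrix.ProjectiveSpecialLinearGroup (Fin n) F) := finite_psl
  have hvF : (v : F) ≠ 0 := by
    intro h
    have h1 := (CharP.cast_eq_zero_iff F p v).1 h
    exact hvp ((Nat.prime_dvd_prime_iff_eq hp.out hv).1 h1).symm
  have hx1 : (x : Matrix (Fin n) (Fin n) F) ≠ 1 := by
    intro h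
    have h1 : x = 1 := Subtype.ext h
    rw [h1, orderOf_one] at hx
    exact hv.one_lt.ne hx
  have hxv : (x : Matrix (Fin n) (Fin n) F) ^ v = 1 := by
    rw [← Matrix.SpecialLinearGroup.coe_pow, ← hx, pow_orderOf_eq_one, Matrix.SpecialLinearGroup.coe_one]
  obtain ⟨hirr, hdeg⟩ := S2638.irr hv hvF he hxv hx1
  -- the preimage
  let f : Matrix.SpecialLinearGroup (Fin n) F →* Matrix.ProjectiveSpecialLinearGroup (Fin n) F := pr
  let H := S.comap f
  have hmemH : ∀ u : Matrix.SpecialLinearGroup (Fin n) F, u ∈ H ↔ pr u ∈ S := fun u => Iff.rfl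
  let g : H →* S := (f.comp H.subtype).codRestrict S (fun u => u.2)
  have hgs : Function.Surjective g := by
    rintro ⟨s, hs⟩
    obtain ⟨u, rfl⟩ := pr_surjective s
    exact ⟨⟨u, hs⟩, rfl⟩
  have hnilS : Group.IsNilpotent S := hS.isNilpotent
  have hnil : Group.IsNilpotent H := by
    refine Subgroup.isNilpotent_of_ker_le_center g ?_
    intro u hu
    rw [Subgroup.mem_center_iff]
    intro w
    have h1 : pr (u : Matrix.SpecialLinearGroup (Fin n) F) = 1 := congrArg Subtype.val (MonoidHom.mem_ker.1 hu)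
    have h2 := (pr_eq_one_iff _).1 h1
    exact Subtype.ext ((Subgroup.mem_center_iff.1 h2) w)
  obtain ⟨U⟩ : Nonempty (Sylow p H) := inferInstance
  have hUn : (U : Subgroup H).Normal := inferInstance
  have huniq : ∀ P : Sylow p H, P = U := fun P => (Sylow.unique_of_normal U hUn).uniq P |>.trans
    ((Sylow.unique_of_normal U hUn).uniq U).symm
  have hmemU : ∀ u : H, (∃ k : ℕ, u ^ p ^ k = 1) → u ∈ U := by
    rintro u ⟨k, hk⟩
    have hz : IsPGroup p (Subgroup.zpowers u) := by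
      obtain ⟨j, -, hj⟩ := (Nat.dvd_prime_pow hp.out).1 (orderOf_dvd_of_pow_eq_one hk)
      exact IsPGroup.of_card (n := j) (by rw [Nat.card_zpowers, hj])
    obtain ⟨P, hP⟩ := hz.exists_le_sylow
    rw [huniq P] at hP
    exact hP (Subgroup.mem_zpowers u)
  -- `U ≠ 1`
  have hU1 : ∃ u : H, u ∈ U ∧ (u : Matrix.SpecialLinearGroup (Fin n) F) ≠ 1 := by
    have h1 : p ∣ Nat.card S := by
      obtain ⟨k, hk⟩ := IsPGroup.iff_card.1 hS
      have hk0 : k ≠ 0 := by
        rintro rfl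
        exact hne (Subgroup.eq_bot_of_card_eq _ (by rw [hk, pow_zero]))
      rw [hk]
      exact dvd_pow_self p hk0
    have h2 : p ∣ Nat.card H := h1.trans (Subgroup.card_dvd_of_surjective g hgs)
    obtain ⟨u, hu⟩ := exists_prime_orderOf_dvd_card' p h2
    refine ⟨u, hmemU u ⟨1, by rw [pow_one, ← hu, pow_orderOf_eq_one]⟩, fun h3 => ?_⟩
    have h4 : u = 1 := Subtype.ext h3
    rw [h4, orderOf_one] at hu
    exact hp.out.one_lt.ne hu
  -- the action on the vectors
  let act : MulAction U (Fin n → F) :=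
    { smul := fun u w => (((u : H) : Matrix.SpecialLinearGroup (Fin n) F) : Matrix (Fin n) (Fin n) F) *ᵥ w
      one_smul := fun w => Matrix.one_mulVec w
      mul_smul := fun a b w => (Matrix.mulVec_mulVec _ _ _).symm }
  have hn0 : n ≠ 0 := by
    rintro rfl
    exact hx1 (Subsingleton.elim _ _)
  have hpV : p ∣ Nat.card (Fin n → F) := by
    rw [Nat.card_eq_fintype_card, Fintype.card_fun, Fintype.card_fin]
    obtain ⟨m, -, hm⟩ := FiniteField.card F p
    rw [hm]
    exact dvd_pow (dvd_pow_self p m.pos.ne') hn0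
  obtain ⟨w, hw, hw0⟩ := U.2.exists_fixed_point_of_prime_dvd_card_of_fixed_point (Fin n → F) hpV (a := 0)
    (fun u => Matrix.mulVec_zero _)
  have hwU : ∀ u : H, u ∈ U → ((u : Matrix.SpecialLinearGroup (Fin n) F) : Matrix (Fin n) (Fin n) F) *ᵥ w = w :=
    fun u hu => hw ⟨u, hu⟩
  have hconj : ∀ u : H, u ∈ U → ∃ u' : H, u' ∈ U ∧
      (u' : Matrix.SpecialLinearGroup (Fin n) F) = x⁻¹ * (u : Matrix.SpecialLinearGroup (Fin n) F) * x := by
    intro u hu
    have h1 : x⁻¹ * (u : Matrix.SpecialLinearGroup (Fin n) F) * x ∈ H := by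
      rw [hmemH, map_mul, map_mul, map_inv]
      exact hinv _ u.2
    refine ⟨⟨_, h1⟩, hmemU _ ?_, rfl⟩
    obtain ⟨k, hk⟩ := U.2 ⟨u, hu⟩
    refine ⟨k, Subtype.ext ?_⟩
    have h2 : ((u : H) : Matrix.SpecialLinearGroup (Fin n) F) ^ p ^ k = 1 :=
      congrArg (fun z : U => ((z : H) : Matrix.SpecialLinearGroup (Fin n) F)) hk
    change (x⁻¹ * (u : Matrix.SpecialLinearGroup (Fin n) F) * x) ^ p ^ k = 1
    have h3 := conj_pow (i := p ^ k) (a := x⁻¹) (b := (u : Matrix.SpecialLinearGroup (Fin n) F))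
    rw [inv_inv] at h3
    rw [h3, h2, mul_one, inv_mul_cancel]
  have hstep : ∀ z : Fin n → F,
      (∀ u : H, u ∈ U → ((u : Matrix.SpecialLinearGroup (Fin n) F) : Matrix (Fin n) (Fin n) F) *ᵥ z = z) →
      ∀ u : H, u ∈ U → ((u : Matrix.SpecialLinearGroup (Fin n) F) : Matrix (Fin n) (Fin n) F) *ᵥ
        ((x : Matrix (Fin n) (Fin n) F) *ᵥ z) = (x : Matrix (Fin n) (Fin n) F) *ᵥ z := by
    intro z hz u hu
    obtain ⟨u', hu', h1⟩ := hconj u hu
    have h2 : (u : Matrix.SpecialLinearGroup (Fin n) F) * x = x * (u' : Matrix.SpecialLinearGroup (Fin n) F) := by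
      rw [h1]
      group
    rw [Matrix.mulVec_mulVec, ← Matrix.SpecialLinearGroup.coe_mul, h2, Matrix.SpecialLinearGroup.coe_mul,
      ← Matrix.mulVec_mulVec, hz u' hu']
  have hpow : ∀ k : ℕ, ∀ u : H, u ∈ U → ((u : Matrix.SpecialLinearGroup (Fin n) F) : Matrix (Fin n) (Fin n) F) *ᵥ
        ((x : Matrix (Fin n) (Fin n) F) ^ k *ᵥ w) = (x : Matrix (Fin n) (Fin n) F) ^ k *ᵥ w := by
    intro k
    induction k with
    | zero =>
      intro u hu
      rw [pow_zero, Matrix.one_mulVec]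
      exact hwU u hu
    | succ k ih =>
      rw [pow_succ', ← Matrix.mulVec_mulVec]
      exact hstep _ ih
  have hall : ∀ h : F[X], ∀ u : H, u ∈ U → ((u : Matrix.SpecialLinearGroup (Fin n) F) : Matrix (Fin n) (Fin n) F) *ᵥ
        (aeval (x : Matrix (Fin n) (Fin n) F) h *ᵥ w) = aeval (x : Matrix (Fin n) (Fin n) F) h *ᵥ w := by
    intro h
    induction h using Polynomial.induction_on' with
    | add a b ha hb =>
      intro u hu
      rw [map_add, Matrix.add_mulVec, Matrix.mulVec_add, ha u hu, hb u hu]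
    | monomial k a =>
      intro u hu
      rw [aeval_monomial, Algebra.algebraMap_eq_smul_one, smul_mul_assoc, one_mul, Matrix.smul_mulVec,
        Matrix.mulVec_smul, hpow k u hu]
  obtain ⟨u, hu, hu1⟩ := hU1
  apply hu1
  apply Subtype.ext
  rw [Matrix.SpecialLinearGroup.coe_one]
  refine Matrix.ext_of_mulVec_single fun i => ?_
  obtain ⟨h, hh⟩ := exists_aeval_mulVec_eq hirr hdeg.ge hw0.symm (Pi.single i 1)
  rw [Matrix.one_mulVec, ← hh]
  exact hall h u hu

end Cfsg.Agent.H205.DerPsl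
end

-- part: H205/Der/Struct
section
/-!
# Subgroups of `PSL_n(q)` with irreducible elements of prime order (helper205, S3502)

* `exists_struct2` : the structure theorem `H834.Sax.exists_struct'` with more information;
* `struct_psl`.
-/

set_option autoImplicit false

namespace Cfsg.Agent.H205.DerPsl

open Subgroup Cfsg.Agent.H970.StabK Cfsg.Agent.H970.StabNum Cfsg.Agent.H251.Small Cfsg.Agent.H938.Sax

universe u

section A

variable {H : Type u} [Group H] [Finite H] {p : ℕ} [hp : Fact p.Prime]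

/-- **The structure theorem.** -/
theorem exists_struct2 {P : Subgroup H} (hP : Nat.card P = p) (hp2 : ¬ p ^ 2 ∣ Nat.card H) :
    ∃ a s c m D : ℕ, Nat.card H = a * s * c ∧ ¬ p ∣ a ∧ Nat.card (normalizer (P : Set H)) = c * D * (p * m) ∧
      (∀ r : ℕ, r.Prime → r ∣ a → ∃ S : Subgroup H, IsPGroup r S ∧ S ≠ ⊥ ∧ ∀ b ∈ P, ∀ y ∈ S, b * y * b⁻¹ ∈ S) ∧
      ((s = p ∧ m = 1) ∨ ∃ (K : Type u) (_ : Group K) (_ : Finite K), IsSimpleGroup K ∧
        (¬ ∀ x y : K, x * y = y * x) ∧ Nat.card K = s ∧ p ∣ s ∧ 2 ≤ m ∧ p * m ∣ s ∧ s / (p * m) ≡ 1 [MOD p] ∧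
        (∀ n : ℕ, n.Coprime a → n.Coprime c → Cfsg.Agent.H58.Rec.HasOrd H n → Cfsg.Agent.H58.Rec.HasOrd K n) ∧
        (∀ y : H, ∃ z : K, orderOf y ∣ orderOf z * (a * c))) := by
  obtain ⟨L, hL, hLn, R, hRn, hRp, hmax⟩ : ∃ L : Subgroup H, L = normalClosure (P : Set H) ∧ L.Normal ∧
      ∃ R : Subgroup L, R.Normal ∧ ¬ p ∣ Nat.card R ∧
      ∀ N : Subgroup L, N.Normal → R ≤ N → N = R ∨ N = ⊤ :=
    ⟨_, rfl, Subgroup.normalClosure_normal, exists_simple hP hp2⟩
  have hPL : P ≤ L := by rw [hL]; exact Subgroup.subset_normalClosure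
  have hcard : Nat.card (P.subgroupOf L) = p := by
    rw [Nat.card_congr (Subgroup.subgroupOfEquivOfLe hPL).toEquiv, hP]
  have hLp2 : ¬ p ^ 2 ∣ Nat.card L := fun h => hp2 (h.trans (Subgroup.card_subgroup_dvd_card L))
  have hpL : p ∣ Nat.card L := by rw [← hcard]; exact Subgroup.card_subgroup_dvd_card _
  have hLRK : Nat.card L = Nat.card (L ⧸ R) * Nat.card R := Subgroup.card_eq_card_quotient_mul_card_subgroup R
  have hpK : p ∣ Nat.card (L ⧸ R) := by
    rw [hLRK] at hpL
    exact (hp.out.dvd_mul.1 hpL).resolve_right hRp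
  have hKp2 : ¬ p ^ 2 ∣ Nat.card (L ⧸ R) := fun h => hLp2 (by rw [hLRK]; exact h.mul_right _)
  have hnt : Nontrivial (L ⧸ R) := by
    by_contra hcon
    rw [not_nontrivial_iff_subsingleton] at hcon
    rw [Nat.card_of_subsingleton (1 : L ⧸ R)] at hpK
    exact hp.out.one_lt.ne' (Nat.dvd_one.1 hpK)
  have hsimple : IsSimpleGroup (L ⧸ R) := by
    refine ⟨fun N hN => ?_⟩
    have h1 : R ≤ N.comap (QuotientGroup.mk' R) := by
      intro x hx
      rw [Subgroup.mem_comap, QuotientGroup.mk'_apply, (QuotientGroup.eq_one_iff x).2 hx]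
      exact N.one_mem
    have h2 : N = (N.comap (QuotientGroup.mk' R)).map (QuotientGroup.mk' R) :=
      (Subgroup.map_comap_eq_self_of_surjective (QuotientGroup.mk'_surjective R) N).symm
    rcases hmax _ (hN.comap _) h1 with h | h
    · left
      rw [h2, h]
      rw [eq_bot_iff]
      rintro _ ⟨x, hx, rfl⟩
      exact (QuotientGroup.eq_one_iff x).2 hx
    · right
      rw [h2, h]
      exact Subgroup.map_top_of_surjective _ (QuotientGroup.mk'_surjective R)
  have hmapcard : Nat.card ((P.subgroupOf L).map (QuotientGroup.mk' R)) = p := by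
    have h1 : Nat.card ((P.subgroupOf L).map (QuotientGroup.mk' R)) ∣ p := by
      have := Subgroup.card_map_dvd (P.subgroupOf L) (QuotientGroup.mk' R)
      rwa [hcard] at this
    rcases (Nat.dvd_prime hp.out).1 h1 with h | h
    · exfalso
      have h2 : (P.subgroupOf L).map (QuotientGroup.mk' R) = ⊥ := Subgroup.eq_bot_of_card_eq _ h
      rw [Subgroup.map_eq_bot_iff, QuotientGroup.ker_mk'] at h2
      apply hRp
      rw [← hcard]
      exact Subgroup.card_dvd_of_le h2
    · exact h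
  have hN1 := card_normalizer_frattini hPL hP hp2
  have hN2 := card_normalizer (R := R) hcard hRp
  set D := Nat.card (R ⊓ normalizer ((P.subgroupOf L : Subgroup L) : Set L) : Subgroup L) with hD
  have hInv : ∀ r : ℕ, r.Prime → r ∣ Nat.card R →
      ∃ S : Subgroup H, IsPGroup r S ∧ S ≠ ⊥ ∧ ∀ b ∈ P, ∀ y ∈ S, b * y * b⁻¹ ∈ S := by
    intro r hr hrR
    have := Fact.mk hr
    have hPp : IsPGroup p (P.subgroupOf L) := IsPGroup.of_card (n := 1) (by rw [hcard, pow_one])
    obtain ⟨S, hSR, hS, hSi, hinv⟩ := Cfsg.Agent.Classification.QDW.FuCop.exists_inv (D := P.subgroupOf L) (X := R) hPp hRp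
      (fun b _ u hu => Subgroup.Normal.conj_mem inferInstance u hu b) r
    refine ⟨S.map L.subtype, hS.map _, ?_, ?_⟩
    · intro h1
      have h2 : S = ⊥ := by
        rwa [Subgroup.map_eq_bot_iff_of_injective _ L.subtype_injective] at h1
      have h3 : S.relIndex R = Nat.card R := by
        rw [h2, Subgroup.relIndex_bot_left]
      rw [h3] at hSi
      exact hSi hrR
    · rintro b hb _ ⟨y, hy, rfl⟩
      exact ⟨_, hinv ⟨b, hPL hb⟩ hb y hy, rfl⟩
  have hHc : Nat.card H = Nat.card R * Nat.card (L ⧸ R) * L.index := by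
    rw [← Subgroup.card_mul_index L, hLRK, mul_comm (Nat.card (L ⧸ R))]
  by_cases hab : ∀ x y : L ⧸ R, x * y = y * x
  · refine ⟨Nat.card R, Nat.card (L ⧸ R), L.index, 1, D, hHc, hRp, ?_, hInv, Or.inl ⟨?_, rfl⟩⟩
    · rw [hN1, hN2, mul_one, ← mul_assoc]
      congr 1
      have h3 : normalizer (((P.subgroupOf L).map (QuotientGroup.mk' R) : Subgroup (L ⧸ R)) : Set (L ⧸ R)) = ⊤ := by
        rw [eq_top_iff]
        intro x _
        rw [Subgroup.mem_normalizer_iff]
        intro y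
        rw [hab x y, mul_inv_cancel_right]
      have h4 : (P.subgroupOf L).map (QuotientGroup.mk' R) = ⊤ := by
        have : ((P.subgroupOf L).map (QuotientGroup.mk' R)).Normal := ⟨fun n hn g => by
          rw [hab g n, mul_inv_cancel_right]; exact hn⟩
        rcases hsimple.eq_bot_or_eq_top_of_normal _ this with h | h
        · rw [h, Subgroup.card_bot] at hmapcard
          exact absurd hmapcard hp.out.one_lt.ne
        · exact h
      rw [h3, ← h4]
      exact hmapcard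
    · have h4 : (P.subgroupOf L).map (QuotientGroup.mk' R) = ⊤ := by
        have : ((P.subgroupOf L).map (QuotientGroup.mk' R)).Normal := ⟨fun n hn g => by
          rw [hab g n, mul_inv_cancel_right]; exact hn⟩
        rcases hsimple.eq_bot_or_eq_top_of_normal _ this with h | h
        · rw [h, Subgroup.card_bot] at hmapcard
          exact absurd hmapcard hp.out.one_lt.ne
        · exact h
      rw [h4, Subgroup.card_top] at hmapcard
      exact hmapcard
  · obtain ⟨m, hm, hm2, hmd, hmm⟩ := two_le_normalizer hab hmapcard hKp2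
    refine ⟨Nat.card R, Nat.card (L ⧸ R), L.index, m, D, hHc, hRp, ?_, hInv,
      Or.inr ⟨L ⧸ R, inferInstance, inferInstance, hsimple, hab, rfl, hpK, hm2,
        hmd, hmm, fun n hna hnc hn => ?_, fun y => ?_⟩⟩
    · rw [hN1, hN2, ← mul_assoc, hm]
    · have h6 : Cfsg.Agent.H58.Rec.HasOrd L n := hn.subgroup_of_coprime L hnc
      refine h6.map_of_coprime (QuotientGroup.mk' R) ?_
      rw [QuotientGroup.ker_mk']
      exact hna
    · have hyL : y ^ L.index ∈ L := Subgroup.pow_index_mem L y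
      refine ⟨QuotientGroup.mk' R ⟨y ^ L.index, hyL⟩, ?_⟩
      set z := QuotientGroup.mk' R ⟨y ^ L.index, hyL⟩ with hz
      have h7 : (⟨y ^ L.index, hyL⟩ : L) ^ orderOf z ∈ R := by
        rw [← QuotientGroup.eq_one_iff, QuotientGroup.mk_pow]
        exact pow_orderOf_eq_one z
      have h8 : ((⟨y ^ L.index, hyL⟩ : L) ^ orderOf z) ^ Nat.card R = 1 := by
        have h9 := pow_card_eq_one' (x := (⟨_, h7⟩ : R))
        exact congrArg Subtype.val h9
      have h10 : y ^ (L.index * orderOf z * Nat.card R) = 1 := by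
        have h11 := congrArg Subtype.val h8
        rw [pow_mul, pow_mul]
        exact h11
      have h12 := orderOf_dvd_of_pow_eq_one h10
      rwa [show L.index * orderOf z * Nat.card R = orderOf z * (Nat.card R * L.index) by ring] at h12

end A

open Matrix Cfsg.Agent.H39.DerPsl Cfsg.Agent.ClassicalGeometry.AutPSL.Root
  Cfsg.Agent.ClassicalGeometry.AutPSL.Auto Cfsg.Agent.H199.PslAut

/-- elements of order `p` normalizing a subgroup of order `v` centralize it if `p ∤ v - 1` -/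
theorem commute_of_normalizer {G : Type*} [Group G] [Finite G] {p v : ℕ} [hp : Fact p.Prime] (hv : v.Prime)
    (hpv : ¬ p ∣ v - 1) {P : Subgroup G} (hP : Nat.card P = v) {w : G} (hw : w ∈ normalizer (P : Set G)) (hwp : w ^ p = 1) :
    ∀ x ∈ P, x * w = w * x := by
  have := Fact.mk hv
  have hc : IsCyclic P := isCyclic_of_prime_card hP
  have hA : Nat.card (MulAut P) = v - 1 := by rw [IsCyclic.card_mulAut, hP, Nat.totient_prime hv]
  set f := P.normalizerMonoidHom with hf
  have h1 : f ⟨w, hw⟩ ^ p = 1 := by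
    rw [← map_pow, show (⟨w, hw⟩ : normalizer (P : Set G)) ^ p = 1 from Subtype.ext hwp, map_one]
  have h2 : orderOf (f ⟨w, hw⟩) ∣ v - 1 := by
    rw [← hA]
    exact _root_.orderOf_dvd_natCard _
  have h3 : f ⟨w, hw⟩ = 1 := by
    rcases (Nat.dvd_prime hp.out).1 (orderOf_dvd_of_pow_eq_one h1) with h | h
    · exact orderOf_eq_one_iff.1 h
    · rw [h] at h2
      exact absurd h2 hpv
  have h4 := MonoidHom.mem_ker.2 h3
  rw [hf, Subgroup.normalizerMonoidHom_ker, Subgroup.mem_subgroupOf] at h4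
  exact Subgroup.mem_centralizer_iff.1 h4

/-- **Subgroups with irreducible elements of prime order.** -/
theorem struct_psl {F : Type u} [Field F] [Fintype F] {n p v : ℕ} [hp : Fact p.Prime] [CharP F p] (hn : 1 ≤ n)
    (hv : v.Prime) (hvp : v ≠ p) (he : orderOf ((Fintype.card F : ℕ) : ZMod v) = n)
    (hco : ¬ v ∣ Nat.gcd n (Fintype.card F - 1))
    (hv2 : ¬ v ^ 2 ∣ Nat.card (Matrix.ProjectiveSpecialLinearGroup (Fin n) F)) (hpv : ¬ p ∣ v - 1)
    (M : Subgroup (Matrix.ProjectiveSpecialLinearGroup (Fin n) F)) (hM : v ∣ Nat.card M) :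
    ¬ p ∣ Nat.card M ∨ ∃ (K : Type u) (_ : Group K) (_ : Finite K) (a c : ℕ), IsSimpleGroup K ∧
      (¬ ∀ x y : K, x * y = y * x) ∧ v ∣ Nat.card K ∧ Nat.card M = a * Nat.card K * c ∧ ¬ p ∣ a ∧ ¬ p ∣ c ∧
      (∀ k : ℕ, k.Coprime a → k.Coprime c → Cfsg.Agent.H58.Rec.HasOrd M k → Cfsg.Agent.H58.Rec.HasOrd K k) ∧
      (∀ y : M, ∃ z : K, orderOf y ∣ orderOf z * (a * c)) := by
  have hfin : Finite (Matrix.ProjectiveSpecialLinearGroup (Fin n) F) := finite_psl
  have hvf := Fact.mk hv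
  obtain ⟨x, hx⟩ := exists_prime_orderOf_dvd_card' v hM
  obtain ⟨g, hg⟩ := pr_surjective (x : Matrix.ProjectiveSpecialLinearGroup (Fin n) F)
  set d := Nat.gcd n (Fintype.card F - 1) with hd
  have hgv : (g ^ d) ^ v = 1 := by
    have h1 : g ^ v ∈ Subgroup.center (Matrix.SpecialLinearGroup (Fin n) F) := by
      rw [← pr_eq_one_iff, map_pow, hg, ← Subgroup.coe_pow, ← hx, pow_orderOf_eq_one, Subgroup.coe_one]
    have h2 := smul_pow_gcd hn h1
    rw [← hd] at h2
    rw [← pow_mul, mul_comm, pow_mul, h2]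
  have hxd : orderOf (x ^ d) = v := by
    rw [Nat.Coprime.orderOf_pow, hx]
    rw [hx]
    exact (Nat.Prime.coprime_iff_not_dvd hv).2 hco
  have hprx : pr (g ^ d) = ((x ^ d : M) : Matrix.ProjectiveSpecialLinearGroup (Fin n) F) := by
    rw [map_pow, hg, Subgroup.coe_pow]
  have hgo : orderOf (g ^ d) = v := by
    refine orderOf_eq_prime hgv fun h => ?_
    rw [h, map_one] at hprx
    have h1 : x ^ d = 1 := Subtype.ext hprx.symm
    rw [h1, orderOf_one] at hxd
    exact hv.one_lt.ne hxd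
  have hMT : Nat.card M ∣ Nat.card (Matrix.ProjectiveSpecialLinearGroup (Fin n) F) := Subgroup.card_subgroup_dvd_card M
  have hP : Nat.card (zpowers (x ^ d)) = v := by rw [Nat.card_zpowers, hxd]
  obtain ⟨a, s, c, m, D, h1, h2, h3, h4, h5⟩ := exists_struct2 hP (fun h => hv2 (h.trans hMT))
  have hkill : ∀ S : Subgroup M, IsPGroup p S → (∀ b ∈ zpowers (x ^ d), ∀ y ∈ S, b * y * b⁻¹ ∈ S) → S = ⊥ := by
    intro S hS hinv
    have h6 := no_inv (p := p) hv hvp he hgo (S.map M.subtype) (hS.map _) (by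
      rintro _ ⟨y, hy, rfl⟩
      rw [hprx]
      refine ⟨(x ^ d)⁻¹ * y * (x ^ d)⁻¹⁻¹, hinv _ (inv_mem (mem_zpowers _)) y hy, ?_⟩
      rw [inv_inv]
      rfl)
    rwa [Subgroup.map_eq_bot_iff_of_injective _ M.subtype_injective] at h6
  have hpa : ¬ p ∣ a := by
    intro h
    obtain ⟨S, hS, hS1, hinv⟩ := h4 p hp.out h
    exact hS1 (hkill S hS hinv)
  have hpc : ¬ p ∣ c := by
    intro h
    have h6 : p ∣ Nat.card (normalizer ((zpowers (x ^ d) : Subgroup M) : Set M)) := by
      rw [h3]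
      exact (h.mul_right _).mul_right _
    obtain ⟨w, hw⟩ := exists_prime_orderOf_dvd_card' p h6
    have hw1 : orderOf (w : M) = p := by rw [Subgroup.orderOf_coe, hw]
    have hcomm := commute_of_normalizer hv hpv hP w.2 (by rw [← hw1, pow_orderOf_eq_one])
    have h7 := hkill (zpowers (w : M)) (IsPGroup.of_card (n := 1) (by rw [Nat.card_zpowers, hw1, pow_one])) (by
      intro b hb y hy
      obtain ⟨k, rfl⟩ := mem_zpowers_iff.1 hy
      have h8 : Commute b ((w : M) ^ k) := (show Commute b (w : M) from hcomm b hb).zpow_right k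
      rw [h8.eq, mul_inv_cancel_right]
      exact hy)
    rw [zpowers_eq_bot] at h7
    rw [h7, orderOf_one] at hw1
    exact hp.out.one_lt.ne hw1
  rcases h5 with ⟨h5, -⟩ | ⟨K, i1, i2, hK, hna, hKs, hvs, -, -, -, htr, hto⟩
  · left
    rw [h1, h5]
    intro h
    rcases hp.out.dvd_mul.1 h with h | h
    · rcases hp.out.dvd_mul.1 h with h | h
      · exact hpa h
      · exact hvp ((Nat.prime_dvd_prime_iff_eq hp.out hv).1 h).symm
    · exact hpc h
  · right
    exact ⟨K, i1, i2, a, c, hK, hna, by rw [hKs]; exact hvs, by rw [hKs]; exact h1, hpa, hpc, htr, hto⟩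

end Cfsg.Agent.H205.DerPsl
end

-- part: H205/Der/PslC
section
/-!
# `PSL_3(q)`: three classes of elements of order divisible by `v`, `v ∣ p (q ^ 2 - 1)` (helper205, S3502)
-/

set_option autoImplicit false

namespace Cfsg.Agent.H205.DerPsl

open Matrix Cfsg.Agent.H72 Cfsg.Agent.H72.AdjPSL Cfsg.Agent.H72.AdjOrth Cfsg.Agent.H39.DerPsl Cfsg.Agent.H439.Der
  Cfsg.Agent.ClassicalGeometry.AutPSL.Root Cfsg.Agent.ClassicalGeometry.AutPSL.Auto Cfsg.Agent.H199.PslAut

variable {F : Type*} [Field F] [Fintype F]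

/-- the regular unipotent element -/
def regU (F : Type*) [Field F] : Matrix.SpecialLinearGroup (Fin 3) F :=
  ⟨!![1, 1, 0; 0, 1, 1; 0, 0, 1], by rw [Matrix.det_fin_three]; simp⟩

/-- a transvection -/
def transU (F : Type*) [Field F] : Matrix.SpecialLinearGroup (Fin 3) F :=
  ⟨!![1, 1, 0; 0, 1, 0; 0, 0, 1], by rw [Matrix.det_fin_three]; simp⟩

omit [Fintype F] in
theorem coe_regU : (regU F : Matrix (Fin 3) (Fin 3) F) = !![1, 1, 0; 0, 1, 1; 0, 0, 1] := rfl

omit [Fintype F] in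
theorem coe_transU : (transU F : Matrix (Fin 3) (Fin 3) F) = !![1, 1, 0; 0, 1, 0; 0, 0, 1] := rfl

omit [Fintype F] in
theorem regU_pow (k : ℕ) : (!![1, 1, 0; 0, 1, 1; 0, 0, 1] : Matrix (Fin 3) (Fin 3) F) ^ k =
    !![1, (k : F), (Nat.choose k 2 : F); 0, 1, (k : F); 0, 0, 1] := by
  induction k with
  | zero => simp [Matrix.one_fin_three]
  | succ k ih =>
    rw [pow_succ, ih]
    ext i j
    (revert i j; simp only [Matrix.mul_apply, Fin.sum_univ_three, Nat.choose_succ_succ, _root_.Fin.forall_fin_succ, _root_.Matrix.of_apply, _root_.Matrix.cons_val', _root_.Matrix.cons_val_fin_one, Fin.isValue, _root_.Matrix.cons_val_zero, _root_.Matrix.cons_val_one, _root_.Matrix.cons_val, _root_.Nat.cast_add, _root_.Nat.cast_one, _root_.Nat.choose_one_right, _root_.Nat.succ_eq_add_one, Nat.reduceAdd, _root_.mul_one, _root_.MulZeroClass.mul_zero, _root_.add_zero, _root_.Matrix.cons_val_succ, _root_.zero_add, _root_.forall_const, _root_.true_and, _root_.and_true,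 _root_.add_eq_right, _root_.and_self, _root_.implies_true]) <;> (repeat' with_reducible apply And.intro) <;> ring

omit [Fintype F] in
theorem transU_pow (k : ℕ) : (!![1, 1, 0; 0, 1, 0; 0, 0, 1] : Matrix (Fin 3) (Fin 3) F) ^ k =
    !![1, (k : F), 0; 0, 1, 0; 0, 0, 1] := by
  induction k with
  | zero => simp [Matrix.one_fin_three]
  | succ k ih =>
    rw [pow_succ, ih]
    ext i j
    (revert i j; simp only [Matrix.mul_apply, Fin.sum_univ_three, _root_.Fin.forall_fin_succ, _root_.Matrix.of_apply, _root_.Matrix.cons_val', _root_.Matrix.cons_val_fin_one, Fin.isValue, _root_.Matrix.cons_val_zero, _root_.Matrix.cons_val_one, _root_.Matrix.cons_val, _root_.Nat.cast_add, _root_.Nat.cast_one, _root_.mul_one, _root_.MulZeroClass.mul_zero, _root_.add_zero, _root_.Matrix.cons_val_succ, _root_.zero_add, _root_.implies_true, _root_.add_eq_right, _root_.and_true, _root_.true_and]) <;> (repeat' with_reducible apply And.intro); ring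

/-- `p` odd -/
theorem three_p_odd (p : ℕ) [hp : Fact p.Prime] [CharP F p] (hp2 : p ≠ 2) :
    ¬ SCC (Matrix.ProjectiveSpecialLinearGroup (Fin 3) F) p := by
  have hq1 : 1 < Fintype.card F := Fintype.one_lt_card
  have hpq := p_dvd (F := F) p
  have hpd := not_dvd_of_dvd_sub hp.out hq1.le hpq
  have hcop : Nat.Coprime p (Fintype.card F - 1) := (Nat.Prime.coprime_iff_not_dvd hp.out).2 hpd
  have hco : Nat.Coprime p (Nat.gcd 3 (Fintype.card F - 1)) := hcop.coprime_dvd_right (Nat.gcd_dvd_right _ _)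
  have hp3 : 3 ≤ p := by
    have := hp.out.two_le
    omega
  have hch : p ∣ Nat.choose p 2 := hp.out.dvd_choose_self (by norm_num) (by omega)
  have hreg : (regU F) ^ p = 1 := by
    apply Subtype.ext
    rw [Matrix.SpecialLinearGroup.coe_pow, coe_regU, regU_pow, CharP.cast_eq_zero,
      (CharP.cast_eq_zero_iff F p _).2 hch, Matrix.SpecialLinearGroup.coe_one, Matrix.one_fin_three]
  have htr : (transU F) ^ p = 1 := by
    apply Subtype.ext
    rw [Matrix.SpecialLinearGroup.coe_pow, coe_transU, transU_pow, CharP.cast_eq_zero,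
      Matrix.SpecialLinearGroup.coe_one, Matrix.one_fin_three]
  have htsq : ((transU F : Matrix (Fin 3) (Fin 3) F) - 1) ^ 2 = 0 := by
    rw [coe_transU]
    ext i j
    fin_cases i <;> fin_cases j <;> simp [pow_two, Matrix.mul_apply, Fin.sum_univ_three]
  have hrsq : ((regU F : Matrix (Fin 3) (Fin 3) F) - 1) ^ 2 ≠ 0 := by
    intro h
    have h1 := congrFun (congrFun h 0) 2
    rw [coe_regU] at h1
    simp [pow_two, Matrix.mul_apply, Fin.sum_univ_three] at h1
  have hne1 : pr (transU F) ≠ 1 := by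
    intro h
    have h1 := eq_one_of_center' (by norm_num) hco ((pr_eq_one_iff _).1 h) htr
    have h2 := congrArg (fun M : Matrix.SpecialLinearGroup (Fin 3) F => (M : Matrix (Fin 3) (Fin 3) F) 0 1) h1
    simp [coe_transU] at h2
  have hne2 : pr (regU F) ≠ 1 := by
    intro h
    have h1 := eq_one_of_center' (by norm_num) hco ((pr_eq_one_iff _).1 h) hreg
    have h2 := congrArg (fun M : Matrix.SpecialLinearGroup (Fin 3) F => (M : Matrix (Fin 3) (Fin 3) F) 0 1) h1
    simp [coe_regU] at h2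
  obtain ⟨w, hw⟩ := exists_three_char (F := F) p
  have ho1 : orderOf (pr (transU F)) = p := orderOf_eq_prime (by rw [← map_pow, htr, map_one]) hne1
  have ho2 : orderOf (pr (regU F)) = p := orderOf_eq_prime (by rw [← map_pow, hreg, map_one]) hne2
  have hs : p * ((Fintype.card F - 1) / Nat.gcd 3 (Fintype.card F - 1)) ≠ p := by
    intro h1
    have h2 : (Fintype.card F - 1) / Nat.gcd 3 (Fintype.card F - 1) = 1 :=
      Nat.eq_of_mul_eq_mul_left hp.out.pos (by rw [mul_one]; exact h1)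
    have h3 : Fintype.card F - 1 = Nat.gcd 3 (Fintype.card F - 1) := by
      have := Nat.div_mul_cancel (Nat.gcd_dvd_right 3 (Fintype.card F - 1))
      rw [h2, one_mul] at this
      exact this.symm
    have h4 : Fintype.card F - 1 ∣ 3 := by
      conv_lhs => rw [h3]
      exact Nat.gcd_dvd_left _ _
    have h5 := (Nat.dvd_prime Nat.prime_three).1 h4
    have h6 : p ∣ 2 ^ 2 := by
      rcases h5 with h5 | h5
      · rw [show Fintype.card F = 2 by omega] at hpq
        exact hpq.trans (by norm_num)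
      · rw [show Fintype.card F = 4 by omega] at hpq
        exact hpq
    exact hp2 ((Nat.prime_dvd_prime_iff_eq hp.out Nat.prime_two).1 (hp.out.dvd_of_dvd_pow h6))
  refine not_SCC_of_three (x := pr (transU F)) (y := pr (regU F)) (z := w) (by rw [ho1]) (by rw [ho2])
    (by rw [hw]; exact dvd_mul_right _ _) ?_ ?_ ?_
  · intro φ hφ
    exact hrsq (sq_of_aut (by norm_num) hco htr hreg φ hφ htsq)
  · intro φ hφ
    apply hs
    rw [← hw, ← hφ, Cfsg.Agent.H938.Sax.orderOf_mulEquiv, ho1]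
  · intro φ hφ
    apply hs
    rw [← hw, ← hφ, Cfsg.Agent.H938.Sax.orderOf_mulEquiv, ho2]

/-- `s = (q - 1) / (3, q - 1) ≠ 1` -/
theorem s_ne_one {q : ℕ} (h2 : q ≠ 2) (h4 : q ≠ 4) (hq : 1 < q) : (q - 1) / Nat.gcd 3 (q - 1) ≠ 1 := by
  intro h
  have h3 : q - 1 = Nat.gcd 3 (q - 1) := by
    have := Nat.div_mul_cancel (Nat.gcd_dvd_right 3 (q - 1))
    rw [h, one_mul] at this
    exact this.symm
  have h4 : q - 1 ∣ 3 := by
    conv_lhs => rw [h3]
    exact Nat.gcd_dvd_left _ _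
  have h5 := (Nat.dvd_prime Nat.prime_three).1 h4
  omega

/-- order four in characteristic two -/
theorem hasOrd_four [CharP F 2] : HasOrd (Matrix.ProjectiveSpecialLinearGroup (Fin 3) F) 4 := by
  refine exists_order (!![1, 1, 0; 0, 1, 1; 0, 0, 1] : Matrix (Fin 3) (Fin 3) F) ?_ (N := 4) ?_ _ dvd_rfl
  · rw [Matrix.det_fin_three]
    simp
  · intro k c hk
    rw [regU_pow] at hk
    have h1 := congrFun (congrFun hk 0) 1
    have h2 := congrFun (congrFun hk 0) 2
    simp only [_root_.Fin.isValue, _root_.Matrix.of_apply, _root_.Matrix.cons_val', _root_.Matrix.cons_val_one, _root_.Matrix.cons_val_zero, _root_.Matrix.cons_val_fin_one, _root_.Matrix.smul_apply, _root_.ne_eq, _root_.zero_ne_one, _root_.not_false_eq_true, _root_.Matrix.one_apply_ne, _root_.smul_eq_mul, _root_.MulZeroClass.mul_zero, _root_.Matrix.cons_val, _root_.Fin.reduceEq] at h1 h2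
    have h3 : 2 ∣ k := (CharP.cast_eq_zero_iff F 2 k).1 h1
    have h4 : 2 ∣ k.choose 2 := (CharP.cast_eq_zero_iff F 2 _).1 h2
    obtain ⟨j, rfl⟩ := h3
    rw [Nat.choose_two_right, mul_assoc, Nat.mul_div_cancel_left _ (by norm_num)] at h4
    rcases Nat.eq_zero_or_pos j with rfl | hj
    · simp
    have h5 : ¬ 2 ∣ 2 * j - 1 := by omega
    have h6 := (Nat.prime_two.dvd_mul.1 h4).resolve_right h5
    obtain ⟨i, rfl⟩ := h6
    exact ⟨i, by ring⟩

/-- **the characteristic, `n = 3`** -/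
theorem three_char3 (p : ℕ) [hp : Fact p.Prime] [CharP F p] (h2 : Fintype.card F ≠ 2) (h4 : Fintype.card F ≠ 4) :
    ¬ SCC (Matrix.ProjectiveSpecialLinearGroup (Fin 3) F) p := by
  by_cases hp2 : p = 2
  · subst hp2
    have hq1 : 1 < Fintype.card F := Fintype.one_lt_card
    have hs := s_ne_one h2 h4 hq1
    have hpd := not_dvd_of_dvd_sub Nat.prime_two hq1.le (p_dvd (F := F) 2)
    have hs2 : ¬ 2 ∣ (Fintype.card F - 1) / Nat.gcd 3 (Fintype.card F - 1) := fun h =>
      hpd (h.trans (Nat.div_dvd_of_dvd (Nat.gcd_dvd_right _ _)))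
    refine not_SCC_of_mul (v := 2) (by norm_num) (hasOrd_p 2 le_rfl) (exists_three_char 2) (b := 2) hasOrd_four hs
      (by norm_num) ?_
    intro h
    exact hs2 (by rw [h])
  · exact three_p_odd p hp2

/-- `(q ^ 2 - 1) / (3, q - 1) = s (q + 1)` -/
theorem tor3 (q : ℕ) (hq : 1 ≤ q) : (q ^ 2 - 1) / Nat.gcd 3 (q - 1) = (q - 1) / Nat.gcd 3 (q - 1) * (q + 1) := by
  have h1 : q ^ 2 - 1 = (q - 1) * (q + 1) := by
    have := Nat.sq_sub_sq q 1
    rw [one_pow, mul_comm] at this
    exact this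
  rw [h1, Nat.mul_comm (q - 1), Nat.mul_div_assoc _ (Nat.gcd_dvd_right _ _), mul_comm]

theorem hasOrd_tor3 : HasOrd (Matrix.ProjectiveSpecialLinearGroup (Fin 3) F)
    ((Fintype.card F - 1) / Nat.gcd 3 (Fintype.card F - 1) * (Fintype.card F + 1)) := by
  have h := exists_tor (F := F) (n := 3) (by norm_num)
  rw [tor3 _ Fintype.card_pos] at h
  exact h

/-- **`v ∣ (q - 1) / (3, q - 1)`** -/
theorem three_s {v : ℕ} (hv : v.Prime)
    (hvs : v ∣ (Fintype.card F - 1) / Nat.gcd 3 (Fintype.card F - 1)) :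
    ¬ SCC (Matrix.ProjectiveSpecialLinearGroup (Fin 3) F) v := by
  obtain ⟨p, hpc⟩ := CharP.exists F
  have hp : Fact p.Prime := ⟨CharP.char_is_prime F p⟩
  have hq1 : 1 < Fintype.card F := Fintype.one_lt_card
  have hpq := p_dvd (F := F) p
  have hpd := not_dvd_of_dvd_sub hp.out hq1.le hpq
  have hpd1 := not_dvd_of_dvd_add hp.out hpq
  have hs1 : (Fintype.card F - 1) / Nat.gcd 3 (Fintype.card F - 1) ∣ Fintype.card F - 1 :=
    Nat.div_dvd_of_dvd (Nat.gcd_dvd_right _ _)
  have hvp : v ≠ p := by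
    rintro rfl
    exact hpd (hvs.trans hs1)
  have hps : ¬ p ∣ (Fintype.card F - 1) / Nat.gcd 3 (Fintype.card F - 1) := fun h => hpd (h.trans hs1)
  have hs0 : (Fintype.card F - 1) / Nat.gcd 3 (Fintype.card F - 1) ≠ 0 := by
    intro h
    rw [h] at hps
    exact hps (dvd_zero _)
  have h2 := exists_three_char (F := F) p
  have h3 := hasOrd_tor3 (F := F)
  have h1 : HasOrd (Matrix.ProjectiveSpecialLinearGroup (Fin 3) F) v :=
    HasOrd.dvd h3 (Nat.mul_ne_zero hs0 (by omega)) (hvs.mul_right _)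
  refine not_SCC_of_ords h1 h2 h3 dvd_rfl (hvs.mul_left _) (hvs.mul_right _) ?_ ?_ ?_
  · intro h
    have h5 : p ∣ v := by rw [h]; exact dvd_mul_right _ _
    exact hvp ((Nat.prime_dvd_prime_iff_eq hp.out hv).1 h5).symm
  · intro h
    have h5 : v ≤ (Fintype.card F - 1) / Nat.gcd 3 (Fintype.card F - 1) := Nat.le_of_dvd (Nat.pos_of_ne_zero hs0) hvs
    have h6 : 0 < v := hv.pos
    nlinarith
  · intro h
    have h5 : p ∣ (Fintype.card F - 1) / Nat.gcd 3 (Fintype.card F - 1) * (Fintype.card F + 1) := by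
      rw [← h]
      exact dvd_mul_right _ _
    rcases hp.out.dvd_mul.1 h5 with h6 | h6
    · exact hps h6
    · exact hpd1 h6

/-- `2 ^ f - 1 = 3 m`, `m` prime -/
theorem sixteen {f m : ℕ} (hm : 2 ^ f - 1 = 3 * m) (hmp : m.Prime) : f = 4 := by
  have hf : Even f := by
    by_contra hodd
    rw [Nat.not_even_iff_odd] at hodd
    obtain ⟨k, rfl⟩ := hodd
    have h1 : 2 ^ (2 * k + 1) % 3 = 2 := by
      rw [pow_succ, pow_mul, Nat.mul_mod, Nat.pow_mod]
      norm_num
    have h2 : 0 < 2 ^ (2 * k + 1) := by positivity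
    generalize 2 ^ (2 * k + 1) = a at hm h1 h2
    omega
  obtain ⟨g, rfl⟩ := hf
  have h1 : 2 ^ (g + g) - 1 = (2 ^ g + 1) * (2 ^ g - 1) := by
    rw [pow_add, ← pow_two]
    have := Nat.sq_sub_sq (2 ^ g) 1
    simpa only [_root_.one_pow] using this
  rw [h1] at hm
  by_contra hne
  have hm2 := hmp.two_le
  have hg : g ≠ 0 := by
    rintro rfl
    norm_num at hm
    omega
  have hg1 : g ≠ 1 := by
    rintro rfl
    norm_num at hm
    omega
  have hg3 : 3 ≤ g := by omega
  have h8 : 2 ^ 3 ≤ 2 ^ g := Nat.pow_le_pow_right (by norm_num) hg3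
  have h3 : 3 ∣ (2 ^ g + 1) * (2 ^ g - 1) := ⟨m, hm⟩
  rcases Nat.prime_three.dvd_mul.1 h3 with ⟨a, ha⟩ | ⟨a, ha⟩
  · rw [ha, mul_assoc] at hm
    have h4 : a * (2 ^ g - 1) = m := Nat.eq_of_mul_eq_mul_left (by norm_num) hm
    rw [← h4] at hmp
    exact Nat.not_prime_mul (by omega) (by omega) hmp
  · rw [ha, mul_comm, mul_assoc] at hm
    have h4 : a * (2 ^ g + 1) = m := Nat.eq_of_mul_eq_mul_left (by norm_num) hm
    rw [← h4] at hmp
    exact Nat.not_prime_mul (by omega) (by omega) hmp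

end Cfsg.Agent.H205.DerPsl
end

-- part: H205/Der/Num
section
/-!
# Numbers for `NTC (PSL_n(q))` (helper205, S3502)
-/

set_option autoImplicit false

namespace Cfsg.Agent.H205.DerPsl

open Cfsg.Agent.H39.DerPsl

theorem j2 {e : ℕ} (he : 5 ≤ e) : 4 * e + 1 < gs 2 e := by
  induction e, he using Nat.le_induction with
  | base => decide
  | succ n hn ih => rw [gs_succ]; omega

theorem j3 {e : ℕ} (he : 5 ≤ e) : (4 * e + 1) * 2 < gs 3 e := by
  induction e, he using Nat.le_induction with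
  | base => decide
  | succ n hn ih => rw [gs_succ]; omega

theorem j4 {e : ℕ} (he : 5 ≤ e) : (8 * e + 1) * 3 < gs 4 e := by
  induction e, he using Nat.le_induction with
  | base => decide
  | succ n hn ih => rw [gs_succ]; omega

theorem gs_five (q : ℕ) : gs q 5 = q ^ 4 + q ^ 3 + q ^ 2 + q + 1 := by
  simp only [gs, Finset.sum_range_succ, _root_.Finset.range_one, _root_.Finset.sum_singleton, _root_.pow_zero, _root_.pow_one]; ring

theorem j5 {q e : ℕ} (hq : 5 ≤ q) (he : 5 ≤ e) : (2 * e * q + 1) * e < gs q e := by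
  induction e, he using Nat.le_induction with
  | base =>
    rw [gs_five]
    have h1 : 5 * q ≤ q ^ 2 := by nlinarith
    have h2 : 25 * q ≤ q ^ 3 := by linarith only [Nat.mul_le_mul h1 hq]
    have h3 : 125 * q ≤ q ^ 4 := by
      have : q ^ 4 = q ^ 3 * q := by ring
      nlinarith only [h1]
    linarith only [hq, h1, h2, h3]
  | succ n hn ih =>
    rw [gs_succ]
    have h1 : q * ((2 * n * q + 1) * n) < q * gs q n := Nat.mul_lt_mul_of_pos_left ih (by omega)
    have h2 : 5 * ((2 * n * q + 1) * n) ≤ q * ((2 * n * q + 1) * n) := Nat.mul_le_mul_right _ hq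
    have h4 : (n + 1) * (n + 1) ≤ 5 * (n * n) := by nlinarith only [hn]
    have h5 : 2 * ((n + 1) * (n + 1)) * q ≤ 2 * (5 * (n * n)) * q := Nat.mul_le_mul_right q (by omega)
    have h3 : (2 * (n + 1) * q + 1) * (n + 1) ≤ 5 * ((2 * n * q + 1) * n) := by linarith only [hn, h5]
    omega

theorem f_small {p f q B : ℕ} (hp : p.Prime) (hf : 1 ≤ f) (hq : q = p ^ f) (hB : q < B) : p < B := by
  have : p ^ 1 ≤ p ^ f := Nat.pow_le_pow_right hp.pos hf
  rw [pow_one] at this
  omega

theorem tab3 : ∀ q ∈ Finset.Ico 2 18, q ∉ ({2, 3, 4} : Finset ℕ) → ∀ f ∈ Finset.Ico 1 5, ∀ p ∈ Finset.Ico 2 18, q = p ^ f →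
    ∀ g ∈ Finset.Ico 1 4, g ∣ Nat.gcd 3 (q - 1) → (4 * (3 * f) + 1) * g < q ^ 2 + q + 1 := by
  decide +kernel

theorem tab4 : ∀ q ∈ Finset.Ico 3 18, ∀ f ∈ Finset.Ico 1 5, ∀ p ∈ Finset.Ico 2 18, q = p ^ f →
    ∀ g ∈ Finset.Ico 1 5, g ∣ Nat.gcd 4 (q - 1) → (4 * (4 * f) + 1) * g < q ^ 3 + q ^ 2 + q + 1 := by
  decide +kernel

theorem num_J {p f q n g : ℕ} (hp : p.Prime) (hf : 1 ≤ f) (hq : q = p ^ f) (hn : 3 ≤ n)
    (hex : (n, q) ∉ ({(3, 2), (3, 3), (3, 4), (4, 2)} : Finset (ℕ × ℕ))) (hg : g ∣ Nat.gcd n (q - 1)) :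
    (4 * (n * f) + 1) * g < gs q n := by
  obtain ⟨h5, h6⟩ := two_f hp hf hq
  have hp2 := hp.two_le
  have hq2 : 2 ≤ q := by omega
  have hdn : g ≤ n := Nat.le_of_dvd (by omega) (hg.trans (Nat.gcd_dvd_left _ _))
  have hdq : g ≤ q - 1 := Nat.le_of_dvd (by omega) (hg.trans (Nat.gcd_dvd_right _ _))
  have hg0 : 0 < g := Nat.pos_of_dvd_of_pos hg (Nat.gcd_pos_of_pos_left _ (by omega))
  simp only [Finset.mem_insert, Finset.mem_singleton, Prod.mk.injEq, not_or] at hex
  obtain ⟨e1, e2, e3, e4⟩ := hex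
  have hf18 : q < 18 → f < 5 := by
    intro h
    by_contra hc
    have : 2 ^ 5 ≤ 2 ^ f := Nat.pow_le_pow_right (by norm_num) (by omega)
    omega
  rcases Nat.lt_or_ge n 5 with h | h
  · have h34 : n = 3 ∨ n = 4 := by omega
    rcases h34 with rfl | rfl
    · rw [gs_three]
      rcases Nat.lt_or_ge q 18 with h18 | h18
      · refine tab3 q (Finset.mem_Ico.2 ⟨hq2, h18⟩) ?_ f (Finset.mem_Ico.2 ⟨hf, hf18 h18⟩) p
          (Finset.mem_Ico.2 ⟨hp2, f_small hp hf hq h18⟩) hq g (Finset.mem_Ico.2 ⟨hg0, by omega⟩) hg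
        simp only [Finset.mem_insert, Finset.mem_singleton]
        omega
      · have h7 : (4 * (3 * f) + 1) * g ≤ (6 * q + 1) * 3 := Nat.mul_le_mul (by omega) hdn
        nlinarith only [h6, hdn, h18]
    · rw [gs_four]
      rcases Nat.lt_or_ge q 18 with h18 | h18
      · exact tab4 q (Finset.mem_Ico.2 ⟨by omega, h18⟩) f (Finset.mem_Ico.2 ⟨hf, hf18 h18⟩) p
          (Finset.mem_Ico.2 ⟨hp2, f_small hp hf hq h18⟩) hq g (Finset.mem_Ico.2 ⟨hg0, by omega⟩) hg
      · have h7 : (4 * (4 * f) + 1) * g ≤ (8 * q + 1) * 4 := Nat.mul_le_mul (by omega) hdn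
        have h8 : 18 * q ≤ q ^ 2 := by nlinarith only [h18]
        have h9 : 18 * q ^ 2 ≤ q ^ 3 := by
          rw [pow_succ q 2]
          nlinarith only [h18]
        linarith only [h18, h7, h8, h9]
  · rcases Nat.lt_or_ge q 5 with h9 | h9
    · have hf4 : f < 3 := by
        by_contra hc
        have : 2 ^ 3 ≤ 2 ^ f := Nat.pow_le_pow_right (by norm_num) (by omega)
        omega
      interval_cases q
      · have := j2 h
        have hd1 : g ≤ 1 := hdq
        have hf1 : f = 1 := by interval_cases f <;> omega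
        subst hf1
        have : (4 * (n * 1) + 1) * g ≤ (4 * (n * 1) + 1) * 1 := Nat.mul_le_mul_left _ hd1
        omega
      · have := j3 h
        have hd1 : g ≤ 2 := hdq
        have hf1 : f = 1 := by interval_cases f <;> omega
        subst hf1
        have : (4 * (n * 1) + 1) * g ≤ (4 * (n * 1) + 1) * 2 := Nat.mul_le_mul_left _ hd1
        omega
      · have := j4 h
        have hd1 : g ≤ 3 := hdq
        have : (4 * (n * f) + 1) * g ≤ (8 * n + 1) * 3 := Nat.mul_le_mul (by nlinarith only [hf4]) hd1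
        omega
    · have := j5 h9 h
      have h7 : (4 * (n * f) + 1) * g ≤ (2 * n * q + 1) * n := Nat.mul_le_mul (by nlinarith only [h6]) hdn
      omega

/-! ### the inequality `g (c + 1) ≤ q ^ ⌈e / 2⌉` -/

theorem ev2 {u : ℕ} (hu : 3 ≤ u) : 2 * u + 1 ≤ 2 ^ u := by
  induction u, hu using Nat.le_induction with
  | base => decide
  | succ n hn ih => rw [pow_succ]; omega

theorem ev3 {u : ℕ} (hu : 3 ≤ u) : 2 * (2 * u + 1) ≤ 3 ^ u := by
  induction u, hu using Nat.le_induction with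
  | base => decide
  | succ n hn ih => rw [pow_succ]; omega

theorem ev4 {u : ℕ} (hu : 3 ≤ u) : 3 * (4 * u + 1) ≤ 4 ^ u := by
  induction u, hu using Nat.le_induction with
  | base => decide
  | succ n hn ih => rw [pow_succ]; omega

theorem ev5 {q u : ℕ} (hq : 5 ≤ q) (hu : 3 ≤ u) : 2 * u * (u * q + 1) ≤ q ^ u := by
  induction u, hu using Nat.le_induction with
  | base =>
    have h1 : 5 * q ≤ q ^ 2 := by nlinarith
    have h2 : q ^ 3 = q ^ 2 * q := by ring
    nlinarith only [hq, h1]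
  | succ n hn ih =>
    rw [pow_succ]
    have h1 : 2 * n * (n * q + 1) * q ≤ q ^ n * q := Nat.mul_le_mul_right q ih
    have h2 : 2 * n * (n * q + 1) * 5 ≤ 2 * n * (n * q + 1) * q := Nat.mul_le_mul_left _ hq
    have h4 : (n + 1) * (n + 1) ≤ 5 * (n * n) := by nlinarith only [hn]
    have h5 : (n + 1) * (n + 1) * q ≤ 5 * (n * n) * q := Nat.mul_le_mul_right q h4
    have h3 : 2 * (n + 1) * ((n + 1) * q + 1) ≤ 2 * n * (n * q + 1) * 5 := by linarith only [hn, h5]
    omega

theorem od2 {u : ℕ} (hu : 4 ≤ u) : 4 * u - 1 ≤ 2 ^ u := by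
  induction u, hu using Nat.le_induction with
  | base => decide
  | succ n hn ih => rw [pow_succ]; omega

theorem od3 {u : ℕ} (hu : 3 ≤ u) : 2 * (4 * u - 1) ≤ 3 ^ u := by
  induction u, hu using Nat.le_induction with
  | base => decide
  | succ n hn ih => rw [pow_succ]; omega

theorem od4 {u : ℕ} (hu : 3 ≤ u) : 3 * (8 * u - 3) ≤ 4 ^ u := by
  induction u, hu using Nat.le_induction with
  | base => decide
  | succ n hn ih => rw [pow_succ]; omega

theorem od5 {q u : ℕ} (hq : 5 ≤ q) (hu : 4 ≤ u) : (2 * u - 1) * ((2 * u - 1) * q + 1) ≤ q ^ u := by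
  induction u, hu using Nat.le_induction with
  | base =>
    have h1 : 5 * q ≤ q ^ 2 := by nlinarith
    have h2 : q ^ 4 = q ^ 2 * q ^ 2 := by ring
    have h3 : 5 * q * (5 * q) ≤ q ^ 2 * q ^ 2 := Nat.mul_le_mul h1 h1
    norm_num
    linarith only [hq, h1, h3]
  | succ n hn ih =>
    rw [pow_succ]
    obtain ⟨m, hm⟩ : ∃ m, 2 * n - 1 = m := ⟨_, rfl⟩
    have hm7 : 7 ≤ m := by omega
    have hm2 : 2 * (n + 1) - 1 = m + 2 := by omega
    rw [hm] at ih
    rw [hm2]
    have h1 : m * (m * q + 1) * q ≤ q ^ n * q := Nat.mul_le_mul_right q ih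
    have h2 : m * (m * q + 1) * 5 ≤ m * (m * q + 1) * q := Nat.mul_le_mul_left _ hq
    have h4 : (m + 2) * (m + 2) ≤ 5 * (m * m) := by nlinarith only [hm7]
    have h5 : (m + 2) * (m + 2) * q ≤ 5 * (m * m) * q := Nat.mul_le_mul_right q h4
    have h3 : (m + 2) * ((m + 2) * q + 1) ≤ m * (m * q + 1) * 5 := by linarith only [hm7, h5]
    omega

theorem tabE : ∀ q ∈ Finset.Ico 4 18, ∀ f ∈ Finset.Ico 1 5, ∀ p ∈ Finset.Ico 2 18, q = p ^ f →
    ∀ g ∈ Finset.Ico 1 5, g ∣ Nat.gcd 4 (q - 1) → g * (4 * f + 1) ≤ q ^ 2 := by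
  decide +kernel

theorem tabO : ∀ q ∈ Finset.Ico 3 18, ∀ f ∈ Finset.Ico 1 5, ∀ p ∈ Finset.Ico 2 18, q = p ^ f →
    ∀ g ∈ Finset.Ico 1 6, g ∣ Nat.gcd 5 (q - 1) → g * (10 * f + 1) ≤ q ^ 3 := by
  decide +kernel

theorem num_even {p f q u g : ℕ} (hp : p.Prime) (hf : 1 ≤ f) (hq : q = p ^ f) (hu : 2 ≤ u)
    (hex : ¬ (u = 2 ∧ q ≤ 3)) (hg : g ∣ Nat.gcd (2 * u) (q - 1)) : g * (2 * u * f + 1) ≤ q ^ u := by
  obtain ⟨h5, h6⟩ := two_f hp hf hq
  have hp2 := hp.two_le
  have hq2 : 2 ≤ q := by omega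
  have hdn : g ≤ 2 * u := Nat.le_of_dvd (by omega) (hg.trans (Nat.gcd_dvd_left _ _))
  have hdq : g ≤ q - 1 := Nat.le_of_dvd (by omega) (hg.trans (Nat.gcd_dvd_right _ _))
  have hg0 : 0 < g := Nat.pos_of_dvd_of_pos hg (Nat.gcd_pos_of_pos_left _ (by omega))
  rcases Nat.lt_or_ge u 3 with h | h
  · obtain rfl : u = 2 := by omega
    rcases Nat.lt_or_ge q 18 with h18 | h18
    · have hf18 : f < 5 := by
        by_contra hc
        have : 2 ^ 5 ≤ 2 ^ f := Nat.pow_le_pow_right (by norm_num) (by omega)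
        omega
      exact tabE q (Finset.mem_Ico.2 ⟨by omega, h18⟩) f (Finset.mem_Ico.2 ⟨hf, hf18⟩) p
        (Finset.mem_Ico.2 ⟨hp2, f_small hp hf hq h18⟩) hq g (Finset.mem_Ico.2 ⟨hg0, by omega⟩) hg
    · have h7 : g * (2 * 2 * f + 1) ≤ 4 * (2 * q + 1) := Nat.mul_le_mul (by omega) (by omega)
      nlinarith only [h6, hdn, h18]
  · rcases Nat.lt_or_ge q 5 with h9 | h9
    · have hf4 : f < 3 := by
        by_contra hc
        have : 2 ^ 3 ≤ 2 ^ f := Nat.pow_le_pow_right (by norm_num) (by omega)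
        omega
      interval_cases q
      · have := ev2 h
        have hd1 : g ≤ 1 := hdq
        have hf1 : f = 1 := by interval_cases f <;> omega
        subst hf1
        have : g * (2 * u * 1 + 1) ≤ 1 * (2 * u * 1 + 1) := Nat.mul_le_mul_right _ hd1
        omega
      · have := ev3 h
        have hd1 : g ≤ 2 := hdq
        have hf1 : f = 1 := by interval_cases f <;> omega
        subst hf1
        have : g * (2 * u * 1 + 1) ≤ 2 * (2 * u * 1 + 1) := Nat.mul_le_mul_right _ hd1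
        omega
      · have := ev4 h
        have hd1 : g ≤ 3 := hdq
        have : g * (2 * u * f + 1) ≤ 3 * (4 * u + 1) := Nat.mul_le_mul hd1 (by nlinarith only [hf4])
        omega
    · have := ev5 h9 h
      have h7 : g * (2 * u * f + 1) ≤ 2 * u * (u * q + 1) := Nat.mul_le_mul hdn (by nlinarith only [h6])
      omega

theorem num_odd {p f q u g : ℕ} (hp : p.Prime) (hf : 1 ≤ f) (hq : q = p ^ f) (hu : 3 ≤ u)
    (hex : ¬ (u = 3 ∧ q = 2)) (hg : g ∣ Nat.gcd (2 * u - 1) (q - 1)) :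
    g * (2 * ((2 * u - 1) * f) + 1) ≤ q ^ u := by
  obtain ⟨h5, h6⟩ := two_f hp hf hq
  have hp2 := hp.two_le
  have hq2 : 2 ≤ q := by omega
  have hdn : g ≤ 2 * u - 1 := Nat.le_of_dvd (by omega) (hg.trans (Nat.gcd_dvd_left _ _))
  have hdq : g ≤ q - 1 := Nat.le_of_dvd (by omega) (hg.trans (Nat.gcd_dvd_right _ _))
  have hg0 : 0 < g := Nat.pos_of_dvd_of_pos hg (Nat.gcd_pos_of_pos_left _ (by omega))
  rcases Nat.lt_or_ge u 4 with h | h
  · obtain rfl : u = 3 := by omega
    rcases Nat.lt_or_ge q 18 with h18 | h18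
    · have hf18 : f < 5 := by
        by_contra hc
        have : 2 ^ 5 ≤ 2 ^ f := Nat.pow_le_pow_right (by norm_num) (by omega)
        omega
      have := tabO q (Finset.mem_Ico.2 ⟨by omega, h18⟩) f (Finset.mem_Ico.2 ⟨hf, hf18⟩) p
        (Finset.mem_Ico.2 ⟨hp2, f_small hp hf hq h18⟩) hq g (Finset.mem_Ico.2 ⟨hg0, by omega⟩) hg
      norm_num
      rwa [show 2 * (5 * f) + 1 = 10 * f + 1 by ring]
    · have h7 : g * (2 * ((2 * 3 - 1) * f) + 1) ≤ 5 * (5 * q + 1) := Nat.mul_le_mul (by omega) (by omega)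
      have h1 : 18 * q ≤ q ^ 2 := by nlinarith only [h18]
      have h2 : q ^ 3 = q ^ 2 * q := by ring
      nlinarith only [h18, h7, h1]
  · rcases Nat.lt_or_ge q 5 with h9 | h9
    · have hf4 : f < 3 := by
        by_contra hc
        have : 2 ^ 3 ≤ 2 ^ f := Nat.pow_le_pow_right (by norm_num) (by omega)
        omega
      interval_cases q
      · have := od2 h
        have hd1 : g ≤ 1 := hdq
        have hf1 : f = 1 := by interval_cases f <;> omega
        subst hf1
        have : g * (2 * ((2 * u - 1) * 1) + 1) ≤ 1 * (2 * ((2 * u - 1) * 1) + 1) := Nat.mul_le_mul_right _ hd1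
        omega
      · have := od3 (u := u) (by omega)
        have hd1 : g ≤ 2 := hdq
        have hf1 : f = 1 := by interval_cases f <;> omega
        subst hf1
        have : g * (2 * ((2 * u - 1) * 1) + 1) ≤ 2 * (2 * ((2 * u - 1) * 1) + 1) := Nat.mul_le_mul_right _ hd1
        omega
      · have := od4 (u := u) (by omega)
        have hd1 : g ≤ 3 := hdq
        have h8 : 2 * ((2 * u - 1) * f) + 1 ≤ 8 * u - 3 := by
          have : (2 * u - 1) * f ≤ (2 * u - 1) * 2 := Nat.mul_le_mul_left _ (by omega)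
          omega
        have : g * (2 * ((2 * u - 1) * f) + 1) ≤ 3 * (8 * u - 3) := Nat.mul_le_mul hd1 h8
        omega
    · have := od5 h9 h
      have h8 : 2 * ((2 * u - 1) * f) + 1 ≤ (2 * u - 1) * q + 1 := by
        have : (2 * u - 1) * (2 * f) ≤ (2 * u - 1) * q := Nat.mul_le_mul_left _ h6
        linarith only [this]
      have h7 : g * (2 * ((2 * u - 1) * f) + 1) ≤ (2 * u - 1) * ((2 * u - 1) * q + 1) := Nat.mul_le_mul hdn h8
      omega

/-- the bound for the classes -/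
def cc (e f : ℕ) : ℕ := if Even e then e * f else 2 * (e * f)

theorem num_L {p f q e g : ℕ} (hp : p.Prime) (hf : 1 ≤ f) (hq : q = p ^ f) (he : 4 ≤ e)
    (hex : (e, q) ∉ ({(4, 2), (4, 3), (5, 2)} : Finset (ℕ × ℕ))) (hg : g ∣ Nat.gcd e (q - 1)) :
    g * (cc e f + 1) ≤ q ^ ((e + 1) / 2) := by
  obtain ⟨h5, h6⟩ := two_f hp hf hq
  simp only [Finset.mem_insert, Finset.mem_singleton, Prod.mk.injEq, not_or] at hex
  rcases Nat.even_or_odd e with h | h
  · rw [cc, if_pos h]
    obtain ⟨u, hu⟩ := h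
    obtain rfl : e = 2 * u := by omega
    rw [show (2 * u + 1) / 2 = u by omega]
    exact num_even hp hf hq (by omega) (by omega) hg
  · rw [cc, if_neg (Nat.not_even_iff_odd.2 h)]
    obtain ⟨u, hu⟩ := h
    obtain ⟨w, rfl⟩ : ∃ w, e = 2 * w - 1 := ⟨u + 1, by omega⟩
    rw [show (2 * w - 1 + 1) / 2 = w by (clear * -; omega)]
    exact num_odd hp hf hq (by (clear * - he; omega)) (by (clear * - hex; omega)) hg

/-! ### repunits -/

theorem gs_add (q a b : ℕ) : gs q (a + b) = gs q a + q ^ a * gs q b := by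
  unfold gs
  rw [Finset.sum_range_add, Finset.mul_sum]
  simp [pow_add]

theorem gs_pos (q : ℕ) {n : ℕ} (hn : 1 ≤ n) : 1 ≤ gs q n := by
  obtain ⟨m, rfl⟩ : ∃ m, n = m + 1 := ⟨n - 1, by omega⟩
  rw [gs_succ]
  omega

/-- `q ^ (e - j) gs q j < gs q e` for `j < e` -/
theorem gs_gt {q j e : ℕ} (h : j < e) : q ^ (e - j) * gs q j < gs q e := by
  have h1 : e = (e - j) + j := by omega
  conv_rhs => rw [h1, gs_add]
  have := gs_pos q (n := e - j) (by omega)
  omega

end Cfsg.Agent.H205.DerPsl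
end

-- part: H205/Der/PslD
section
/-!
# `PSL_3(q)`: three classes of elements of order divisible by `v`, `v ∣ q ^ 2 - 1` (helper205, S3502)
-/

set_option autoImplicit false

namespace Cfsg.Agent.H205.DerPsl

open Matrix Cfsg.Agent.H72 Cfsg.Agent.H72.AdjPSL Cfsg.Agent.H72.AdjOrth Cfsg.Agent.H39.DerPsl Cfsg.Agent.H439.Der
  Cfsg.Agent.ClassicalGeometry.AutPSL.Root Cfsg.Agent.ClassicalGeometry.AutPSL.Auto Cfsg.Agent.H199.PslAut

variable {F : Type*} [Field F] [Fintype F]

/-- diagonal elements of `SL_3` -/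
def dg (a b c : F) (h : a * b * c = 1) : Matrix.SpecialLinearGroup (Fin 3) F :=
  ⟨Matrix.diagonal ![a, b, c], by rw [Matrix.det_diagonal, Fin.prod_univ_three]; exact h⟩

omit [Fintype F] in
theorem coe_dg (a b c : F) (h : a * b * c = 1) : (dg a b c h : Matrix (Fin 3) (Fin 3) F) = Matrix.diagonal ![a, b, c] := rfl

omit [Fintype F] in
theorem dg_pow (a b c : F) (h : a * b * c = 1) (k : ℕ) :
    dg a b c h ^ k = dg (a ^ k) (b ^ k) (c ^ k) (by rw [← mul_pow, ← mul_pow, h, one_pow]) := by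
  apply Subtype.ext
  rw [Matrix.SpecialLinearGroup.coe_pow, coe_dg, coe_dg, Matrix.diagonal_pow]
  congr 1
  ext i
  fin_cases i <;> rfl

omit [Fintype F] in
theorem dg_center {a b c : F} {h : a * b * c = 1} (hc : pr (dg a b c h) = 1) : a = b ∧ a = c := by
  rw [pr_eq_one_iff] at hc
  obtain ⟨r, -, hr⟩ := Matrix.SpecialLinearGroup.mem_center_iff.1 hc
  rw [coe_dg] at hr
  have h0 := congrFun (congrFun hr 0) 0
  have h1 := congrFun (congrFun hr 1) 1
  have h2 := congrFun (congrFun hr 2) 2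
  simp at h0 h1 h2
  exact ⟨by rw [← h0, ← h1], by rw [← h0, ← h2]⟩

omit [Fintype F] in
theorem one_mem_ev_dg {a b c : F} {h : a * b * c = 1} :
    (1 : F) ∈ Ev F ((dg a b c h : Matrix.SpecialLinearGroup (Fin 3) F) : Matrix (Fin 3) (Fin 3) F) ↔
      a = 1 ∨ b = 1 ∨ c = 1 := by
  rw [mem_ev, coe_dg, Matrix.charpoly_diagonal, Fin.prod_univ_three]
  simp only [map_mul, map_sub, Polynomial.aeval_X, Polynomial.aeval_C, Algebra.algebraMap_self, RingHom.id_apply, mul_eq_zero,
    sub_eq_zero, or_assoc]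
  simp [eq_comm]

/-- **`L3(16)`, `v = 3`** -/
theorem three_sixteen (hF : Fintype.card F = 16) : ¬ SCC (Matrix.ProjectiveSpecialLinearGroup (Fin 3) F) 3 := by
  obtain ⟨a, ha, hak⟩ := exists_gen (F := F)
  rw [hF] at hak
  norm_num only [] at hak
  have h15 : a ^ 15 = 1 := (hak 15).2 dvd_rfl
  have hne : ∀ k : ℕ, ¬ 15 ∣ k → a ^ k ≠ 1 := fun k hk h => hk ((hak k).1 h)
  have hinj : ∀ i j : ℕ, a ^ i = a ^ j → i < 15 → j < 15 → i = j := by
    intro i j hij hi hj
    wlog h : i ≤ j generalizing i j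
    · exact (this j i hij.symm hj hi (by omega)).symm
    have h1 : a ^ (j - i) = 1 := by
      have h2 : a ^ i * a ^ (j - i) = a ^ i * 1 := by rw [← pow_add, mul_one, hij]; congr 1; omega
      exact mul_left_cancel₀ (pow_ne_zero _ ha) h2
    have h3 := (hak _).1 h1
    omega
  -- `x₁ = diag (ζ, ω ζ, ω² ζ³)`, `x₂ = diag (1, ω ζ, ω² ζ⁴)`; `ω = a⁵`, `ζ = a³`
  let x₁ : Matrix.SpecialLinearGroup (Fin 3) F := dg (a ^ 3) (a ^ 8) (a ^ 19) (by
    rw [← pow_add, ← pow_add, show 3 + 8 + 19 = 15 * 2 by norm_num, pow_mul, h15, one_pow])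
  let x₂ : Matrix.SpecialLinearGroup (Fin 3) F := dg (a ^ 0) (a ^ 8) (a ^ 22) (by
    rw [← pow_add, ← pow_add, show 0 + 8 + 22 = 15 * 2 by norm_num, pow_mul, h15, one_pow])
  let x₃ : Matrix.SpecialLinearGroup (Fin 3) F := dg (a ^ 0) (a ^ 5) (a ^ 10) (by
    rw [← pow_add, ← pow_add, show 0 + 5 + 10 = 15 * 1 by norm_num, pow_mul, h15, one_pow])
  have hco : Nat.Coprime 5 (Nat.gcd 3 (Fintype.card F - 1)) := by rw [hF]; decide
  have hord : ∀ (i j k : ℕ) (h : a ^ i * a ^ j * a ^ k = 1) (m : ℕ), a ^ (i * m) ≠ a ^ (j * m) →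
      pr (dg (a ^ i) (a ^ j) (a ^ k) h) ^ m ≠ 1 := by
    intro i j k h m hm hc
    rw [← map_pow, dg_pow] at hc
    have h1 := (dg_center hc).1
    rw [← pow_mul, ← pow_mul] at h1
    exact hm h1
  have hd : ∀ (x : Matrix.ProjectiveSpecialLinearGroup (Fin 3) F), x ^ 15 = 1 → x ^ 5 ≠ 1 → 3 ∣ orderOf x := by
    intro x hx hx5
    have h1 := orderOf_dvd_of_pow_eq_one hx
    by_contra h3
    apply hx5
    apply orderOf_dvd_iff_pow_eq_one.1
    have h2 : Nat.Coprime (orderOf x) 3 := ((Nat.Prime.coprime_iff_not_dvd Nat.prime_three).2 h3).symm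
    exact h2.dvd_of_dvd_mul_left (show orderOf x ∣ 3 * 5 from h1)
  have h115 : pr x₁ ^ 15 = 1 := by
    rw [← map_pow, show x₁ ^ 15 = 1 from ?_, map_one]
    apply Subtype.ext
    rw [dg_pow, coe_dg, ← pow_mul, ← pow_mul, ← pow_mul, mul_comm 3, mul_comm 8, mul_comm 19, pow_mul, pow_mul, pow_mul,
      h15, one_pow, one_pow, one_pow]
    ext i j
    (revert i j; simp only [_root_.Fin.forall_fin_succ, _root_.Nat.succ_eq_add_one, Nat.reduceAdd, _root_.Matrix.SpecialLinearGroup.coe_one, Fin.isValue, _root_.Fin.succ_zero_eq_one, _root_.Fin.succ_one_eq_two, _root_.IsEmpty.forall_iff, _root_.and_true, _root_.Matrix.diagonal_apply_eq, _root_.Matrix.cons_val_zero, _root_.Matrix.one_apply_eq, _root_.ne_eq, _root_.zero_ne_one, _root_.not_false_eq_true, _root_.Matrix.diagonal_apply_ne, _root_.Matrix.one_apply_ne, Fin.reduceEq, _root_.and_self, _root_.Fin.succ_ne_zero, _root_.true_and, _root_.Matrix.cons_val_one, _root_.Matrix.cons_val])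
  have h215 : pr x₂ ^ 15 = 1 := by
    rw [← map_pow, show x₂ ^ 15 = 1 from ?_, map_one]
    apply Subtype.ext
    rw [dg_pow, coe_dg, ← pow_mul, ← pow_mul, ← pow_mul, mul_comm 0, mul_comm 8, mul_comm 22, pow_mul, pow_mul, pow_mul,
      h15, one_pow, one_pow, one_pow]
    ext i j
    (revert i j; simp only [_root_.Fin.forall_fin_succ, _root_.Nat.succ_eq_add_one, Nat.reduceAdd, _root_.Matrix.SpecialLinearGroup.coe_one, Fin.isValue, _root_.Fin.succ_zero_eq_one, _root_.Fin.succ_one_eq_two, _root_.IsEmpty.forall_iff, _root_.and_true, _root_.Matrix.diagonal_apply_eq, _root_.Matrix.cons_val_zero, _root_.Matrix.one_apply_eq, _root_.ne_eq, _root_.zero_ne_one, _root_.not_false_eq_true, _root_.Matrix.diagonal_apply_ne, _root_.Matrix.one_apply_ne, Fin.reduceEq, _root_.and_self, _root_.Fin.succ_ne_zero, _root_.true_and, _root_.Matrix.cons_val_one, _root_.Matrix.cons_val])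
  have h33 : pr x₃ ^ 3 = 1 := by
    rw [← map_pow, show x₃ ^ 3 = 1 from ?_, map_one]
    apply Subtype.ext
    rw [dg_pow, coe_dg, ← pow_mul, ← pow_mul, ← pow_mul, show 0 * 3 = 15 * 0 by norm_num,
      show 5 * 3 = 15 * 1 by norm_num, show 10 * 3 = 15 * 2 by norm_num, pow_mul, pow_mul, pow_mul,
      h15, one_pow, one_pow, one_pow]
    ext i j
    (revert i j; simp only [_root_.Fin.forall_fin_succ, _root_.Nat.succ_eq_add_one, Nat.reduceAdd, _root_.Matrix.SpecialLinearGroup.coe_one, Fin.isValue, _root_.Fin.succ_zero_eq_one, _root_.Fin.succ_one_eq_two, _root_.IsEmpty.forall_iff, _root_.and_true, _root_.Matrix.diagonal_apply_eq, _root_.Matrix.cons_val_zero, _root_.Matrix.one_apply_eq, _root_.ne_eq, _root_.zero_ne_one, _root_.not_false_eq_true, _root_.Matrix.diagonal_apply_ne, _root_.Matrix.one_apply_ne, Fin.reduceEq, _root_.and_self, _root_.Fin.succ_ne_zero, _root_.true_and, _root_.Matrix.cons_val_one, _root_.Matrix.cons_val])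
  have h15a : pr x₁ ^ 5 ≠ 1 := hord 3 8 19 _ 5 (by
    rw [show a ^ (3 * 5) = 1 by rw [show 3 * 5 = 15 by norm_num, h15]]
    exact (hne 40 (by norm_num)).symm)
  have h25a : pr x₂ ^ 5 ≠ 1 := hord 0 8 22 _ 5 (by
    rw [show a ^ (0 * 5) = 1 by rw [show 0 * 5 = 0 by norm_num, pow_zero]]
    exact (hne 40 (by norm_num)).symm)
  have h13a : pr x₁ ^ 3 ≠ 1 := by
    intro hc
    rw [← map_pow, dg_pow] at hc
    have h1 := (dg_center hc).2
    rw [← pow_mul, ← pow_mul, show 19 * 3 = 15 * 3 + 12 by norm_num, pow_add, pow_mul a 15 3, h15, one_pow, one_mul] at h1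
    have h2 := hinj _ _ h1 (by norm_num) (by norm_num)
    omega
  have h23a : pr x₂ ^ 3 ≠ 1 := hord 0 8 22 _ 3 (by
    rw [show a ^ (0 * 3) = 1 by rw [show 0 * 3 = 0 by norm_num, pow_zero]]
    exact (hne 24 (by norm_num)).symm)
  have h31a : pr x₃ ≠ 1 := by
    intro hc
    have h1 := (dg_center hc).1
    rw [pow_zero] at h1
    exact hne 5 (by norm_num) h1.symm
  have h3o : orderOf (pr x₃) = 3 := orderOf_eq_prime h33 h31a
  have hpow6 : ∀ (i j k : ℕ) (h : a ^ i * a ^ j * a ^ k = 1), 15 ∣ 30 * i → (dg (a ^ i) (a ^ j) (a ^ k) h ^ 6) ^ 5 = 1 := by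
    intro i j k h _
    apply Subtype.ext
    rw [← pow_mul, dg_pow, coe_dg, ← pow_mul, ← pow_mul, ← pow_mul, show i * (6 * 5) = 15 * (2 * i) by ring,
      show j * (6 * 5) = 15 * (2 * j) by ring, show k * (6 * 5) = 15 * (2 * k) by ring, pow_mul, pow_mul a 15, pow_mul a 15,
      h15, one_pow, one_pow, one_pow]
    ext i j
    (revert i j; simp only [_root_.Fin.forall_fin_succ, _root_.Nat.succ_eq_add_one, Nat.reduceAdd, _root_.Matrix.SpecialLinearGroup.coe_one, Fin.isValue, _root_.Fin.succ_zero_eq_one, _root_.Fin.succ_one_eq_two, _root_.IsEmpty.forall_iff, _root_.and_true, _root_.Matrix.diagonal_apply_eq, _root_.Matrix.cons_val_zero, _root_.Matrix.one_apply_eq, _root_.ne_eq, _root_.zero_ne_one, _root_.not_false_eq_true, _root_.Matrix.diagonal_apply_ne, _root_.Matrix.one_apply_ne, Fin.reduceEq, _root_.and_self, _root_.Fin.succ_ne_zero, _root_.true_and, _root_.Matrix.cons_val_one, _root_.Matrix.cons_val])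
  refine not_SCC_of_three (x := pr x₁) (y := pr x₂) (z := pr x₃) (hd _ h115 h15a) (hd _ h215 h25a) (by rw [h3o]) ?_ ?_ ?_
  · intro φ hφ
    have h1 : φ (pr (x₁ ^ 6)) = pr (x₂ ^ 6) := by rw [map_pow, map_pow, map_pow, hφ]
    have h2 := ev_one_of_aut (by norm_num) hco (hpow6 3 8 19 _ (by norm_num)) (hpow6 0 8 22 _ (by norm_num)) φ h1 (by
      rw [dg_pow, one_mem_ev_dg]
      left
      rw [← pow_mul, zero_mul, pow_zero])
    rw [dg_pow, one_mem_ev_dg, ← pow_mul, ← pow_mul, ← pow_mul, hak, hak, hak] at h2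
    omega
  · intro φ hφ
    apply h13a
    apply φ.injective
    rw [map_pow, hφ, map_one, h33]
  · intro φ hφ
    apply h23a
    apply φ.injective
    rw [map_pow, hφ, map_one, h33]

/-- **`v ∣ q - 1`** -/
theorem three_q1 {v : ℕ} (hv : v.Prime) (h4 : Fintype.card F ≠ 4)
    (h7 : ¬ (Fintype.card F = 7 ∧ v = 3)) (hvq : v ∣ Fintype.card F - 1) :
    ¬ SCC (Matrix.ProjectiveSpecialLinearGroup (Fin 3) F) v := by
  obtain ⟨p, hpc⟩ := CharP.exists F
  have hp : Fact p.Prime := ⟨CharP.char_is_prime F p⟩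
  have hq1 : 1 < Fintype.card F := Fintype.one_lt_card
  by_cases hv2 : v ∣ (Fintype.card F - 1) / Nat.gcd 3 (Fintype.card F - 1)
  · exact three_s hv hv2
  have hv3 : v ∣ Nat.gcd 3 (Fintype.card F - 1) := by
    have h1 := Nat.div_mul_cancel (Nat.gcd_dvd_right 3 (Fintype.card F - 1))
    rw [← h1] at hvq
    exact (hv.dvd_mul.1 hvq).resolve_left hv2
  have hv3' : v = 3 := (Nat.prime_dvd_prime_iff_eq hv Nat.prime_three).1 (hv3.trans (Nat.gcd_dvd_left _ _))
  subst hv3'
  have hg : Nat.gcd 3 (Fintype.card F - 1) = 3 := Nat.gcd_eq_left hvq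
  rw [hg] at hv2
  obtain ⟨k, hk⟩ := hvq
  rw [hk, Nat.mul_div_cancel_left k (by norm_num)] at hv2
  have hz := exists_three_tor hk ((Nat.Prime.coprime_iff_not_dvd Nat.prime_three).2 hv2)
  by_cases hkp : k.Prime
  · obtain ⟨f, -, hqf⟩ := FiniteField.card F p
    by_cases hp2 : p = 2
    · subst hp2
      have h16 : (f : ℕ) = 4 := sixteen (m := k) (by rw [← hqf]; exact hk) hkp
      exact three_sixteen (by rw [hqf, h16]; norm_num)
    · exfalso
      apply h7
      refine ⟨?_, rfl⟩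
      have hodd : Odd (Fintype.card F) := by
        rw [hqf]
        exact (hp.out.odd_of_ne_two hp2).pow
      obtain ⟨a, ha⟩ := hodd
      have h2k : 2 ∣ k := by (clear * - hk ha; omega)
      have := (Nat.prime_dvd_prime_iff_eq Nat.prime_two hkp).1 h2k
      (clear * - hk this; omega)
  · exact not_SCC_of_not_prime (by norm_num) hz (by omega) (by omega) hkp

/-- `|PM|` for a prime modulus -/
theorem card_pm_even {p f v g : ℕ} (hv : v.Prime) (hg : 0 < g) (hf : 0 < f)
    (he : orderOf ((p ^ f : ℕ) : ZMod v) = 2 * g) : (PM p v).ncard ≤ 2 * g * f := by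
  have : NeZero v := ⟨hv.ne_zero⟩
  have := Fact.mk hv
  have h1 : ((p : ZMod v) ^ (f * g)) ^ 2 = 1 := by
    have := pow_orderOf_eq_one ((p ^ f : ℕ) : ZMod v)
    rw [he] at this
    push_cast at this
    rw [← pow_mul, ← this, ← pow_mul]
    congr 1
    ring
  have h2 : (p : ZMod v) ^ (f * g) ≠ 1 := by
    intro h
    have h3 : ((p ^ f : ℕ) : ZMod v) ^ g = 1 := by
      push_cast
      rw [← pow_mul, h]
    have h4 := orderOf_dvd_of_pow_eq_one h3
    rw [he] at h4
    have := Nat.le_of_dvd hg h4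
    omega
  have h3 : (p : ZMod v) ^ (f * g) = -1 := (mul_self_eq_one_iff.1 (by rw [← pow_two]; exact h1)).resolve_left h2
  refine card_pm_le' (T := 2 * g * f) (s := f * g) (by positivity) ?_ h3
  rw [show 2 * g * f = f * g * 2 by ring, pow_mul, h1]

theorem card_pm_all {p f N e : ℕ} (hN : 0 < N) (he0 : 0 < e) (hf : 0 < f)
    (he : N ∣ (p ^ f) ^ e - 1) (hp : 0 < p) : (PM p N).ncard ≤ 2 * (e * f) := by
  have : NeZero N := ⟨hN.ne'⟩
  refine card_pm_le (by positivity) ?_
  have h1 : 1 ≤ (p ^ f) ^ e := Nat.one_le_pow _ _ (by positivity)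
  rw [← ZMod.natCast_eq_zero_iff, Nat.cast_sub h1, sub_eq_zero] at he
  push_cast at he
  rw [← he, ← pow_mul, mul_comm e f]

/-- **`v ∣ q + 1`** -/
theorem three_e2 {v : ℕ} (hv : v.Prime) (h2 : Fintype.card F ≠ 2) (h4 : Fintype.card F ≠ 4)
    (hvq : ¬ v ∣ Fintype.card F - 1) (he : orderOf ((Fintype.card F : ℕ) : ZMod v) = 2) :
    ¬ SCC (Matrix.ProjectiveSpecialLinearGroup (Fin 3) F) v := by
  obtain ⟨p, hpc⟩ := CharP.exists F
  have hp : Fact p.Prime := ⟨CharP.char_is_prime F p⟩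
  have hq1 : 1 < Fintype.card F := Fintype.one_lt_card
  have hpq := p_dvd (F := F) p
  obtain ⟨f, -, hqf⟩ := FiniteField.card F p
  have hpd1 := not_dvd_of_dvd_add hp.out hpq
  have hvd : v ∣ Fintype.card F + 1 := by
    have h1 := dvd_pow_ee (q := Fintype.card F) (r := v) Fintype.card_pos
    rw [ee, he] at h1
    have h3 : Fintype.card F ^ 2 - 1 = (Fintype.card F + 1) * (Fintype.card F - 1) := by
      have := Nat.sq_sub_sq (Fintype.card F) 1
      simpa only [_root_.one_pow] using this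
    rw [h3] at h1
    exact (hv.dvd_mul.1 h1).resolve_right hvq
  have hs := s_ne_one h2 h4 hq1
  have hs0 : (Fintype.card F - 1) / Nat.gcd 3 (Fintype.card F - 1) ≠ 0 := by
    intro h
    have h1 := Nat.div_mul_cancel (Nat.gcd_dvd_right 3 (Fintype.card F - 1))
    rw [h, zero_mul] at h1
    omega
  have hz := hasOrd_tor3 (F := F)
  obtain ⟨k, hk⟩ := hvd
  set s := (Fintype.card F - 1) / Nat.gcd 3 (Fintype.card F - 1) with hsdef
  have hk0 : k ≠ 0 := by
    rintro rfl
    omega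
  have hz' : HasOrd (Matrix.ProjectiveSpecialLinearGroup (Fin 3) F) (v * (s * k)) := by
    rw [show v * (s * k) = s * (v * k) by ring, ← hk]
    exact hz
  have hsk : s * k ≠ 1 := by
    intro h
    exact hs (Nat.eq_one_of_mul_eq_one_right h)
  by_cases hm : (s * k).Prime
  · have hk1 : k = 1 := by
      by_contra h
      exact Nat.not_prime_mul hs h hm
    rw [hk1, mul_one] at hk
    have hvp : v ≠ p := by
      rintro rfl
      exact hpd1 (by rw [hk])
    have hElt : Elt F 3 p v 2 := by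
      refine ⟨by norm_num, hv.one_lt, (Nat.coprime_primes hv hp.out).2 hvp, (Nat.Prime.coprime_iff_not_dvd hv).2 hvq,
        ?_, ?_, by norm_num, by norm_num⟩
      · have h1 := dvd_pow_ee (q := Fintype.card F) (r := v) Fintype.card_pos
        rwa [ee, he] at h1
      · intro r hr hrv
        rw [(Nat.prime_dvd_prime_iff_eq hr hv).1 hrv]
        exact he
    have h2f : 2 * (f : ℕ) < Fintype.card F := by
      obtain ⟨h5, h6⟩ := two_f hp.out f.pos hqf
      rcases Nat.lt_or_ge (f : ℕ) 3 with h7 | h7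
      · have : (f : ℕ) = 1 ∨ (f : ℕ) = 2 := by have := f.pos; omega
        (clear * - h2 h4 h6 this; omega)
      · have h8 : ∀ g : ℕ, 3 ≤ g → 2 * g < 2 ^ g := by
          intro g hg
          induction g, hg using Nat.le_induction with
          | base => norm_num
          | succ n hn ih => rw [pow_succ]; omega
        have := h8 f h7
        omega
    have hpm := card_pm_even (p := p) (f := f) (v := v) (g := 1) hv one_pos f.pos (by rw [← hqf, he])
    obtain ⟨w, hw⟩ := hz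
    refine hElt.not_SCC_of_lt dvd_rfl ?_ (w := w) (by rw [hw, hk]; exact dvd_mul_left _ _) ?_
    · rw [Nat.totient_prime hv]
      omega
    · rw [hw, hk]
      intro h
      exact hs (Nat.eq_of_mul_eq_mul_right hv.pos (by rw [h, one_mul]))
  · exact not_SCC_of_not_prime hv.pos hz' (Nat.mul_ne_zero hs0 hk0) hsk hm

end Cfsg.Agent.H205.DerPsl
end

-- part: H205/Der/PslE
section
/-!
# The large primes of `PSL_n(q)`: three classes of elements of order divisible by `v` (helper205, S3502)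
-/

set_option autoImplicit false

namespace Cfsg.Agent.H205.DerPsl

open Matrix Cfsg.Agent.H72 Cfsg.Agent.H72.AdjPSL Cfsg.Agent.H72.AdjOrth Cfsg.Agent.H39.DerPsl Cfsg.Agent.H439.Der
  Cfsg.Agent.ClassicalGeometry.AutPSL.Root Cfsg.Agent.ClassicalGeometry.AutPSL.Auto Cfsg.Agent.H199.PslAut

theorem card_pm_cc {p f v e : ℕ} (hp : 0 < p) (hv : v.Prime) (he0 : 0 < e) (hf : 0 < f)
    (he : orderOf ((p ^ f : ℕ) : ZMod v) = e) : (PM p v).ncard ≤ cc e f := by
  rw [cc]
  split_ifs with h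
  · obtain ⟨g, hg⟩ := h
    have h1 := card_pm_even (p := p) (f := f) (v := v) (g := g) hv (by omega) hf (by rw [he]; omega)
    rw [show e = 2 * g by omega]
    exact h1
  · refine card_pm_all hv.pos he0 hf ?_ hp
    have h1 := dvd_pow_ee (q := p ^ f) (r := v) (Nat.one_le_pow _ _ hp)
    rwa [ee, he] at h1

theorem cc_le (e f : ℕ) : cc e f ≤ 2 * (e * f) := by
  rw [cc]
  split_ifs <;> omega

theorem num_core {p f q e g v m j : ℕ} (hp : p.Prime) (hf : 1 ≤ f) (hq : q = p ^ f) (he : 4 ≤ e)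
    (hex : (e, q) ∉ ({(4, 2), (4, 3), (5, 2)} : Finset (ℕ × ℕ))) (hg : g ∣ Nat.gcd e (q - 1))
    (hm : gs q e ≤ v * m * g) (hj : (j = 1 ∧ m ≤ q - 1) ∨ (2 ≤ j ∧ 2 * j ≤ e ∧ m ≤ gs q j)) : cc e f + 1 < v := by
  have hL := num_L hp hf hq he hex hg
  obtain ⟨h5, h6⟩ := two_f hp hf hq
  have hq2 : 2 ≤ q := by omega
  have hg0 : 0 < g := Nat.pos_of_dvd_of_pos hg (Nat.gcd_pos_of_pos_left _ (by omega))
  have key : q ^ ((e + 1) / 2) < v * g := by
    rcases hj with ⟨rfl, hmj⟩ | ⟨hj2, hje, hmj⟩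
    · have h1 : gs q 1 = 1 := by simp [gs]
      have h2 := gs_gt (q := q) (j := 1) (e := e) (by omega)
      rw [h1, mul_one] at h2
      have h3 : q ^ (e - 1) = q ^ (e - 2) * q := by rw [← pow_succ]; congr 1; omega
      have h4 : q ^ (e - 2) * (q - 1) ≤ q ^ (e - 2) * q := Nat.mul_le_mul_left _ (by omega)
      have h7 : v * m * g ≤ v * g * (q - 1) := by
        calc v * m * g = v * g * m := by ring
          _ ≤ _ := Nat.mul_le_mul_left _ hmj
      have h8 : q ^ (e - 2) * (q - 1) < v * g * (q - 1) := by omega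
      have h9 := Nat.lt_of_mul_lt_mul_right h8
      exact lt_of_le_of_lt (Nat.pow_le_pow_right (by omega) (by omega)) h9
    · have h2 := gs_gt (q := q) (j := j) (e := e) (by omega)
      have h7 : v * m * g ≤ v * g * gs q j := by
        calc v * m * g = v * g * m := by ring
          _ ≤ _ := Nat.mul_le_mul_left _ hmj
      have h8 : q ^ (e - j) * gs q j < v * g * gs q j := by omega
      have h9 := Nat.lt_of_mul_lt_mul_right h8
      exact lt_of_le_of_lt (Nat.pow_le_pow_right (by omega) (by omega)) h9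
  have h1 : (cc e f + 1) * g < v * g := by
    rw [mul_comm (cc e f + 1)]
    omega
  exact Nat.lt_of_mul_lt_mul_right h1

variable {F : Type*} [Field F] [Fintype F] {n : ℕ}

theorem Elt.of_prime {p v e : ℕ} [hp : Fact p.Prime] [CharP F p] (hn2 : 2 ≤ n) (hv : v.Prime) (hvp : v ≠ p)
    (hvq : ¬ v ∣ Fintype.card F - 1) (he : orderOf ((Fintype.card F : ℕ) : ZMod v) = e) (hdeg : n < 2 * e)
    (hen : e ≤ n) : Elt F n p v e := by
  refine ⟨hn2, hv.one_lt, (Nat.coprime_primes hv hp.out).2 hvp, (Nat.Prime.coprime_iff_not_dvd hv).2 hvq,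
        ?_, ?_, hdeg, hen⟩
  · have h1 := dvd_pow_ee (q := Fintype.card F) (r := v) Fintype.card_pos
    rwa [ee, he] at h1
  · intro r hr hrv
    rw [(Nat.prime_dvd_prime_iff_eq hr hv).1 hrv]
    exact he

theorem le_of_order {q v e : ℕ} (hv : v.Prime) (he0 : 0 < e) (he : orderOf ((q : ℕ) : ZMod v) = e) : e + 1 ≤ v := by
  have := Fact.mk hv
  have h0 : ((q : ℕ) : ZMod v) ≠ 0 := by
    intro h
    rw [h, orderOf_eq_zero_iff.2] at he
    · omega
    · intro h1
      obtain ⟨k, hk, h2⟩ := isOfFinOrder_iff_pow_eq_one.1 h1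
      rw [zero_pow (by omega)] at h2
      exact zero_ne_one h2
  have h1 := ZMod.orderOf_dvd_card_sub_one h0
  rw [he] at h1
  have := Nat.le_of_dvd (by have := hv.two_le; omega) h1
  have := hv.pos
  omega

/-- the totient of a product of two primes -/
theorem totient_mul_ge {v m : ℕ} (hv : v.Prime) (hm : m.Prime) (h4 : 4 ≤ v) (h4' : 4 ≤ m) :
    v * m ≤ 2 * Nat.totient (v * m) := by
  by_cases h : v = m
  · subst h
    rw [← pow_two, Nat.totient_prime_pow hv (by norm_num), pow_two]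
    norm_num only [_root_.pow_one]
    obtain ⟨a, rfl⟩ : ∃ a, v = a + 1 := ⟨v - 1, by omega⟩
    rw [Nat.add_sub_cancel]
    nlinarith
  · rw [Nat.totient_mul ((Nat.coprime_primes hv hm).2 h), Nat.totient_prime hv, Nat.totient_prime hm]
    obtain ⟨a, rfl⟩ : ∃ a, v = a + 1 := ⟨v - 1, by omega⟩
    obtain ⟨b, rfl⟩ : ∃ b, m = b + 1 := ⟨m - 1, by omega⟩
    rw [Nat.add_sub_cancel, Nat.add_sub_cancel]
    nlinarith

/-- **The common part.** -/
theorem three_core {p f v m e : ℕ} [hp : Fact p.Prime] [CharP F p] (hn2 : 2 ≤ n) (hqf : Fintype.card F = p ^ f)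
    (hf : 0 < f) (hv : v.Prime) (hvp : v ≠ p) (hvq : ¬ v ∣ Fintype.card F - 1)
    (he : orderOf ((Fintype.card F : ℕ) : ZMod v) = e) (hdeg : n < 2 * e) (hen : e ≤ n) (he3 : 3 ≤ e)
    (hz : HasOrd (Matrix.ProjectiveSpecialLinearGroup (Fin n) F) (v * m)) (hm0 : m ≠ 0)
    (hmd : v * m ∣ Fintype.card F ^ e - 1)
    (h1 : m = 1 → 4 * (e * f) + 1 < v)
    (h2 : m.Prime → ¬ m ∣ Fintype.card F - 1 → 4 * (e * f) + 1 < v * m)
    (h3 : m.Prime → orderOf ((Fintype.card F : ℕ) : ZMod m) ≠ e → cc e f + 1 < v) :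
    ¬ SCC (Matrix.ProjectiveSpecialLinearGroup (Fin n) F) v := by
  have hEv := Elt.of_prime (F := F) (p := p) hn2 hv hvp hvq he hdeg hen
  have hq1 : 1 < Fintype.card F := Fintype.one_lt_card
  have hpq := p_dvd (F := F) p
  by_cases hm1 : m = 1
  · have h4 := h1 hm1
    have h5 := card_pm_cc (p := p) (f := f) (e := e) hp.out.pos hv (by omega) hf (by rw [← hqf, he])
    have h6 := cc_le e f
    refine hEv.not_SCC_of_two_mul_lt dvd_rfl ?_
    rw [Nat.totient_prime hv]
    omega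
  by_cases hm : m.Prime
  · by_cases hme : orderOf ((Fintype.card F : ℕ) : ZMod m) = e
    · have hmq : ¬ m ∣ Fintype.card F - 1 := by
        intro h
        have h4 := (ee_eq_one_iff (q := Fintype.card F) (r := m) hq1.le).2 h
        rw [ee, hme] at h4
        omega
      have h4 := h2 hm hmq
      have hmp : m ≠ p := by
        rintro rfl
        have h5 : m ∣ Fintype.card F ^ e - 1 := (dvd_mul_left _ _).trans hmd
        exact not_dvd_of_dvd_sub hm (Nat.one_le_pow _ _ (by omega)) (dvd_pow hpq (by omega)) h5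
      have hE : Elt F n p (v * m) e := by
        refine ⟨hn2, ?_, Nat.Coprime.mul_left ((Nat.coprime_primes hv hp.out).2 hvp)
          ((Nat.coprime_primes hm hp.out).2 hmp), Nat.Coprime.mul_left ((Nat.Prime.coprime_iff_not_dvd hv).2 hvq)
          ((Nat.Prime.coprime_iff_not_dvd hm).2 hmq), hmd, ?_, hdeg, hen⟩
        · have := hv.one_lt
          have := hm.pos
          nlinarith only [h4]
        · intro r hr hrv
          rcases hr.dvd_mul.1 hrv with h5 | h5
          · rw [(Nat.prime_dvd_prime_iff_eq hr hv).1 h5]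
            exact he
          · rw [(Nat.prime_dvd_prime_iff_eq hr hm).1 h5]
            exact hme
      have h5 := card_pm_all (p := p) (f := f) (N := v * m) (e := e) (Nat.mul_pos hv.pos hm.pos) (by omega) hf
        (by rw [← hqf]; exact hmd) hp.out.pos
      have h6 := totient_mul_ge hv hm (by have := le_of_order hv (by omega) he; omega)
        (by have := le_of_order hm (by omega) hme; omega)
      obtain ⟨w, hw⟩ := hz.dvd (Nat.mul_ne_zero hv.ne_zero hm0) (dvd_mul_right v m)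
      refine hE.not_SCC_of_lt (dvd_mul_right _ _) (by omega) (w := w) (by rw [hw]) ?_
      rw [hw]
      intro h
      exact hm1 (Nat.eq_of_mul_eq_mul_left hv.pos (by rw [← h, mul_one]))
    · have h4 := h3 hm hme
      have h5 := card_pm_cc (p := p) (f := f) (e := e) hp.out.pos hv (by omega) hf (by rw [← hqf, he])
      obtain ⟨w, hw⟩ := hz
      refine hEv.not_SCC_of_lt dvd_rfl (by rw [Nat.totient_prime hv]; omega) (w := w)
        (by rw [hw]; exact dvd_mul_right _ _) ?_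
      rw [hw]
      intro h
      exact hm1 (Nat.eq_of_mul_eq_mul_left hv.pos (by rw [h, mul_one]))
  · exact not_SCC_of_not_prime hv.pos hz hm0 hm1 hm

theorem nine_not_dvd (q : ℕ) : ¬ 9 ∣ gs q 3 := by
  rw [gs_three]
  intro h
  have h1 : (q ^ 2 + q + 1) % 9 = 0 := Nat.mod_eq_zero_of_dvd h
  have h2 : q % 9 < 9 := Nat.mod_lt _ (by norm_num)
  rw [Nat.add_mod, Nat.add_mod (q ^ 2), Nat.pow_mod] at h1
  interval_cases (q % 9) <;> simp at h1

theorem gs_mod_sub {q r n : ℕ} (hq : 1 ≤ q) (h : r ∣ q - 1) (h' : r ∣ gs q n) : r ∣ n := by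
  have h1 : ((q : ℕ) : ZMod r) = 1 := by
    have h2 := (ZMod.natCast_eq_zero_iff (q - 1) r).2 h
    rw [Nat.cast_sub hq, Nat.cast_one, sub_eq_zero] at h2
    exact h2
  have h3 := (ZMod.natCast_eq_zero_iff (gs q n) r).2 h'
  unfold gs at h3
  push_cast at h3
  rw [h1] at h3
  simp only [one_pow, Finset.sum_const, Finset.card_range, nsmul_eq_mul, mul_one] at h3
  exact (ZMod.natCast_eq_zero_iff n r).1 h3

/-- properties of a nonprimitive prime `m` -/
theorem nonprim {q e m : ℕ} (hq : 2 ≤ q) (hm : m.Prime) (he : 1 ≤ e) (hmd : m ∣ q ^ e - 1)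
    (hne : orderOf ((q : ℕ) : ZMod m) ≠ e) : m ∣ q - 1 ∨
      (2 ≤ orderOf ((q : ℕ) : ZMod m) ∧ 2 * orderOf ((q : ℕ) : ZMod m) ≤ e ∧
        m ≤ gs q (orderOf ((q : ℕ) : ZMod m))) := by
  have h1 : ee q m ∣ e := ee_dvd (by omega) hmd
  have h2 : m ∣ q ^ (ee q m) - 1 := dvd_pow_ee (by omega)
  have h3 : ee q m ≠ 0 := by
    intro h
    rw [h] at h1
    have := Nat.eq_zero_of_zero_dvd h1
    omega
  by_cases h4 : m ∣ q - 1
  · exact Or.inl h4
  right
  change 2 ≤ ee q m ∧ 2 * ee q m ≤ e ∧ m ≤ gs q (ee q m)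
  have h5 : ee q m ≠ 1 := fun h => h4 ((ee_eq_one_iff (by omega)).1 h)
  refine ⟨by omega, ?_, ?_⟩
  · obtain ⟨c, hc⟩ := h1
    have hc1 : c ≠ 1 := by
      rintro rfl
      apply hne
      rw [mul_one] at hc
      exact hc.symm
    have hc0 : c ≠ 0 := by
      rintro rfl
      omega
    rw [hc, mul_comm]
    exact Nat.mul_le_mul_left _ (by omega)
  · rw [← gs_mul q _ (by omega)] at h2
    exact Nat.le_of_dvd (by have := gs_pos q (n := ee q m) (by omega); omega)
      ((hm.dvd_mul.1 h2).resolve_right h4)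

end Cfsg.Agent.H205.DerPsl
end

-- part: H205/Der/PslF
section
/-!
# Three `Aut`-classes for every prime in `PSL_n(q)` (helper205, S3502)
-/

set_option autoImplicit false

namespace Cfsg.Agent.H205.DerPsl

open Matrix Cfsg.Agent.H72 Cfsg.Agent.H72.AdjPSL Cfsg.Agent.H72.AdjOrth Cfsg.Agent.H39.DerPsl Cfsg.Agent.H439.Der
  Cfsg.Agent.ClassicalGeometry.AutPSL.Root Cfsg.Agent.ClassicalGeometry.AutPSL.Auto Cfsg.Agent.H199.PslAut

variable {F : Type*} [Field F] [Fintype F] {n : ℕ}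

/-- prime factors of `k` are `3`, `9 ∤ k` -/
theorem dvd_three {k : ℕ} (hk : k ≠ 0) (h : ∀ r : ℕ, r.Prime → r ∣ k → r = 3) (h9 : ¬ 9 ∣ k) : k ∣ 3 := by
  have h1 := Nat.eq_prime_pow_of_unique_prime_dvd hk (p := 3) (fun {d} hd hdk => h d hd hdk)
  have h2 : k.primeFactorsList.length ≤ 1 := by
    by_contra hc
    push Not at hc
    apply h9
    rw [h1]
    exact pow_dvd_pow 3 (show 2 ≤ _ from hc)
  have h3 := pow_dvd_pow 3 h2
  rw [← h1] at h3
  simpa using h3

/-- **The primes of weight `n - 1`.** -/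
theorem three_tor {p v : ℕ} [hp : Fact p.Prime] [CharP F p] (hn : 4 ≤ n) (hv : v.Prime)
    (h42 : ¬ (n = 4 ∧ Fintype.card F = 2)) (h43 : ¬ (n = 4 ∧ Fintype.card F = 3 ∧ v = 13))
    (h52 : ¬ (n = 5 ∧ Fintype.card F = 2 ∧ v = 5))
    (hvp : v ≠ p) (hvq : ¬ v ∣ Fintype.card F - 1)
    (he : orderOf ((Fintype.card F : ℕ) : ZMod v) = n - 1) :
    ¬ SCC (Matrix.ProjectiveSpecialLinearGroup (Fin n) F) v := by
  obtain ⟨f, -, hqf⟩ := FiniteField.card F p
  have hq1 : 1 < Fintype.card F := Fintype.one_lt_card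
  have hvd : v ∣ Fintype.card F ^ (n - 1) - 1 := by
    have h1 := dvd_pow_ee (q := Fintype.card F) (r := v) Fintype.card_pos
    rwa [ee, he] at h1
  have hgq : Nat.gcd n (Fintype.card F - 1) ∣ Fintype.card F - 1 := Nat.gcd_dvd_right _ _
  have hgn : Nat.gcd n (Fintype.card F - 1) ∣ n := Nat.gcd_dvd_left _ _
  have hz := exists_tor (F := F) (n := n) (by omega)
  obtain ⟨e, rfl⟩ : ∃ e, n = e + 1 := ⟨n - 1, by omega⟩
  rw [Nat.add_sub_cancel] at he hvd hz
  obtain ⟨q, hq⟩ : ∃ q, q = Fintype.card F := ⟨_, rfl⟩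
  obtain ⟨d, hdd⟩ : ∃ d, d = Nat.gcd (e + 1) (q - 1) := ⟨_, rfl⟩
  rw [← hq] at hq1 hvd hgq hgn hz hqf hvq h42 h43 h52 he
  rw [← hdd] at hgq hgn hz
  have hd0 : 0 < d := by rw [hdd]; exact Nat.gcd_pos_of_pos_left _ (by omega)
  have hdq : d ∣ q ^ e - 1 := hgq.trans (pow_sub_dvd q e hq1.le)
  have hvd' : ¬ v ∣ d := fun h => hvq (h.trans hgq)
  obtain ⟨c, hc⟩ := hdq
  rw [hc, Nat.mul_div_cancel_left c hd0] at hz
  have hvc : v ∣ c := by
    rw [hc] at hvd
    exact (hv.dvd_mul.1 hvd).resolve_left hvd'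
  obtain ⟨m, rfl⟩ := hvc
  have hgs := gs_mul q e hq1.le
  have hpos : 0 < q ^ e - 1 := by
    have : 1 < q ^ e := Nat.one_lt_pow (by omega) hq1
    omega
  have hm0 : m ≠ 0 := by
    rintro rfl
    rw [mul_zero, mul_zero] at hc
    omega
  have hdle : d ≤ q - 1 := Nat.le_of_dvd (by omega) hgq
  have hgsle : gs q e ≤ v * m * 1 := by
    have h1 : gs q e * (q - 1) ≤ v * m * (q - 1) := by
      rw [hgs, hc, mul_comm d]
      exact Nat.mul_le_mul_left _ hdle
    rw [mul_one]
    exact Nat.le_of_mul_le_mul_right h1 (by omega)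
  have hm : v * m ∣ q ^ e - 1 := ⟨d, by rw [hc, mul_comm]⟩
  -- small exceptions
  have x42 : ¬ (e = 3 ∧ q = 2) := fun h => h42 ⟨by omega, h.2⟩
  have x43 : ¬ (e = 3 ∧ q = 3) := by
    rintro ⟨rfl, rfl⟩
    have h1 : v ∣ 2 * 13 := by
      rw [show (2 * 13 : ℕ) = 3 ^ 3 - 1 by norm_num]
      exact (dvd_mul_right _ _).trans hm
    rcases hv.dvd_mul.1 h1 with h2 | h2
    · exact hvq h2
    · exact h43 ⟨rfl, rfl, (Nat.prime_dvd_prime_iff_eq hv (by norm_num)).1 h2⟩
  have x52 : ¬ (e = 4 ∧ q = 2) := by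
    rintro ⟨rfl, rfl⟩
    have h1 : v ∣ 3 * 5 := by
      rw [show (3 * 5 : ℕ) = 2 ^ 4 - 1 by norm_num]
      exact (dvd_mul_right _ _).trans hm
    rcases hv.dvd_mul.1 h1 with h2 | h2
    · have h3 := (Nat.prime_dvd_prime_iff_eq hv (by norm_num)).1 h2
      subst h3
      have h4 : ee 2 3 ∣ 2 := ee_dvd (by norm_num) (by norm_num)
      rw [ee, he] at h4
      exact absurd (Nat.le_of_dvd (by norm_num) h4) (by norm_num)
    · exact h52 ⟨rfl, rfl, (Nat.prime_dvd_prime_iff_eq hv (by norm_num)).1 h2⟩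
  have x44 : (e = 3 ∧ q = 4) → d = 1 := by
    rintro ⟨rfl, rfl⟩
    rw [hdd]
    decide
  -- `J`
  have hJ : Nat.Coprime (v * m) (q - 1) → 4 * (e * (f : ℕ)) + 1 < v * m := by
    intro hcop
    have h1 : q - 1 ∣ d * (v * m) := by rw [← hc]; exact pow_sub_dvd q e hq1.le
    have h2 : q - 1 ∣ d := hcop.symm.dvd_of_dvd_mul_right h1
    have h3 : d = q - 1 := Nat.dvd_antisymm hgq h2
    have h4 : gs q e = v * m := by
      rw [hc, h3, mul_comm (q - 1)] at hgs
      exact Nat.eq_of_mul_eq_mul_right (by omega) hgs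
    have h5 := num_J (n := e) (g := 1) hp.out f.pos hqf (by omega) (by
      simp only [Finset.mem_insert, Finset.mem_singleton, Prod.mk.injEq, not_or]
      refine ⟨x42, x43, fun h => ?_, x52⟩
      have := x44 h
      rw [h.2] at h3
      omega) (one_dvd _)
    rw [h4, mul_one] at h5
    exact h5
  have hvq' := (Nat.Prime.coprime_iff_not_dvd hv).2 hvq
  rw [hq] at hvq he
  refine three_core (p := p) (f := f) (m := m) (e := e) (by omega) (by rw [← hq]; exact hqf) f.pos hv hvp hvq he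
    (by omega) (by omega) (by omega) hz hm0 (by rw [← hq]; exact hm) ?_ ?_ ?_
  · rintro rfl
    rw [mul_one] at hJ
    exact hJ hvq'
  · intro hmp hmq
    rw [← hq] at hmq
    exact hJ (Nat.Coprime.mul_left hvq' ((Nat.Prime.coprime_iff_not_dvd hmp).2 hmq))
  · intro hmp hme
    rw [← hq] at hme
    rcases Nat.lt_or_ge e 4 with he4 | he4
    · -- `e = 3`
      obtain rfl : e = 3 := by omega
      have hmq : m ∣ q - 1 := by
        rcases nonprim (by omega) hmp (by norm_num) ((dvd_mul_left _ _).trans hm) hme with h | ⟨h1, h2, -⟩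
        · exact h
        · omega
      have hvg : v ∣ gs q 3 := by
        have h1 : v ∣ gs q 3 * (q - 1) := by
          rw [hgs]
          exact (dvd_mul_right _ _).trans hm
        exact hvq'.dvd_of_dvd_mul_right h1
      obtain ⟨k, hk⟩ := hvg
      have hk1 : k * (q - 1) = d * m := by
        have h1 : v * (k * (q - 1)) = v * (d * m) := by
          rw [← mul_assoc, ← hk, hgs, hc]
          ring
        exact Nat.eq_of_mul_eq_mul_left hv.pos h1
      have hg0 := gs_pos q (n := 3) (by norm_num)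
      have hk0 : k ≠ 0 := by
        rintro rfl
        omega
      have hkr : ∀ r : ℕ, r.Prime → r ∣ k → r = 3 := by
        intro r hr hrk
        have h1 : r ∣ q - 1 := by
          have h2 : r ∣ d * m := by
            rw [← hk1]
            exact hrk.mul_right _
          rcases hr.dvd_mul.1 h2 with h3 | h3
          · exact h3.trans hgq
          · exact h3.trans hmq
        have h2 := gs_mod_sub (by omega) h1 (show r ∣ gs q 3 by rw [hk]; exact hrk.mul_left _)
        exact (Nat.prime_dvd_prime_iff_eq hr Nat.prime_three).1 h2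
      have hk3 : k ∣ 3 := dvd_three hk0 hkr (fun h => nine_not_dvd q (by rw [hk]; exact h.mul_left _))
      have hkg : k ∣ Nat.gcd 3 (q - 1) := by
        refine Nat.dvd_gcd hk3 ?_
        rcases (Nat.dvd_prime Nat.prime_three).1 hk3 with h1 | h1
        · rw [h1]
          exact one_dvd _
        · have h2 : 3 ∣ d * m := by
            rw [← hk1, h1]
            exact dvd_mul_right _ _
          rw [h1]
          rcases Nat.prime_three.dvd_mul.1 h2 with h3 | h3
          · exact h3.trans hgq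
          · exact h3.trans hmq
      have h34 : ¬ (3 = 3 ∧ q = 4) := by
        rintro ⟨-, rfl⟩
        have h1 := x44 ⟨rfl, rfl⟩
        rw [h1] at hc hk1
        have h2 := (Nat.prime_dvd_prime_iff_eq hmp Nat.prime_three).1 hmq
        subst h2
        have h3 : v = 21 := by omega
        rw [h3] at hv
        norm_num at hv
      have h5 := num_J (n := 3) (g := k) hp.out f.pos hqf le_rfl (by
        simp only [Finset.mem_insert, Finset.mem_singleton, Prod.mk.injEq, not_or]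
        exact ⟨fun h => x42 ⟨rfl, h.2⟩, fun h => x43 ⟨rfl, h.2⟩, fun h => h34 ⟨rfl, h.2⟩, by omega⟩) hkg
      rw [hk] at h5
      have h6 := Nat.lt_of_mul_lt_mul_right h5
      have h7 := cc_le 3 f
      omega
    · have hex : (e, q) ∉ ({(4, 2), (4, 3), (5, 2)} : Finset (ℕ × ℕ)) := by
        simp only [Finset.mem_insert, Finset.mem_singleton, Prod.mk.injEq, not_or]
        refine ⟨x52, ?_, ?_⟩
        · rintro ⟨rfl, rfl⟩
          have hd1 : d = 1 := by rw [hdd]; decide
          rw [hd1, one_mul] at hc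
          have h1 : v ∣ 16 * 5 := ⟨m, by rw [← hc]; norm_num⟩
          rcases hv.dvd_mul.1 h1 with h2 | h2
          · have h3 := hv.dvd_of_dvd_pow (show v ∣ 2 ^ 4 from h2)
            rw [← hq] at hvq
            exact hvq h3
          · have h3 := (Nat.prime_dvd_prime_iff_eq hv (by norm_num)).1 h2
            subst h3
            have h4 : m = 16 := by omega
            rw [h4] at hmp
            norm_num at hmp
        · rintro ⟨rfl, rfl⟩
          have hd1 : d = 1 := by rw [hdd]; decide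
          rw [hd1, one_mul] at hc
          have h1 : Nat.Prime (v * m) := by rw [← hc]; norm_num
          exact Nat.not_prime_mul hv.one_lt.ne' hmp.one_lt.ne' h1
      rcases nonprim (by omega) hmp (by omega) ((dvd_mul_left _ _).trans hm) hme with h | h
      · exact num_core hp.out f.pos hqf he4 hex (one_dvd _) hgsle
          (j := 1) (Or.inl ⟨rfl, Nat.le_of_dvd (by omega) h⟩)
      · exact num_core hp.out f.pos hqf he4 hex (one_dvd _) hgsle (Or.inr h)

/-- **The primes of weight `n`.** -/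
theorem three_sing {p v : ℕ} [hp : Fact p.Prime] [CharP F p] (hn : 3 ≤ n) (hv : v.Prime)
    (h32 : ¬ (n = 3 ∧ (Fintype.card F = 2 ∨ Fintype.card F = 4))) (h42 : ¬ (n = 4 ∧ Fintype.card F = 2))
    (h33 : ¬ (n = 3 ∧ Fintype.card F = 3 ∧ v = 13))
    (hvp : v ≠ p) (hvq : ¬ v ∣ Fintype.card F - 1)
    (he : orderOf ((Fintype.card F : ℕ) : ZMod v) = n) :
    ¬ SCC (Matrix.ProjectiveSpecialLinearGroup (Fin n) F) v := by
  obtain ⟨f, -, hqf⟩ := FiniteField.card F p
  have hq1 : 1 < Fintype.card F := Fintype.one_lt_card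
  have hvd : v ∣ Fintype.card F ^ n - 1 := by
    have h1 := dvd_pow_ee (q := Fintype.card F) (r := v) Fintype.card_pos
    rwa [ee, he] at h1
  have hgq : Nat.gcd n (Fintype.card F - 1) ∣ Fintype.card F - 1 := Nat.gcd_dvd_right _ _
  have hz := exists_sing (F := F) (n := n) (by omega)
  obtain ⟨q, hq⟩ : ∃ q, q = Fintype.card F := ⟨_, rfl⟩
  rw [← hq] at hq1 hvd hgq hz hqf hvq h42 h33 h32 he
  obtain ⟨g, hg⟩ : ∃ g, g = Nat.gcd (gs q n) (Nat.gcd n (q - 1)) := ⟨_, rfl⟩
  rw [← hg] at hz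
  have hg0 : 0 < g := by
    rw [hg]
    exact Nat.gcd_pos_of_pos_right _ (Nat.gcd_pos_of_pos_left _ (by omega))
  have hgd : g ∣ Nat.gcd n (q - 1) := by rw [hg]; exact Nat.gcd_dvd_right _ _
  have hvg : v ∣ gs q n := by
    rw [← gs_mul q n hq1.le] at hvd
    exact (hv.dvd_mul.1 hvd).resolve_right hvq
  obtain ⟨c, hc⟩ : g ∣ gs q n := by rw [hg]; exact Nat.gcd_dvd_left _ _
  rw [hc, Nat.mul_div_cancel_left c hg0] at hz
  have hvc : v ∣ c := by
    rw [hc] at hvg
    exact (hv.dvd_mul.1 hvg).resolve_left fun h => hvq ((h.trans hgd).trans (Nat.gcd_dvd_right _ _))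
  obtain ⟨m, rfl⟩ := hvc
  have hgs := gs_mul q n hq1.le
  have hpos := gs_pos q (n := n) (by omega)
  have hm0 : m ≠ 0 := by
    rintro rfl
    rw [mul_zero, mul_zero] at hc
    omega
  have hm : v * m ∣ q ^ n - 1 := by
    rw [← hgs, hc]
    exact (dvd_mul_left _ _).mul_right _
  have x33 : ¬ (n = 3 ∧ q = 3) := by
    rintro ⟨rfl, rfl⟩
    have h1 : v ∣ 13 := by
      rw [show (13 : ℕ) = gs 3 3 by decide]
      exact hvg
    exact h33 ⟨rfl, rfl, (Nat.prime_dvd_prime_iff_eq hv (by norm_num)).1 h1⟩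
  -- `J`
  have hJ : 4 * (n * (f : ℕ)) + 1 < v * m := by
    have h5 := num_J (n := n) (g := g) hp.out f.pos hqf (by omega) (by
      simp only [Finset.mem_insert, Finset.mem_singleton, Prod.mk.injEq, not_or]
      (clear * - h32 h42 x33; tauto)) hgd
    rw [hc, mul_comm g] at h5
    exact Nat.lt_of_mul_lt_mul_right h5
  rw [hq] at hvq he
  refine three_core (p := p) (f := f) (m := m) (e := n) (by omega) (by rw [← hq]; exact hqf) f.pos hv hvp hvq he
    (by omega) (by omega) (by omega) hz hm0 (by rw [← hq]; exact hm) ?_ (fun _ _ => hJ) ?_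
  · rintro rfl
    rw [mul_one] at hJ
    exact hJ
  · intro hmp hme
    rw [← hq] at hme hvq
    have hmg : m ∣ gs q n := by
      rw [hc]
      exact (dvd_mul_left _ _).mul_left _
    rcases Nat.lt_or_ge n 4 with he4 | he4
    · -- `n = 3`
      exfalso
      obtain rfl : n = 3 := by omega
      have hmq : m ∣ q - 1 := by
        rcases nonprim (by omega) hmp (by norm_num) ((dvd_mul_left _ _).trans hm) hme with h | ⟨h1, h2, -⟩
        · exact h
        · omega
      have h1 := (Nat.prime_dvd_prime_iff_eq hmp Nat.prime_three).1 (gs_mod_sub (by omega) hmq hmg)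
      subst h1
      have h2 : 3 ∣ g := by
        rw [hg]
        exact Nat.dvd_gcd hmg (Nat.dvd_gcd dvd_rfl hmq)
      obtain ⟨k, hk⟩ := h2
      apply nine_not_dvd q
      rw [hc, hk]
      exact ⟨k * v, by ring⟩
    · have hgsle : gs q n ≤ v * m * g := by rw [hc, mul_comm g]
      have hex : (n, q) ∉ ({(4, 2), (4, 3), (5, 2)} : Finset (ℕ × ℕ)) := by
        simp only [Finset.mem_insert, Finset.mem_singleton, Prod.mk.injEq, not_or]
        refine ⟨h42, ?_, ?_⟩
        · rintro ⟨rfl, rfl⟩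
          have hg2 : g = 2 := by rw [hg]; decide
          have hgs4 : gs 3 4 = 40 := by decide
          rw [hg2, hgs4] at hc
          have h1 : v ∣ 4 * 5 := ⟨m, by omega⟩
          rcases hv.dvd_mul.1 h1 with h2 | h2
          · exact hvq (hv.dvd_of_dvd_pow (show v ∣ 2 ^ 2 from h2))
          · have h3 := (Nat.prime_dvd_prime_iff_eq hv (by norm_num)).1 h2
            subst h3
            have h4 : m = 4 := by omega
            rw [h4] at hmp
            norm_num at hmp
        · rintro ⟨rfl, rfl⟩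
          have hg1 : g = 1 := by rw [hg]; decide
          have hgs5 : gs 2 5 = 31 := by decide
          rw [hg1, one_mul, hgs5] at hc
          have h1 : Nat.Prime (v * m) := by rw [← hc]; norm_num
          exact Nat.not_prime_mul hv.one_lt.ne' hmp.one_lt.ne' h1
      rcases nonprim (by omega) hmp (by omega) ((dvd_mul_left _ _).trans hm) hme with h | h
      · exact num_core hp.out f.pos hqf he4 hex hgd hgsle
          (j := 1) (Or.inl ⟨rfl, Nat.le_of_dvd (by omega) h⟩)
      · exact num_core hp.out f.pos hqf he4 hex hgd hgsle (Or.inr h)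

/-- **Three classes for every prime.** -/
theorem not_SCC_psl (hn : 3 ≤ n) (hex : (n, Fintype.card F) ∉ ({(3, 2), (3, 4), (4, 2)} : Finset (ℕ × ℕ)))
    {v : ℕ} (hv : v.Prime) (hd : v ∣ Nat.card (Matrix.ProjectiveSpecialLinearGroup (Fin n) F))
    (hx : (n, Fintype.card F, v) ∉ ({(3, 3, 13), (4, 3, 13), (5, 2, 5), (3, 7, 3)} : Finset (ℕ × ℕ × ℕ))) :
    ¬ SCC (Matrix.ProjectiveSpecialLinearGroup (Fin n) F) v := by
  simp only [Finset.mem_insert, Finset.mem_singleton, Prod.mk.injEq, not_or] at hex hx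
  obtain ⟨y1, y2, y3⟩ := hex
  obtain ⟨z1, z2, z3, z4⟩ := hx
  obtain ⟨p, hpc⟩ := CharP.exists F
  have hp : Fact p.Prime := ⟨CharP.char_is_prime F p⟩
  obtain ⟨m, -, hm⟩ := FiniteField.card F p
  have hq1 : 1 < Fintype.card F := Fintype.one_lt_card
  by_cases hvp : v = p
  · subst hvp
    rcases Nat.lt_or_ge n 4 with h | h
    · obtain rfl : n = 3 := by omega
      exact three_char3 v (fun h => y1 ⟨rfl, h⟩) (fun h => y2 ⟨rfl, h⟩)
    · exact three_char v h y3
  have hvF : ¬ v ∣ Fintype.card F := by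
    rw [hm]
    intro h
    exact hvp ((Nat.prime_dvd_prime_iff_eq hv hp.out).1 (hv.dvd_of_dvd_pow h))
  have hle := ee_le hv hvF hd
  by_cases hvq : v ∣ Fintype.card F - 1
  · rcases Nat.lt_or_ge n 4 with h | h
    · obtain rfl : n = 3 := by omega
      exact three_q1 hv (fun h => y2 ⟨rfl, h⟩) (fun h => z4 ⟨rfl, h.1, h.2⟩) hvq
    · exact three_one (p := p) hv h hvq hd
  have he1 : ee (Fintype.card F) v ≠ 1 := fun h => hvq ((ee_eq_one_iff hq1.le).1 h)
  have he0 := ee_pos hv hvF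
  rcases Nat.lt_or_ge (ee (Fintype.card F) v + 1) n with h | h
  · exact three_small (p := p) hv hvp hvq y3 hd (by omega)
  by_cases h2 : n = 3 ∧ ee (Fintype.card F) v = 2
  · obtain ⟨rfl, h2⟩ := h2
    exact three_e2 hv (fun h => y1 ⟨rfl, h⟩) (fun h => y2 ⟨rfl, h⟩) hvq h2
  have h1 : ee (Fintype.card F) v = n - 1 ∨ ee (Fintype.card F) v = n := by omega
  rcases h1 with h1 | h1
  · exact three_tor (p := p) (by omega) hv y3 z2 z3 hvp hvq h1
  · exact three_sing (p := p) hn hv (fun h => h.2.elim (fun h' => y1 ⟨h.1, h'⟩) (fun h' => y2 ⟨h.1, h'⟩)) y3 z1 hvp hvq h1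

end Cfsg.Agent.H205.DerPsl
end

-- part: H205/Der/L43
section
/-!
# `L3(7)` and `L4(3)`: subgroups missing `3`, `13` (helper205, S3502)
-/

set_option autoImplicit false

namespace Cfsg.Agent.H205.DerPsl

open Subgroup Matrix Cfsg Cfsg.Agent.H39.DerPsl Cfsg.Agent.H439.Der Cfsg.Agent.OrdDiv Cfsg.Agent.H938.Sax

variable {F : Type} [Field F] [Fintype F]

theorem card_l37 (hF : Fintype.card F = 7) : Nat.card (Matrix.ProjectiveSpecialLinearGroup (Fin 3) F) = 1876896 := by
  have h2 := Cfsg.Agent.S0243.result (F := F) hF 3 (by norm_num)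
  have e1 : ∏ i : Fin 3, (7 ^ 3 - 7 ^ (i : ℕ)) = 33784128 := by rfl
  rw [e1] at h2
  norm_num at h2
  omega

theorem card_l43 (hF : Fintype.card F = 3) : Nat.card (Matrix.ProjectiveSpecialLinearGroup (Fin 4) F) = 6065280 := by
  have h2 := Cfsg.Agent.S0243.result (F := F) hF 4 (by norm_num)
  have e1 : ∏ i : Fin 4, (3 ^ 4 - 3 ^ (i : ℕ)) = 24261120 := by rfl
  rw [e1] at h2
  norm_num at h2
  omega

/-- an order divisible by a prime which is not missing -/
theorem three_of_gap {n : ℕ} (hn : 3 ≤ n) (hex : (n, Fintype.card F) ∉ ({(3, 2), (3, 4), (4, 2)} : Finset (ℕ × ℕ)))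
    {v : ℕ} (hv : v.Prime) (hd : v ∣ Nat.card (Matrix.ProjectiveSpecialLinearGroup (Fin n) F))
    (hx : (n, Fintype.card F, v) ∉ ({(3, 3, 13), (4, 3, 13), (5, 2, 5), (3, 7, 3)} : Finset (ℕ × ℕ × ℕ)))
    (M : Subgroup (Matrix.ProjectiveSpecialLinearGroup (Fin n) F)) (h : ¬ v ∣ Nat.card M) :
    Three (Matrix.ProjectiveSpecialLinearGroup (Fin n) F) M := by
  obtain ⟨x, hx'⟩ := hasOrd_prime hv hd
  exact Three.of_not_dvd h (not_SCC_psl hn hex hv hd hx) ⟨x, by rw [hx']⟩

theorem ord_cast {q v n : ℕ} (h1 : ((q : ℕ) : ZMod v) ^ n = 1) (h2 : ∀ m, m < n → 0 < m → ((q : ℕ) : ZMod v) ^ m ≠ 1)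
    (hn : 0 < n) : orderOf ((q : ℕ) : ZMod v) = n := (orderOf_eq_iff hn).2 ⟨h1, h2⟩

variable (OT : OrderTable.{0}) (hS : ∀ (X : Type) [Group X] [Finite X] [IsSimpleGroup X], Cfsg.IsKnownSimple' X)

include OT hS

/-- **`L3(7)`, `v = 3`** -/
theorem three_l37 (hF : Fintype.card F = 7) (M : Subgroup (Matrix.ProjectiveSpecialLinearGroup (Fin 3) F))
    (h3 : ¬ 3 ∣ Nat.card M) : Three (Matrix.ProjectiveSpecialLinearGroup (Fin 3) F) M := by
  have hcard := card_l37 hF
  have hex : (3, Fintype.card F) ∉ ({(3, 2), (3, 4), (4, 2)} : Finset (ℕ × ℕ)) := by rw [hF]; decide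
  by_cases h19 : 19 ∣ Nat.card M
  swap
  · exact three_of_gap (v := 19) le_rfl hex (by norm_num) (by rw [hcard]; norm_num) (by rw [hF]; decide) M h19
  by_cases h7 : 7 ∣ Nat.card M
  swap
  · exact three_of_gap (v := 7) le_rfl hex (by norm_num) (by rw [hcard]; norm_num) (by rw [hF]; decide) M h7
  exfalso
  have h7p : Fact (Nat.Prime 7) := ⟨by norm_num⟩
  have hch : CharP F 7 := by
    obtain ⟨p, hp⟩ := CharP.exists F
    have hpp := CharP.char_is_prime F p
    obtain ⟨k, -, hk⟩ := FiniteField.card F p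
    rw [hF] at hk
    have : p ∣ 7 := by rw [hk]; exact dvd_pow_self p k.pos.ne'
    have := (Nat.prime_dvd_prime_iff_eq hpp (by norm_num)).1 this
    subst this
    exact hp
  have hMT : Nat.card M ∣ 1876896 := by rw [← hcard]; exact Subgroup.card_subgroup_dvd_card M
  have hM2 : Nat.card M ∣ 208544 := by
    have h1 : Nat.Coprime (Nat.card M) 9 :=
      (((Nat.Prime.coprime_iff_not_dvd Nat.prime_three).2 h3).symm).pow_right 2
    exact h1.dvd_of_dvd_mul_left (show Nat.card M ∣ 9 * 208544 from hMT)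
  rcases struct_psl (p := 7) (v := 19) (n := 3) (by norm_num) (by norm_num) (by norm_num)
    (by rw [hF]; exact ord_cast (by decide) (by intro m hm hm0; interval_cases m <;> decide) (by norm_num))
    (by rw [hF]; decide) (by rw [hcard]; norm_num) (by norm_num) M h19 with h | ⟨K, _, _, a, c, hK, hna, hvK, hM, -⟩
  · exact h h7
  · have h1 : Nat.card K ∣ 208544 := by
      refine dvd_trans ?_ hM2
      rw [hM]
      exact (dvd_mul_left _ _).mul_right _
    have h2 := Cfsg.Agent.H970.StabNum.mem_tbl OT hS (l := [(2, 5), (7, 3), (19, 1)]) (N := 208544) (by decide +kernel)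
      (tbl := []) (by decide +kernel) K hK hna h1
    exact absurd h2 (List.not_mem_nil)

omit [Field F] [Fintype F] in
/-- simple groups of order `25920` have no elements of order ten -/
theorem no_ten {K : Type} [Group K] [Finite K] (hK : IsSimpleGroup K) (hna : ¬ ∀ x y : K, x * y = y * x)
    (hc : Nat.card K = 25920) (z : K) : ¬ 10 ∣ orderOf z := by
  have h5p : Fact (Nat.Prime 5) := ⟨by norm_num⟩
  obtain ⟨g, hg, hr⟩ := exists_real_filter OT (hS K) hna (l := [(2, 6), (3, 4), (5, 1)])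
    (N := 25920) (by decide +kernel) (by rw [hc]) (fun o => Nat.beq o 25920) (by rw [hc]; rfl)
  rw [show ((cands [(2, 6), (3, 4), (5, 1)] 25920).filter fun g => Nat.beq (ordN g) 25920) =
    [.psp 2 3, .psu 4 2] by decide +kernel] at hg
  have hself : ∃ R : Subgroup K, Nat.card R = 5 ∧ centralizer (R : Set K) = R := by
    simp only [List.mem_cons, List.not_mem_nil, or_false] at hg
    rcases hg with rfl | rfl
    · obtain ⟨F, _, _, hF, ⟨e⟩⟩ := hr
      exact H732.SelfCent.selfcent_congr e.symm (H809.SelfCent.psp_four_three hF)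
    · obtain ⟨F, _, _, hF, ⟨e⟩⟩ := hr
      exact H732.SelfCent.selfcent_congr e.symm (H809.SelfCent.psu_selfcent 4 2 5 (by decide) F hF)
  intro h
  have h25 : ¬ 5 ^ 2 ∣ Nat.card K := by rw [hc]; norm_num
  -- an element of order ten
  have h0 : orderOf z ≠ 0 := (orderOf_pos z).ne'
  obtain ⟨y, hy⟩ : ∃ y : K, orderOf y = 10 := ⟨_, orderOf_pow_orderOf_div h0 h⟩
  have hy2 : orderOf (y ^ 2) = 5 := by rw [orderOf_pow' y (by norm_num), hy]; decide
  have hP : IsPGroup 5 (zpowers (y ^ 2)) := IsPGroup.of_card (n := 1) (by rw [Nat.card_zpowers, hy2, pow_one])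
  obtain ⟨S, hPS⟩ := hP.exists_le_sylow
  have hcS := H503.El.cent_of_ex h25 hself S
  have hScard : Nat.card S ∣ 5 := by
    obtain ⟨k, hk⟩ := IsPGroup.iff_card.1 S.2
    have h5 : Nat.card S ∣ Nat.card K := Subgroup.card_subgroup_dvd_card _
    rw [hk] at h5 ⊢
    have h6 : k < 2 := by
      by_contra hcon
      push Not at hcon
      exact h25 ((pow_dvd_pow 5 hcon).trans h5)
    exact (pow_dvd_pow 5 (show k ≤ 1 by omega)).trans (by norm_num)
  have hSe : (S : Subgroup K) = zpowers (y ^ 2) := by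
    refine (Subgroup.eq_of_le_of_card_ge hPS ?_).symm
    rw [Nat.card_zpowers, hy2]
    exact Nat.le_of_dvd (by norm_num) hScard
  have hyc : y ∈ centralizer ((S : Subgroup K) : Set K) := by
    rw [Subgroup.mem_centralizer_iff, hSe]
    intro w hw
    obtain ⟨k, rfl⟩ := mem_zpowers_iff.1 hw
    exact (((Commute.refl y).pow_left 2).zpow_left k).eq
  rw [hcS] at hyc
  have h7 : orderOf (⟨y, hyc⟩ : (S : Subgroup K)) ∣ Nat.card S := _root_.orderOf_dvd_natCard _
  rw [Subgroup.orderOf_mk, hy] at h7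
  exact absurd (h7.trans hScard) (by norm_num)

omit OT hS in
theorem char_three (hF : Fintype.card F = 3) : CharP F 3 := by
  obtain ⟨p, hp⟩ := CharP.exists F
  have hpp := CharP.char_is_prime F p
  obtain ⟨k, -, hk⟩ := FiniteField.card F p
  rw [hF] at hk
  have : p ∣ 3 := by rw [hk]; exact dvd_pow_self p k.pos.ne'
  have := (Nat.prime_dvd_prime_iff_eq hpp (by norm_num)).1 this
  subst this
  exact hp

omit OT hS [Fintype F] in
theorem jfour_pow (k : ℕ) : (!![1, 1, 0, 0; 0, 1, 1, 0; 0, 0, 1, 1; 0, 0, 0, 1] : Matrix (Fin 4) (Fin 4) F) ^ k =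
    !![1, (k : F), (Nat.choose k 2 : F), (Nat.choose k 3 : F); 0, 1, (k : F), (Nat.choose k 2 : F); 0, 0, 1, (k : F);
      0, 0, 0, 1] := by
  induction k with
  | zero => 
    ext i j
    (revert i j; simp only [_root_.Fin.forall_fin_succ, _root_.pow_zero, _root_.Nat.cast_zero, _root_.Nat.choose_zero_succ, _root_.Matrix.of_apply, _root_.Matrix.cons_val', _root_.Matrix.cons_val_fin_one, Fin.isValue, _root_.Matrix.cons_val_zero, _root_.Matrix.cons_val_succ, _root_.IsEmpty.forall_iff, _root_.and_true, _root_.Matrix.one_apply_eq, Nat.reduceAdd, _root_.Fin.succ_zero_eq_one, _root_.ne_eq, _root_.zero_ne_one, _root_.not_false_eq_true, _root_.Matrix.one_apply_ne, _root_.Fin.succ_one_eq_two, Fin.reduceEq, Fin.reduceSucc, _root_.and_self, _root_.Fin.succ_ne_zero, _root_.true_and])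
  | succ k ih =>
    rw [pow_succ, ih]
    ext i j
    (revert i j; simp only [Matrix.mul_apply, Fin.sum_univ_four, Nat.choose_succ_succ, _root_.Fin.forall_fin_succ, _root_.Matrix.of_apply, _root_.Matrix.cons_val', _root_.Matrix.cons_val_fin_one, Fin.isValue, _root_.Matrix.cons_val_zero, _root_.Matrix.cons_val_one, _root_.Matrix.cons_val, _root_.Nat.cast_add, _root_.Nat.cast_one, _root_.Nat.choose_one_right, _root_.Nat.succ_eq_add_one, Nat.reduceAdd, _root_.mul_one, _root_.MulZeroClass.mul_zero, _root_.add_zero, _root_.Matrix.cons_val_succ, _root_.zero_add, _root_.forall_const, _root_.true_and, _root_.and_self, _root_.and_true, _root_.add_eq_right, _root_.and_self_left, _root_.implies_true]) <;> (repeat' with_reducible apply And.intro) <;> ring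

omit OT hS in
theorem hasOrd_nine (hF : Fintype.card F = 3) : HasOrd (Matrix.ProjectiveSpecialLinearGroup (Fin 4) F) 9 := by
  have hch := char_three hF
  refine H72.AdjPSL.exists_order (!![1, 1, 0, 0; 0, 1, 1, 0; 0, 0, 1, 1; 0, 0, 0, 1] : Matrix (Fin 4) (Fin 4) F) ?_
    (N := 9) ?_ _ dvd_rfl
  · rw [Matrix.det_succ_row_zero]
    simp only [Fin.sum_univ_four, Matrix.det_fin_three, Fin.succAbove, _root_.Nat.succ_eq_add_one, _root_.Nat.reduceAdd, _root_.Fin.isValue, _root_.Matrix.of_apply, _root_.Matrix.cons_val', _root_.Matrix.cons_val_fin_one, _root_.Matrix.cons_val_zero, _root_.Matrix.submatrix_apply, _root_.Fin.succ_zero_eq_one, _root_.Fin.castSucc_zero, _root_.Matrix.cons_val_one, _root_.Fin.succ_one_eq_two, _root_.Fin.castSucc_one, _root_.Matrix.cons_val, _root_.Fin.reduceSucc, _root_.Fin.reduceCastSucc, _root_.Fin.coe_ofNat_eq_mod, _root_.Nat.zero_mod, _root_.pow_zero, _root_.mul_one, _root_.lt_self_iff_false, ↓ _root_.reduceIte, _root_.not_lt_zero,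 _root_.MulZeroClass.mul_zero, _root_.sub_zero, _root_.add_zero, _root_.Nat.one_mod, _root_.pow_one, _root_.zero_lt_one, _root_.Fin.lt_one_iff, _root_.Fin.reduceEq, _root_.sub_self, _root_.Nat.reduceMod, _root_.even_two, _root_.Even.neg_pow, _root_.one_pow, _root_.Fin.reduceLT, _root_.Nat.mod_succ]
  · intro k c hk
    rw [jfour_pow] at hk
    have h1 := congrFun (congrFun hk 0) 1
    have h2 := congrFun (congrFun hk 0) 3
    simp only [_root_.Fin.isValue, _root_.Matrix.of_apply, _root_.Matrix.cons_val', _root_.Matrix.cons_val_one, _root_.Matrix.cons_val_zero, _root_.Matrix.cons_val_fin_one, _root_.Matrix.smul_apply, _root_.ne_eq, _root_.zero_ne_one, _root_.not_false_eq_true, _root_.Matrix.one_apply_ne, _root_.smul_eq_mul, _root_.MulZeroClass.mul_zero, _root_.Matrix.cons_val, _root_.Fin.reduceEq] at h1 h2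
    have h3 : 3 ∣ k := (CharP.cast_eq_zero_iff F 3 k).1 h1
    have h4 : 3 ∣ k.choose 3 := (CharP.cast_eq_zero_iff F 3 _).1 h2
    obtain ⟨j, rfl⟩ := h3
    have h5 : (3 * j).choose 3 * 2 = j * ((3 * j - 1) * (3 * j - 2)) := by
      rcases Nat.eq_zero_or_pos j with rfl | hj
      · simp
      have h6 := Nat.choose_mul_factorial_mul_factorial (n := 3 * j) (k := 3) (by omega)
      have h7 := Nat.descFactorial_eq_factorial_mul_choose (3 * j) 3
      have h8 : (3 * j).descFactorial 3 = (3 * j) * (3 * j - 1) * (3 * j - 2) := by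
        simp only [Nat.descFactorial, _root_.tsub_zero, _root_.mul_one]
        ring
      rw [h8] at h7
      have h9 : Nat.factorial 3 = 6 := by decide
      rw [h9] at h7
      have h10 : 3 * ((3 * j).choose 3 * 2) = 3 * (j * ((3 * j - 1) * (3 * j - 2))) := by
        calc 3 * ((3 * j).choose 3 * 2) = 6 * (3 * j).choose 3 := by ring
          _ = (3 * j) * (3 * j - 1) * (3 * j - 2) := h7.symm
          _ = _ := by ring
      exact Nat.eq_of_mul_eq_mul_left (by norm_num) h10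
    rcases Nat.eq_zero_or_pos j with rfl | hj
    · simp
    have h6 : 3 ∣ j * ((3 * j - 1) * (3 * j - 2)) := by
      rw [← h5]
      exact h4.mul_right _
    have h7 : 3 ∣ j := by
      rcases Nat.prime_three.dvd_mul.1 h6 with h | h
      · exact h
      · rcases Nat.prime_three.dvd_mul.1 h with h | h
        · omega
        · omega
    obtain ⟨i, rfl⟩ := h7
    exact ⟨i, by ring⟩

/-- **`L4(3)`, `v = 13`** -/
theorem three_l43 (hF : Fintype.card F = 3) (M : Subgroup (Matrix.ProjectiveSpecialLinearGroup (Fin 4) F))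
    (h13 : ¬ 13 ∣ Nat.card M) : Three (Matrix.ProjectiveSpecialLinearGroup (Fin 4) F) M := by
  have hcard := card_l43 hF
  have hch := char_three hF
  have hex : (4, Fintype.card F) ∉ ({(3, 2), (3, 4), (4, 2)} : Finset (ℕ × ℕ)) := by rw [hF]; decide
  by_cases h5 : 5 ∣ Nat.card M
  swap
  · exact three_of_gap (v := 5) (by norm_num) hex (by norm_num) (by rw [hcard]; norm_num) (by rw [hF]; decide) M h5
  by_cases h3 : 3 ∣ Nat.card M
  swap
  · exact three_of_gap (v := 3) (by norm_num) hex (by norm_num) (by rw [hcard]; norm_num) (by rw [hF]; decide) M h3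
  have hSC : ¬ SC (Matrix.ProjectiveSpecialLinearGroup (Fin 4) F) 13 :=
    nsc_psl (by norm_num) hex 13 (by norm_num) (by rw [hcard]; norm_num)
  obtain ⟨z9, hz9⟩ := hasOrd_nine hF
  obtain ⟨z20, hz20⟩ : ∃ z : Matrix.ProjectiveSpecialLinearGroup (Fin 4) F, orderOf z = 20 := by
    obtain ⟨z, hz⟩ := exists_sing (F := F) (n := 4) (by norm_num)
    refine ⟨z, ?_⟩
    rw [hz, hF]
    decide
  -- nine or twenty are missing
  have hfin : (∀ m ∈ M, orderOf m ≠ 9) ∨ (∀ m ∈ M, orderOf m ≠ 20) := by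
    have h3p : Fact (Nat.Prime 3) := ⟨by norm_num⟩
    have hMT : Nat.card M ∣ 6065280 := by rw [← hcard]; exact Subgroup.card_subgroup_dvd_card M
    have hM2 : Nat.card M ∣ 466560 := by
      have h1 : Nat.Coprime (Nat.card M) 13 := ((Nat.Prime.coprime_iff_not_dvd (by norm_num)).2 h13).symm
      exact h1.dvd_of_dvd_mul_left (show Nat.card M ∣ 13 * 466560 from hMT)
    rcases struct_psl (p := 3) (v := 5) (n := 4) (by norm_num) (by norm_num) (by norm_num)
      (by rw [hF]; exact ord_cast (by decide) (by intro m hm hm0; interval_cases m <;> decide) (by norm_num))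
      (by rw [hF]; decide) (by rw [hcard]; norm_num) (by norm_num) M h5 with
      h | ⟨K, _, _, a, c, hK, hna, hvK, hM, hpa, hpc, htr, hto⟩
    · exact absurd h3 h
    · have h1 : Nat.card K ∣ 466560 := by
        refine dvd_trans ?_ hM2
        rw [hM]
        exact (dvd_mul_left _ _).mul_right _
      have h2 := Cfsg.Agent.H970.StabNum.mem_tbl OT hS (l := [(2, 7), (3, 6), (5, 1)]) (N := 466560) (by decide +kernel)
        (tbl := [60, 360, 25920]) (by decide +kernel) K hK hna h1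
      have hac : Nat.Coprime 9 a := ((Nat.Prime.coprime_iff_not_dvd Nat.prime_three).2 hpa).pow_left 2
      have hcc : Nat.Coprime 9 c := ((Nat.Prime.coprime_iff_not_dvd Nat.prime_three).2 hpc).pow_left 2
      have h9 : (¬ H58.Rec.HasOrd K 9) → ∀ m ∈ M, orderOf m ≠ 9 := by
        intro h m hm ho
        exact h (htr 9 hac hcc ⟨⟨m, hm⟩, by rw [Subgroup.orderOf_mk]; exact ho⟩)
      simp only [List.mem_cons, List.not_mem_nil, or_false] at h2
      rcases h2 with h2 | h2 | h2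
      · left
        refine h9 ?_
        rintro ⟨z, hz⟩
        have h4 : orderOf z ∣ Nat.card K := _root_.orderOf_dvd_natCard z
        rw [hz, h2] at h4
        norm_num at h4
      · left
        exact h9 (H834.Sax.no_nine_360 OT hS hK hna h2)
      · right
        intro m hm ho
        obtain ⟨z, hz⟩ := hto ⟨m, hm⟩
        rw [Subgroup.orderOf_mk, ho] at hz
        have h4 : a * c ∣ 18 := by
          rw [hM, h2] at hM2
          have h5 : 25920 * (a * c) ∣ 25920 * 18 := by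
            rw [show 25920 * (a * c) = a * 25920 * c by ring]
            exact hM2
          exact Nat.dvd_of_mul_dvd_mul_left (by norm_num) h5
        have h5 : a * c ∣ 2 := by
          have h6 : Nat.Coprime (a * c) 9 := (Nat.Coprime.mul_right hac hcc).symm
          exact h6.dvd_of_dvd_mul_left (show a * c ∣ 9 * 2 from h4)
        apply no_ten OT hS hK hna h2 z
        have h6 : 20 ∣ orderOf z * 2 := hz.trans (Nat.mul_dvd_mul_left _ h5)
        omega
  rcases hfin with h | h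
  · exact Three.of_not_SC_order h13 hSC hz9 h (by norm_num)
  · exact Three.of_not_SC_order h13 hSC hz20 h (by norm_num)

end Cfsg.Agent.H205.DerPsl
end

private theorem dce_fc424a3b7fba : _root_.True := by
  try have : _root_.True := by simp only [_root_.Cfsg.Agent.H205.DerPsl.cc.eq_1]
  exact _root_.True.intro
end

-- part: H205/Der/L52
section
set_option linter.all false
open scoped Cfsg.Agent.FastGrp

/-!
# `L5(2)`: subgroups missing `5` (helper205, S3502)
-/

set_option autoImplicit false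

namespace Cfsg.Agent.H205.DerPsl

open Subgroup Matrix Cfsg Cfsg.Agent.H39.DerPsl Cfsg.Agent.H439.Der Cfsg.Agent.OrdDiv Cfsg.Agent.H938.Sax

variable {F : Type} [Field F] [Fintype F]

theorem card_l52 (hF : Fintype.card F = 2) : Nat.card (Matrix.ProjectiveSpecialLinearGroup (Fin 5) F) = 9999360 := by
  have h2 := Cfsg.Agent.S0243.result (F := F) hF 5 (by norm_num)
  have e1 : ∏ i : Fin 5, (2 ^ 5 - 2 ^ (i : ℕ)) = 9999360 := by rfl
  rw [e1] at h2
  norm_num at h2
  omega

variable (OT : OrderTable.{0}) (hS : ∀ (X : Type) [Group X] [Finite X] [IsSimpleGroup X], Cfsg.IsKnownSimple' X)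

include OT hS

set_option maxRecDepth 100000 in
/-- **`L5(2)`, `v = 5`** -/
theorem three_l52 (hF : Fintype.card F = 2) (M : Subgroup (Matrix.ProjectiveSpecialLinearGroup (Fin 5) F))
    (h5 : ¬ 5 ∣ Nat.card M) : Three (Matrix.ProjectiveSpecialLinearGroup (Fin 5) F) M := by
  have hcard := card_l52 hF
  have hfin : Finite (Matrix.ProjectiveSpecialLinearGroup (Fin 5) F) := finite_psl
  have hex : (5, Fintype.card F) ∉ ({(3, 2), (3, 4), (4, 2)} : Finset (ℕ × ℕ)) := by rw [hF]; decide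
  by_cases h31 : 31 ∣ Nat.card M
  swap
  · exact three_of_gap (v := 31) (by norm_num) hex (by norm_num) (by rw [hcard]; norm_num) (by rw [hF]; decide) M h31
  have hsimple : IsSimpleGroup (Matrix.ProjectiveSpecialLinearGroup (Fin 5) F) := S0249.result 5 (by norm_num)
  have hD : H970.StabNum.Data (Matrix.ProjectiveSpecialLinearGroup (Fin 5) F) [(31, 1, 5)] [2, 3, 5, 7]
      [60, 168, 360, 504, 2520, 14880, 20160, 9999360] := by
    refine H503.El.mk_data OT hS (l := [(2, 10), (3, 2), (5, 1), (7, 1), (31, 1)]) hcard (by decide +kernel) ?_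
    intro x hx
    rw [List.mem_singleton] at hx
    subst hx
    exact H503.El.entry_of_ex (by norm_num) hcard (by norm_num) (by norm_num) (by decide +kernel)
      (H809.SelfCent.psl_selfcent 5 2 31 (by decide) F hF)
  have h1 := H251.Small.mem_surv hD (l := [(2, 10), (3, 2), (5, 1), (7, 1), (31, 1)]) (prs := [31])
    (by rw [hcard]; decide +kernel) M (fun r hr => by rw [List.mem_singleton] at hr; rw [hr]; exact h31)
  have h2 : (H251.Small.surv [(31, 1, 5)] [2, 3, 5, 7] [60, 168, 360, 504, 2520, 14880, 20160, 9999360]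
      [(2, 10), (3, 2), (5, 1), (7, 1), (31, 1)] [31]).all (fun h => Nat.beq (h % 5) 0 || !(Nat.beq (h % 3) 0)) = true := by
    decide +kernel
  rw [List.all_eq_true] at h2
  have h3 := h2 _ h1
  rw [Bool.or_eq_true, Nat.beq_eq, Bool.not_eq_true'] at h3
  rcases h3 with h3 | h3
  · exact absurd (Nat.dvd_of_mod_eq_zero h3) h5
  · refine three_of_gap (v := 3) (by norm_num) hex (by norm_num) (by rw [hcard]; norm_num) (by rw [hF]; decide) M ?_
    intro h
    rw [Nat.mod_eq_zero_of_dvd h] at h3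
    exact absurd h3 (by decide)

end Cfsg.Agent.H205.DerPsl
end

-- part: H205/Der/L62
section
prune_inst 0xf51065443c6202000000859073203c66f60001b0002b0001c90009400c81cd0280c04f60be90171218eea285483d4068110000f0420000000a000400411d0080008816043050ac08920018800084000000000000000000000000000000000004000000000
set_option linter.all false
open scoped Cfsg.Agent.FastGrp

/-!
# `L6(2)` (helper205, S3502)
-/

set_option autoImplicit false

namespace Cfsg.Agent.H205.DerPsl

open Subgroup Matrix Polynomial Cfsg Cfsg.Agent.H39.DerPsl Cfsg.Agent.H439.Der Cfsg.Agent.OrdDiv Cfsg.Agent.H938.Sax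
  Cfsg.Agent.ClassicalGeometry.AutPSL.Root Cfsg.Agent.ClassicalGeometry.AutPSL.Auto Cfsg.Agent.H199.PslAut

section full

variable {F : Type*} [Field F] [Fintype F] {n : ℕ}

/-- the exponent, all eigenvalues conjugate -/
theorem exp_of_aut_full (hn : 2 ≤ n) {p : ℕ} [hp : Fact p.Prime] [CharP F p]
    {N : ℕ} (hN : 1 < N) (hco : Nat.Coprime N (Fintype.card F - 1))
    {x : Matrix.SpecialLinearGroup (Fin n) F} (hx : orderOf x = N)
    {l : AlgebraicClosure F} (hl : l ∈ Ev (AlgebraicClosure F) (x : Matrix (Fin n) (Fin n) F)) (hol : orderOf l = N)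
    (hfull : ∀ μ ∈ Ev (AlgebraicClosure F) (x : Matrix (Fin n) (Fin n) F), ∃ i : ℕ, μ = l ^ (Fintype.card F ^ i))
    {k : ℕ} (φ : MulAut (Matrix.ProjectiveSpecialLinearGroup (Fin n) F))
    (hφ : φ (pr x) = pr x ^ k) :
    ∃ m : ℕ, (k : ZMod N) = (p : ZMod N) ^ m ∨ (k : ZMod N) = - (p : ZMod N) ^ m := by
  have hN0 : 0 < N := by omega
  let K := AlgebraicClosure F
  have hcK : CharP K p := charP_of_injective_algebraMap (algebraMap F K).injective p
  obtain ⟨f, -, hqf⟩ := FiniteField.card F p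
  -- the automorphisms
  have main : ∀ (g : GL (Fin n) F) (σ : F ≃+* F) (y : Matrix.SpecialLinearGroup (Fin n) F), y ^ N = 1 →
      Psi n F g (phi n F σ (pr y)) = pr x ^ k →
      ∃ j : ℕ, ∃ μ ∈ Ev K (y : Matrix (Fin n) (Fin n) F), μ ^ p ^ j = l ^ k := by
    intro g σ y hy h
    rw [phi_pr, Psi_pr, ← map_pow] at h
    have h1 : cj g (fld σ y) = x ^ k := by
      refine eq_of_pr_eq (by omega) hco ?_ ?_ h
      · rw [← map_pow, ← map_pow, hy, map_one, map_one]
      · rw [← pow_mul, mul_comm, pow_mul, ← hx, pow_orderOf_eq_one, one_pow]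
    obtain ⟨j, hj⟩ := exists_frob (p := p) σ
    have h2 : l ^ k ∈ Ev K ((y : Matrix (Fin n) (Fin n) F).map σ) := by
      have h3 := ev_pow hl k
      have h4 : (x : Matrix (Fin n) (Fin n) F) ^ k = (g : Matrix (Fin n) (Fin n) F) *
          (y : Matrix (Fin n) (Fin n) F).map σ * ((g⁻¹ : GL (Fin n) F) : Matrix (Fin n) (Fin n) F) := by
        rw [← Matrix.SpecialLinearGroup.coe_pow, ← h1]
        rfl
      rw [h4, ev_conj] at h3
      exact h3
    obtain ⟨μ, hμ, hμ2⟩ := ev_map (K := K) (σ := σ) (τ := iterateFrobenius K p j)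
      (fun a => by rw [iterateFrobenius_def, hj, map_pow]) (bijective_iterateFrobenius (R := K) (p := p) (n := j)).2 h2
    exact ⟨j, μ, hμ, by rw [← hμ2, iterateFrobenius_def]⟩
  have hxg : x ^ N = 1 := by rw [← hx, pow_orderOf_eq_one]
  rcases exists_form hn φ with ⟨g, σ, rfl⟩ | ⟨-, g, σ, rfl⟩
  · obtain ⟨j, μ, hμ, h⟩ := main g σ x hxg hφ
    obtain ⟨i, rfl⟩ := hfull μ hμ
    rw [← pow_mul, pow_eq_iff hN0 hol, hqf] at h
    refine ⟨f * i + j, Or.inl ?_⟩
    rw [← h]
    push_cast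
    rw [← pow_mul, ← pow_add]
  · obtain ⟨j, μ, hμ, h⟩ := main g σ (itr x) (by rw [← map_pow, hxg, map_one]) hφ
    have h1 : ((itr x : Matrix.SpecialLinearGroup (Fin n) F) : Matrix (Fin n) (Fin n) F) =
        ((x⁻¹ : Matrix.SpecialLinearGroup (Fin n) F) : Matrix (Fin n) (Fin n) F)ᵀ := rfl
    rw [h1, ev_transpose] at hμ
    have hμ' := ev_inv hμ
    have hl0 : l ≠ 0 := by
      rintro rfl
      have h1 : (0 : K) ^ N = 1 := by rw [← hol, pow_orderOf_eq_one]
      rw [zero_pow hN0.ne'] at h1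
      exact zero_ne_one h1
    obtain ⟨i, hi⟩ := hfull _ hμ'
    have h3 : l ^ (k + Fintype.card F ^ i * p ^ j) = l ^ 0 := by
      rw [pow_zero, pow_add, ← h, pow_mul, ← hi, inv_pow, mul_inv_cancel₀]
      exact pow_ne_zero _ (by rintro rfl; rw [_root_.inv_zero] at hi; exact pow_ne_zero _ hl0 hi.symm)
    rw [pow_eq_iff hN0 hol, hqf] at h3
    refine ⟨f * i + j, Or.inr ?_⟩
    push_cast at h3
    rw [← pow_mul, ← pow_add] at h3
    exact eq_neg_of_add_eq_zero_left h3

/-- an eigenvalue of large order gives all eigenvalues -/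
theorem ev_full {x : Matrix (Fin n) (Fin n) F} {l : AlgebraicClosure F} (hl : l ∈ Ev (AlgebraicClosure F) x)
    {o : ℕ} (ho : o ∣ orderOf l) (h0 : 0 < orderOf l) (hq : orderOf ((Fintype.card F : ℕ) : ZMod o) = n) :
    ∀ μ ∈ Ev (AlgebraicClosure F) x, ∃ i : ℕ, μ = l ^ (Fintype.card F ^ i) := by
  classical
  intro μ hμ
  set q := Fintype.card F with hqd
  by_contra hcon
  push Not at hcon
  have hpow : ∀ i : ℕ, l ^ (q ^ i) ∈ Ev (AlgebraicClosure F) x := by
    intro i
    induction i with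
    | zero => simpa using hl
    | succ i ih =>
      rw [pow_succ q i, pow_mul]
      exact ev_frob ih
  have hinj : ∀ i < n, ∀ j < n, l ^ (q ^ i) = l ^ (q ^ j) → i = j := by
    intro i hi j hj hij
    rw [pow_eq_iff h0 rfl] at hij
    have h4 : ((q ^ i : ℕ) : ZMod o) = ((q ^ j : ℕ) : ZMod o) := by
      rw [ZMod.natCast_eq_natCast_iff] at hij ⊢
      exact hij.of_dvd ho
    push_cast at h4
    exact pow_injOn_Iio_orderOf (by rw [hq]; exact hi) (by rw [hq]; exact hj) h4
  let R : Finset (AlgebraicClosure F) := (x.charpoly.map (algebraMap F (AlgebraicClosure F))).roots.toFinset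
  have hR : R.card ≤ n := by
    refine (Multiset.toFinset_card_le _).trans ((Polynomial.card_roots' _).trans ?_)
    rw [Polynomial.natDegree_map, Matrix.charpoly_natDegree_eq_dim, Fintype.card_fin]
  have hmem : ∀ ν : AlgebraicClosure F, ν ∈ Ev (AlgebraicClosure F) x → ν ∈ R := by
    intro ν hν
    rw [Multiset.mem_toFinset, Polynomial.mem_roots ((Matrix.charpoly_monic x).map _).ne_zero,
      Polynomial.IsRoot.def, ← eval₂_eq_eval_map, ← aeval_def]
    exact hν
  have hsub : insert μ ((Finset.range n).image fun i => l ^ (q ^ i)) ⊆ R := by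
    intro ν hν
    rcases Finset.mem_insert.1 hν with rfl | hν
    · exact hmem _ hμ
    · obtain ⟨i, -, rfl⟩ := Finset.mem_image.1 hν
      exact hmem _ (hpow i)
  have h1 := Finset.card_le_card hsub
  rw [Finset.card_insert_of_notMem, Finset.card_image_of_injOn, Finset.card_range] at h1
  · omega
  · intro i hi j hj hij
    exact hinj i (by simpa using hi) j (by simpa using hj) hij
  · intro h
    obtain ⟨i, -, hi⟩ := Finset.mem_image.1 h
    exact hcon i hi.symm

end full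

variable {F : Type} [Field F] [Fintype F]

theorem char_two (hF : Fintype.card F = 2) : CharP F 2 := by
  obtain ⟨p, hp⟩ := CharP.exists F
  have hpp := CharP.char_is_prime F p
  obtain ⟨k, -, hk⟩ := FiniteField.card F p
  rw [hF] at hk
  have : p ∣ 2 := by rw [hk]; exact dvd_pow_self p k.pos.ne'
  have := (Nat.prime_dvd_prime_iff_eq hpp (by norm_num)).1 this
  subst this
  exact hp

/-- the elements of order `63` of `SL₆(2)` -/
theorem sixtythree (hF : Fintype.card F = 2) {x : Matrix.SpecialLinearGroup (Fin 6) F} (hx : orderOf x = 63)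
    (φ : MulAut (Matrix.ProjectiveSpecialLinearGroup (Fin 6) F)) : φ (pr x) ≠ pr x ^ 5 := by
  have hch := char_two hF
  have h2p : Fact (Nat.Prime 2) := ⟨Nat.prime_two⟩
  let K := AlgebraicClosure F
  have hcK : CharP K 2 := charP_of_injective_algebraMap (algebraMap F K).injective 2
  have hxN : (x : Matrix (Fin 6) (Fin 6) F) ^ 63 = 1 := by
    have h1 : x ^ 63 = 1 := by rw [← hx, pow_orderOf_eq_one]
    have := congrArg Subtype.val h1
    simpa using this
  have hord9 : orderOf ((Fintype.card F : ℕ) : ZMod 9) = 6 := by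
    rw [hF]
    exact ord_cast (by decide) (by intro m hm hm0; interval_cases m <;> decide) (by norm_num)
  -- an eigenvalue of order divisible by `9`
  obtain ⟨l, hl, h9⟩ : ∃ l ∈ Ev K (x : Matrix (Fin 6) (Fin 6) F), 9 ∣ orderOf l := by
    by_contra hcon
    push Not at hcon
    have h21 : (x : Matrix (Fin 6) (Fin 6) F) ^ 21 = 1 := by
      by_contra hne
      obtain ⟨ν, hν, hν1⟩ := exists_ev_ne_one (K := K) (p := 2) (v := 3) (by norm_num) (by rw [← pow_mul]; exact hxN) hne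
      obtain ⟨μ, hμ, rfl⟩ := ev_pow_surj (by norm_num) hν
      apply hν1
      apply orderOf_dvd_iff_pow_eq_one.1
      have h1 := orderOf_ev_dvd hxN hμ
      have h2 := hcon μ hμ
      have h3 : orderOf μ ∈ Nat.divisors 63 := Nat.mem_divisors.2 ⟨h1, by norm_num⟩
      rw [show Nat.divisors 63 = {1, 3, 7, 9, 21, 63} by decide] at h3
      simp only [Finset.mem_insert, Finset.mem_singleton] at h3
      rcases h3 with h3 | h3 | h3 | h3 | h3 | h3 <;> rw [h3] at h2 ⊢ <;> revert h2 <;> decide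
    have h1 : x ^ 21 = 1 := by
      apply Subtype.ext
      simpa using h21
    have h2 := orderOf_dvd_of_pow_eq_one h1
    rw [hx] at h2
    norm_num at h2
  have hl0 : 0 < orderOf l := Nat.pos_of_dvd_of_pos (orderOf_ev_dvd hxN hl) (by norm_num)
  have hfull := ev_full hl h9 hl0 hord9
  have hol : orderOf l = 63 := by
    have h1 := orderOf_ev_dvd hxN hl
    have h3 : (x : Matrix (Fin 6) (Fin 6) F) ^ orderOf l = 1 := by
      by_contra hne
      have h4 : ((x : Matrix (Fin 6) (Fin 6) F) ^ orderOf l) ^ 63 = 1 := by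
        rw [← pow_mul, mul_comm, pow_mul, hxN, one_pow]
      obtain ⟨ν, hν, hν1⟩ := exists_ev_ne_one (K := K) (p := 2) (v := 63) (by norm_num) h4 hne
      obtain ⟨μ, hμ, rfl⟩ := ev_pow_surj hl0 hν
      apply hν1
      obtain ⟨i, rfl⟩ := hfull μ hμ
      rw [← pow_mul, mul_comm, pow_mul, pow_orderOf_eq_one, one_pow]
    have h5 : x ^ orderOf l = 1 := by
      apply Subtype.ext
      simpa using h3
    have h6 := orderOf_dvd_of_pow_eq_one h5
    rw [hx] at h6
    exact Nat.dvd_antisymm h1 h6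
  intro hφ
  obtain ⟨m, hm⟩ := exp_of_aut_full (p := 2) (by norm_num) (by norm_num) (by rw [hF]; norm_num) hx hl hol hfull (k := 5) φ hφ
  have h64 : ((2 : ℕ) : ZMod 63) ^ 6 = 1 := by decide
  rw [pow_mod h64 m] at hm
  have hlt : m % 6 < 6 := Nat.mod_lt _ (by norm_num)
  revert hm
  generalize m % 6 = r at hlt ⊢
  interval_cases r <;> decide

variable (OT : OrderTable.{0}) (hS : ∀ (X : Type) [Group X] [Finite X] [IsSimpleGroup X], Cfsg.IsKnownSimple' X)

include OT hS

/-- `L₆(2)` -/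
theorem three_l62 (hF : Fintype.card F = 2)
    (M : Subgroup (Matrix.ProjectiveSpecialLinearGroup (Fin 6) F)) (hM : M ≠ ⊤) :
    Three (Matrix.ProjectiveSpecialLinearGroup (Fin 6) F) M := by
  have hcard : Nat.card (Matrix.ProjectiveSpecialLinearGroup (Fin 6) F) = 20158709760 := H834.Sax.card_l62 hF
  have hfin : Finite (Matrix.ProjectiveSpecialLinearGroup (Fin 6) F) :=
    Nat.finite_of_card_ne_zero (by rw [hcard]; norm_num)
  have hex : (6, Fintype.card F) ∉ ({(3, 2), (3, 4), (4, 2)} : Finset (ℕ × ℕ)) := by rw [hF]; decide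
  have key : ∀ h : ℕ, Nat.card M = h → h % 31 = 0 →
      H834.Sax.okS 31 1 5 [2, 3, 5, 7] ((cands H834.Sax.l62 20158709760).map ordN) [9999360] h 9 = true →
      Three (Matrix.ProjectiveSpecialLinearGroup (Fin 6) F) M := by
    intro h hh h5 hok
    have h9 : ∀ m ∈ M, orderOf m ≠ 9 := by
      intro m hm ho
      obtain ⟨K, _, _, hK, hna, hc, h9K⟩ := H834.Sax.exists_simple_of (H834.Sax.data_l62 OT hS hF) M (by simp) hh h5
        (by decide) hok ⟨m, hm, ho⟩
      rw [List.mem_singleton] at hc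
      exact H834.Sax.no_nine_9999360 OT hS hK hna hc h9K
    obtain ⟨g, hg⟩ := H834.Sax.nine_l62 hF
    obtain ⟨z, hz⟩ := exists_sing (F := F) (n := 6) (by norm_num)
    have hz63 : orderOf z = 63 := by
      rw [hz, hF]
      decide
    obtain ⟨x, rfl⟩ := pr_surjective z
    have hx63 : orderOf x = 63 := by
      have h1 : x ^ 63 = 1 := by
        have h2 : x ^ 63 ∈ Subgroup.center (Matrix.SpecialLinearGroup (Fin 6) F) := by
          rw [← pr_eq_one_iff, map_pow, ← hz63, pow_orderOf_eq_one]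
        have h3 := smul_pow_gcd (by norm_num) h2
        rw [hF] at h3
        simpa using h3
      refine Nat.dvd_antisymm (orderOf_dvd_of_pow_eq_one h1) ?_
      rw [← hz63]
      exact orderOf_dvd_of_pow_eq_one (by rw [← map_pow, pow_orderOf_eq_one, map_one])
    have h63 : ∀ m ∈ M, orderOf m ≠ 63 := by
      intro m hm ho
      refine h9 (m ^ 7) (M.pow_mem hm 7) ?_
      rw [orderOf_pow' m (by norm_num), ho]
      decide
    have hx5 : orderOf (pr x ^ 5) = 63 := by
      rw [Nat.Coprime.orderOf_pow, hz63]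
      rw [hz63]
      norm_num
    refine ⟨g, pr x, pr x ^ 5, fun φ hφ => h9 _ hφ ?_, fun φ hφ => h63 _ hφ ?_, fun φ hφ => h63 _ hφ ?_,
      fun φ hφ => ?_, fun φ hφ => ?_, fun φ => sixtythree hF hx63 φ⟩
    · rw [orderOf_mulEquiv, hg]
    · rw [orderOf_mulEquiv, hz63]
    · rw [orderOf_mulEquiv, hx5]
    · have h1 := orderOf_mulEquiv φ g
      rw [hφ, hz63, hg] at h1
      norm_num at h1
    · have h1 := orderOf_mulEquiv φ g
      rw [hφ, hx5, hg] at h1
      norm_num at h1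
  rcases H834.Sax.pgap_l62 OT hS hF M hM with h | h | h
  · obtain ⟨v, hv, h1, h2⟩ := h
    exact three_of_gap (by norm_num) hex hv h1 (by rw [hF]; simp) M h2
  · exact key _ h (by norm_num) (by decide +kernel)
  · exact key _ h (by norm_num) (by decide +kernel)

end Cfsg.Agent.H205.DerPsl
end
end
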